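import Mathlib.GroupTheory.PGroup
import Mathlib.GroupTheory.GroupAction.ConjAct
import Mathlib.GroupTheory.SpecificGroups.Cyclic
import Mathlib.GroupTheory.IndexNormal

set_option autoImplicit false

namespace Cfsg.Agent.Lib.Helper63

variable {S : Type*} [Group S]

/-- A normal subgroup of prime order `p` in a finite `p`-group is central. -/
theorem normal_card_prime_le_center [Finite S] {p : ℕ} [hp : Fact p.Prime] (hS : IsPGroup p S)
    (N : Subgroup S) [N.Normal] (hN : Nat.card N = p) : N ≤ Subgroup.center S := by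
  classical
  have hS' : IsPGroup p (ConjAct S) := hS
  have h1 : (1 : N) ∈ MulAction.fixedPoints (ConjAct S) N := by
    intro g
    exact smul_one g
  have hdvd : p ∣ Nat.card N := by rw [hN]
  obtain ⟨b, hb, hne⟩ := hS'.exists_fixed_point_of_prime_dvd_card_of_fixed_point (α := N) hdvd h1
  have hbc : (b : S) ∈ Subgroup.center S := by
    rw [Subgroup.mem_center_iff]
    intro g
    have := hb (ConjAct.toConjAct g)
    have h2 := congrArg (fun x : N => (x : S)) this
    simp only [ConjAct.Subgroup.val_conj_smul, ConjAct.smul_def, ConjAct.ofConjAct_toConjAct] at h2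
    calc g * (b : S) = (g * (b : S) * g⁻¹) * g := by group
      _ = (b : S) * g := by rw [h2]
  have htop : Subgroup.zpowers b = ⊤ := zpowers_eq_top_of_prime_card hN (Ne.symm hne)
  intro x hx
  have hx' : (⟨x, hx⟩ : N) ∈ Subgroup.zpowers b := by rw [htop]; trivial
  obtain ⟨k, hk⟩ := hx'
  have : x = (b : S) ^ k := by
    have := congrArg (fun y : N => (y : S)) hk
    simpa using this.symm
  rw [this]
  exact Subgroup.zpow_mem _ hbc k

/-- A subgroup of index `p` in a finite `p`-group is normal. -/
theorem normal_of_index_eq_prime [Finite S] {p : ℕ} [hp : Fact p.Prime] (hS : IsPGroup p S)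
    (Q : Subgroup S) (hQ : Q.index = p) : Q.Normal := by
  apply Subgroup.normal_of_index_eq_minFac_card
  obtain ⟨n, hn⟩ := (IsPGroup.iff_card).1 hS
  rw [hQ, hn]
  have hn0 : n ≠ 0 := by
    rintro rfl
    have h1 : Nat.card S = 1 := by simpa using hn
    have : Q.index ∣ Nat.card S := Subgroup.index_dvd_card Q
    rw [hQ, h1] at this
    exact hp.out.one_lt.ne' (Nat.dvd_one.1 this)
  rw [Nat.Prime.pow_minFac hp.out hn0]

end Cfsg.Agent.Lib.Helper63
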