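import Mathlib

set_option autoImplicit false

/-!
An element of finite order lies in a subgroup as soon as all its powers of prime power order do.
-/

namespace Cfsg.Agent.Lib.Helper63

theorem mem_of_prime_power_parts_aux {G : Type*} [Group G] (M : Subgroup G) :
    ∀ (n : ℕ) (y : G), orderOf y = n → 0 < n →
      (∀ (s k j : ℕ), s.Prime → orderOf (y ^ k) = s ^ j → y ^ k ∈ M) → y ∈ M := by
  intro n
  induction n using Nat.strong_induction_on with
  | _ n ih =>
  intro y hy hpos h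
  by_cases h1 : n = 1
  · rw [h1, orderOf_eq_one_iff] at hy
    rw [hy]; exact M.one_mem
  obtain ⟨s, hs, hsn⟩ := Nat.exists_prime_and_dvd h1
  obtain ⟨e, m, hsm, hn⟩ := Nat.exists_eq_pow_mul_and_not_dvd hpos.ne' s hs.ne_one
  have hm0 : m ≠ 0 := by
    rintro rfl
    exact hsm (dvd_zero s)
  have hmpos : 0 < m := Nat.pos_of_ne_zero hm0
  have he : e ≠ 0 := by
    rintro rfl
    rw [pow_zero, one_mul] at hn
    exact hsm (hn ▸ hsn)
  have hse : 0 < s ^ e := pow_pos hs.pos e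
  have hse2 : 2 ≤ s ^ e := by
    calc 2 ≤ s := hs.two_le
      _ = s ^ 1 := (pow_one s).symm
      _ ≤ s ^ e := Nat.pow_le_pow_right hs.pos (Nat.one_le_iff_ne_zero.2 he)
  have ho1 : orderOf (y ^ m) = s ^ e := by
    rw [orderOf_pow' _ hm0, hy, hn, Nat.gcd_mul_left_left, Nat.mul_div_cancel _ hmpos]
  have hy1 : y ^ m ∈ M := h s m e hs ho1
  have ho2 : orderOf (y ^ (s ^ e)) = m := by
    rw [orderOf_pow' _ hse.ne', hy, hn, Nat.gcd_mul_right_left, Nat.mul_div_cancel_left _ hse]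
  have hm_lt : m < n := by
    rw [hn]
    calc m = 1 * m := (one_mul m).symm
      _ < s ^ e * m := Nat.mul_lt_mul_of_pos_right (by omega) hmpos
  have hy2 : y ^ (s ^ e) ∈ M := by
    refine ih m hm_lt (y ^ (s ^ e)) ho2 hmpos ?_
    intro s' k j hs' hk
    rw [← pow_mul] at hk ⊢
    exact h s' _ j hs' hk
  have hcop : Nat.Coprime m (s ^ e) :=
    (Nat.Coprime.pow_left e ((Nat.Prime.coprime_iff_not_dvd hs).2 hsm)).symm
  have hy' : y = (y ^ m) ^ (m.gcdA (s ^ e)) * (y ^ (s ^ e)) ^ (m.gcdB (s ^ e)) := by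
    rw [← zpow_natCast y m, ← zpow_natCast y (s ^ e), ← zpow_mul, ← zpow_mul, ← zpow_add,
      ← Nat.gcd_eq_gcd_ab, hcop, Nat.cast_one, zpow_one]
  rw [hy']
  exact M.mul_mem (M.zpow_mem hy1 _) (M.zpow_mem hy2 _)

/-- if every power of `y` of prime power order lies in `M`, so does `y` -/
theorem mem_of_prime_power_parts {G : Type*} [Group G] [Finite G] (M : Subgroup G) (y : G)
    (h : ∀ (s k j : ℕ), s.Prime → orderOf (y ^ k) = s ^ j → y ^ k ∈ M) : y ∈ M :=
  mem_of_prime_power_parts_aux M _ y rfl (orderOf_pos y) h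

end Cfsg.Agent.Lib.Helper63
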