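import Mathlib.GroupTheory.Index
import Mathlib.Data.Set.Card
import Mathlib.Algebra.Group.Pointwise.Set.Basic
import Mathlib.Tactic.Group

set_option autoImplicit false

namespace Cfsg.Agent.Lib.Helper63

open scoped Pointwise

variable {X : Type*} [Group X]

/-- `|AB| * |A ∩ B| = |A| * |B|` for subgroups of a finite group. -/
theorem card_prodSet_mul_card_inf [Finite X] (A B : Subgroup X) :
    Nat.card ((A : Set X) * (B : Set X) : Set X) * Nat.card ↥(A ⊓ B) = Nat.card A * Nat.card B := by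
  classical
  rw [← Nat.card_prod, ← Nat.card_prod]
  have hch : ∀ x : ((A : Set X) * (B : Set X) : Set X), ∃ ab : A × B, (ab.1 : X) * (ab.2 : X) = x := by
    rintro ⟨x, a, ha, b, hb, rfl⟩
    exact ⟨(⟨a, ha⟩, ⟨b, hb⟩), rfl⟩
  choose s hs using hch
  apply Nat.card_congr
  refine Equiv.ofBijective
    (fun xc : ((A : Set X) * (B : Set X) : Set X) × ↥(A ⊓ B) =>
      ((⟨((s xc.1).1 : X) * (xc.2 : X), A.mul_mem (s xc.1).1.2 xc.2.2.1⟩ : A),
       (⟨(xc.2 : X)⁻¹ * ((s xc.1).2 : X), B.mul_mem (B.inv_mem xc.2.2.2) (s xc.1).2.2⟩ : B)))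
    ⟨?_, ?_⟩
  · rintro ⟨x, c⟩ ⟨x', c'⟩ h
    simp only [Prod.mk.injEq, Subtype.mk.injEq] at h
    obtain ⟨h1, h2⟩ := h
    have hx : (x : X) = (x' : X) := by
      rw [← hs x, ← hs x']
      calc ((s x).1 : X) * ((s x).2 : X)
          = (((s x).1 : X) * (c : X)) * ((c : X)⁻¹ * ((s x).2 : X)) := by group
        _ = (((s x').1 : X) * (c' : X)) * ((c' : X)⁻¹ * ((s x').2 : X)) := by rw [h1, h2]
        _ = ((s x').1 : X) * ((s x').2 : X) := by group
    have hx' : x = x' := Subtype.ext hx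
    subst hx'
    have hc : (c : X) = (c' : X) := mul_left_cancel h1
    have : c = c' := Subtype.ext hc
    rw [this]
  · rintro ⟨a, b⟩
    have hx : (a : X) * (b : X) ∈ ((A : Set X) * (B : Set X) : Set X) :=
      Set.mul_mem_mul a.2 b.2
    set x : ((A : Set X) * (B : Set X) : Set X) := ⟨(a : X) * (b : X), hx⟩ with hxdef
    have hsx : ((s x).1 : X) * ((s x).2 : X) = (a : X) * (b : X) := hs x
    have hcA : ((s x).1 : X)⁻¹ * (a : X) ∈ A := A.mul_mem (A.inv_mem (s x).1.2) a.2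
    have hceq : ((s x).1 : X)⁻¹ * (a : X) = ((s x).2 : X) * (b : X)⁻¹ := by
      have : (a : X) = ((s x).1 : X) * ((s x).2 : X) * (b : X)⁻¹ := by rw [hsx]; group
      rw [this]; group
    have hcB : ((s x).1 : X)⁻¹ * (a : X) ∈ B := by
      rw [hceq]; exact B.mul_mem (s x).2.2 (B.inv_mem b.2)
    refine ⟨(x, ⟨((s x).1 : X)⁻¹ * (a : X), hcA, hcB⟩), ?_⟩
    simp only [Prod.mk.injEq]
    constructor
    · apply Subtype.ext
      show ((s x).1 : X) * (((s x).1 : X)⁻¹ * (a : X)) = a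
      group
    · apply Subtype.ext
      show (((s x).1 : X)⁻¹ * (a : X))⁻¹ * ((s x).2 : X) = b
      rw [hceq]; group

/-- If `U, V ≤ W` then `|U| |V| ≤ |W| |U ∩ V|`, with equality only if `W = UV`. -/
theorem card_mul_le_of_le [Finite X] (U V W : Subgroup X) (hU : U ≤ W) (hV : V ≤ W) :
    Nat.card U * Nat.card V ≤ Nat.card W * Nat.card ↥(U ⊓ V) ∧
    (Nat.card U * Nat.card V = Nat.card W * Nat.card ↥(U ⊓ V) →
      ∀ w ∈ W, ∃ u ∈ U, ∃ v ∈ V, w = u * v) := by
  classical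
  have hsub : ((U : Set X) * (V : Set X) : Set X) ⊆ (W : Set X) := by
    rintro x ⟨u, hu, v, hv, rfl⟩
    exact W.mul_mem (hU hu) (hV hv)
  have h1 := card_prodSet_mul_card_inf U V
  have hle : Nat.card ((U : Set X) * (V : Set X) : Set X) ≤ Nat.card W := by
    have := Set.ncard_le_ncard hsub (Set.toFinite _)
    rwa [← Nat.card_coe_set_eq, ← Nat.card_coe_set_eq] at this
  have hpos : 0 < Nat.card ↥(U ⊓ V) := Nat.card_pos
  constructor
  · rw [← h1]
    exact Nat.mul_le_mul_right _ hle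
  · intro heq
    rw [← h1] at heq
    have hcard : Nat.card ((U : Set X) * (V : Set X) : Set X) = Nat.card W :=
      Nat.eq_of_mul_eq_mul_right hpos heq
    have hset : ((U : Set X) * (V : Set X) : Set X) = (W : Set X) := by
      apply Set.eq_of_subset_of_ncard_le hsub _ (Set.toFinite _)
      rw [← Nat.card_coe_set_eq, ← Nat.card_coe_set_eq]
      exact hcard.ge
    intro w hw
    have : w ∈ ((U : Set X) * (V : Set X) : Set X) := by rw [hset]; exact hw
    obtain ⟨u, hu, v, hv, rfl⟩ := this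
    exact ⟨u, hu, v, hv, rfl⟩

end Cfsg.Agent.Lib.Helper63
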