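import Mathlib
import Cfsg.Prelude.Def_OddOrderLocal
import Cfsg.Agent.Lib.Helper63.ProdCard
import Cfsg.Agent.Lib.Helper49.RankOneCyclic

/-!
# Bender–Glauberman, section 10: consequences of the Uniqueness Theorem

Everything here is proved from `UniqStmt G`, the statement of the Uniqueness Theorem (B&G 9.6) for `G`.
-/

set_option autoImplicit false

namespace Cfsg.Agent.Lib.Helper63.BG10

open Subgroup Cfsg
open scoped Pointwise

variable {G : Type*} [Group G]

/-- The Uniqueness Theorem (B&G 9.6) for `G`, as a proposition. -/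
def UniqStmt (G : Type*) [Group G] : Prop :=
  ∀ K : Subgroup G, K ≠ ⊤ → ¬ RankLE 1 K →
    (¬ RankLE 2 K ∨ ¬ RankLE 2 (centralizer (K : Set G))) → InUniqueMaximal K

theorem center_eq_bot (hG : IsMinSimpleOddOrder G) : center G = ⊥ := by
  obtain ⟨_, hs, hnc, _⟩ := hG
  have := hs
  rcases (inferInstance : (center G).Normal).eq_bot_or_eq_top with h | h
  · exact h
  · exfalso
    apply hnc
    refine ⟨⟨fun a b => ?_⟩⟩
    have hb : b ∈ center G := h ▸ mem_top b
    exact (mem_center_iff.mp hb a)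

theorem centralizer_ne_top (hG : IsMinSimpleOddOrder G) {A : Subgroup G} (hA : A ≠ ⊥) :
    centralizer (A : Set G) ≠ ⊤ := by
  intro h
  apply hA
  rw [eq_bot_iff, ← center_eq_bot hG]
  intro a ha
  rw [mem_center_iff]
  intro g
  have hg : g ∈ centralizer (A : Set G) := h ▸ mem_top g
  exact (mem_centralizer_iff.mp hg a ha).symm

theorem normalizer_ne_top (hG : IsMinSimpleOddOrder G) {A : Subgroup G} (hA : A ≠ ⊥)
    (hA' : A ≠ ⊤) : normalizer (A : Set G) ≠ ⊤ := by
  intro h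
  obtain ⟨_, hs, _, _⟩ := hG
  have := hs
  have hn : A.Normal := normalizer_eq_top_iff.mp h
  rcases hn.eq_bot_or_eq_top with h | h
  exacts [hA h, hA' h]

/-- a proper overgroup of a uniqueness subgroup of `M` lies in `M` -/
theorem le_of_inUniqueMaximal [Finite G] {K M H : Subgroup G} (hK : InUniqueMaximal K)
    (hM : IsCoatom M) (hKM : K ≤ M) (hH : H ≠ ⊤) (hKH : K ≤ H) : H ≤ M := by
  rcases eq_top_or_exists_le_coatom H with h | ⟨L, hL, hHL⟩
  · exact absurd h hH
  · obtain ⟨M₀, _, huniq⟩ := hK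
    have h1 : L = M₀ := huniq L ⟨hL, hKH.trans hHL⟩
    have h2 : M = M₀ := huniq M ⟨hM, hKM⟩
    rw [h2, ← h1]
    exact hHL

/-! ### rank adapters -/

theorem card_le_of_pRankLE {p k : ℕ} {H B : Subgroup G} (h : PRankLE p k H) (hBH : B ≤ H)
    (hB : IsElementaryAbelian p B) : Nat.card B ≤ p ^ k := by
  have h1 := h (B.subgroupOf H)
    ⟨⟨fun a b => Subtype.ext (Subtype.ext (by
      have h := congrArg Subtype.val (hB.1.is_comm.comm ⟨a.1.1, a.2⟩ ⟨b.1.1, b.2⟩)
      simpa using h))⟩⟩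
    (fun a ha => Subtype.ext (by
      have := hB.2 a.1 ha
      simpa using this))
  rwa [Nat.card_congr (subgroupOfEquivOfLe hBH).toEquiv] at h1

theorem exists_of_not_pRankLE {p k : ℕ} {H : Subgroup G} (h : ¬ PRankLE p k H) :
    ∃ B : Subgroup G, B ≤ H ∧ IsElementaryAbelian p B ∧ p ^ k < Nat.card B := by
  unfold PRankLE at h
  push Not at h
  obtain ⟨A, hAc, hAe, hlt⟩ := h
  refine ⟨A.map H.subtype, map_subtype_le A, ⟨inferInstance, ?_⟩, ?_⟩
  · rintro _ ⟨a, ha, rfl⟩
    rw [← map_pow, hAe a ha, map_one]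
  · rwa [card_map_of_injective H.subtype_injective]

theorem isPGroup_of_elemAb {p : ℕ} [Fact p.Prime] {A : Subgroup G} (hA : IsElementaryAbelian p A) :
    IsPGroup p A := fun a =>
  ⟨1, by rw [pow_one]; exact Subtype.ext (by simpa using hA.2 a a.2)⟩

theorem elemAb_mono {p : ℕ} {A B : Subgroup G} (hAB : A ≤ B) (hB : IsElementaryAbelian p B) :
    IsElementaryAbelian p A :=
  ⟨⟨⟨fun a b => Subtype.ext (by
      have h := congrArg Subtype.val (hB.1.is_comm.comm ⟨a.1, hAB a.2⟩ ⟨b.1, hAB b.2⟩)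
      simpa using h)⟩⟩, fun a ha => hB.2 a (hAB ha)⟩

theorem not_rankLE_one_of_elemAb {p : ℕ} [hp : Fact p.Prime] {A H : Subgroup G}
    (hA : IsElementaryAbelian p A) (hAH : A ≤ H) (hc : p < Nat.card A) : ¬ RankLE 1 H := by
  intro h
  have := card_le_of_pRankLE (h p hp.out) hAH hA
  rw [pow_one] at this
  omega

theorem not_rankLE_two_of_elemAb {p : ℕ} [hp : Fact p.Prime] {A H : Subgroup G}
    (hA : IsElementaryAbelian p A) (hAH : A ≤ H) (hc : p ^ 2 < Nat.card A) : ¬ RankLE 2 H := by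
  intro h
  have := card_le_of_pRankLE (h p hp.out) hAH hA
  omega

theorem le_centralizer_of_elemAb {p : ℕ} {A B : Subgroup G} (hAB : A ≤ B)
    (hB : IsElementaryAbelian p B) : B ≤ centralizer (A : Set G) := by
  intro b hb
  rw [mem_centralizer_iff]
  intro a ha
  have := hB.1.is_comm.comm ⟨a, hAB ha⟩ ⟨b, hb⟩
  exact congrArg Subtype.val this

/-! ### B&G 10.5 -/

/-- B&G 10.5, second part: an `E_{p^2}` of a maximal subgroup of `p`-rank 2 is a maximal
elementary abelian subgroup of `G`. -/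
theorem max_elemAb [Finite G] (hG : IsMinSimpleOddOrder G) (hU : UniqStmt G) {M : Subgroup G}
    (hM : IsCoatom M) {p : ℕ} [hp : Fact p.Prime] (hr2 : PRankLE p 2 M) {A : Subgroup G}
    (hAM : A ≤ M) (hA : IsElementaryAbelian p A) (hAc : Nat.card A = p ^ 2) {B : Subgroup G}
    (hB : IsElementaryAbelian p B) (hAB : A ≤ B) : B = A := by
  by_contra hne
  have hp1 : 1 < p := hp.out.one_lt
  have hlt : Nat.card A < Nat.card B := by
    have hle : Nat.card A ≤ Nat.card B := Nat.card_mono (Set.toFinite _) hAB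
    rcases hle.lt_or_eq with h | h
    · exact h
    · exact absurd (eq_of_le_of_card_ge hAB h.ge).symm hne
  have hA1 : ¬ RankLE 1 A :=
    not_rankLE_one_of_elemAb hA le_rfl (by rw [hAc]; nlinarith)
  have hC2 : ¬ RankLE 2 (centralizer (A : Set G)) :=
    not_rankLE_two_of_elemAb hB (le_centralizer_of_elemAb hAB hB) (by rw [← hAc]; exact hlt)
  have hAtop : A ≠ ⊤ := fun h => hM.1 (top_le_iff.mp (h ▸ hAM))
  have hAU : InUniqueMaximal A := hU A hAtop hA1 (Or.inr hC2)
  have hAbot : A ≠ ⊥ := by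
    intro h
    rw [h, card_bot] at hAc
    have : 1 < p ^ 2 := by nlinarith
    omega
  have hCM : centralizer (A : Set G) ≤ M :=
    le_of_inUniqueMaximal hAU hM hAM (centralizer_ne_top hG hAbot)
      (le_centralizer_of_elemAb le_rfl hA)
  have hBM : B ≤ M := (le_centralizer_of_elemAb hAB hB).trans hCM
  have := card_le_of_pRankLE hr2 hBM hB
  omega


theorem exists_of_not_pRankLE' {p k : ℕ} {H : Type*} [Group H] (h : ¬ PRankLE p k H) :
    ∃ B : Subgroup H, IsElementaryAbelian p B ∧ p ^ k < Nat.card B := by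
  unfold PRankLE at h
  push Not at h
  obtain ⟨A, hAc, hAe, hlt⟩ := h
  exact ⟨A, ⟨hAc, hAe⟩, hlt⟩

/-- an elementary abelian `p`-subgroup of order more than `p` contains one of order `p ^ 2` -/
theorem exists_elemAb_sq [Finite G] {p : ℕ} [hp : Fact p.Prime] {B : Subgroup G}
    (hB : IsElementaryAbelian p B) (hc : p < Nat.card B) :
    ∃ A : Subgroup G, A ≤ B ∧ IsElementaryAbelian p A ∧ Nat.card A = p ^ 2 := by
  obtain ⟨n, hn⟩ := IsPGroup.iff_card.mp (isPGroup_of_elemAb hB)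
  have hn2 : 2 ≤ n := by
    by_contra h
    have h1 : n ≤ 1 := by omega
    have h2 : p ^ n ≤ p ^ 1 := Nat.pow_le_pow_right hp.out.pos h1
    rw [pow_one] at h2
    omega
  obtain ⟨K, hK⟩ := Sylow.exists_subgroup_card_pow_prime (G := B) p (n := 2)
    (by rw [hn]; exact pow_dvd_pow p hn2)
  refine ⟨K.map B.subtype, map_subtype_le K, elemAb_mono (map_subtype_le K) hB, ?_⟩
  rw [card_map_of_injective B.subtype_injective, hK]

theorem exists_elemAb_sq_le [Finite G] {p : ℕ} [Fact p.Prime] {M : Subgroup G}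
    (h : ¬ PRankLE p 1 M) :
    ∃ A : Subgroup G, A ≤ M ∧ IsElementaryAbelian p A ∧ Nat.card A = p ^ 2 := by
  obtain ⟨B, hBM, hB, hc⟩ := exists_of_not_pRankLE h
  rw [pow_one] at hc
  obtain ⟨A, hAB, hA, hAc⟩ := exists_elemAb_sq hB hc
  exact ⟨A, hAB.trans hBM, hA, hAc⟩

/-- B&G 10.5, first part: `p` is not an ideal prime. -/
theorem not_isIdealPrime [Finite G] (hG : IsMinSimpleOddOrder G) (hU : UniqStmt G)
    {M : Subgroup G} (hM : IsCoatom M) {p : ℕ} [Fact p.Prime] (hr2 : PRankLE p 2 M)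
    (hr1 : ¬ PRankLE p 1 M) : ¬ IsIdealPrime p G := by
  rintro ⟨_, _, hI⟩
  obtain ⟨A, hAM, hA, hAc⟩ := exists_elemAb_sq_le hr1
  obtain ⟨P, hAP⟩ := (isPGroup_of_elemAb hA).exists_le_sylow
  obtain ⟨B, _, hB, hAB⟩ := hI P A hAP hA hAc
  have := max_elemAb hG hU hM hr2 hAM hA hAc hB hAB.le
  exact hAB.ne this.symm

/-! ### type-level rank lemmas -/

theorem pRankLE_of_injective {p k : ℕ} {H K : Type*} [Group H] [Group K] (f : H →* K)
    (hf : Function.Injective f) (h : PRankLE p k K) : PRankLE p k H := by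
  intro A hAc hAe
  have h1 := h (A.map f) inferInstance (by
    rintro _ ⟨a, ha, rfl⟩
    rw [← map_pow, hAe a ha, map_one])
  rwa [card_map_of_injective hf] at h1

theorem map_elemAb {p : ℕ} {H K : Type*} [Group H] [Group K] (f : H →* K) {A : Subgroup H}
    (hA : IsElementaryAbelian p A) : IsElementaryAbelian p (A.map f) := by
  have := hA.1
  refine ⟨inferInstance, ?_⟩
  rintro _ ⟨a, ha, rfl⟩
  rw [← map_pow, hA.2 a ha, map_one]

/-- the rank of a group is controlled by a Sylow subgroup -/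
theorem pRankLE_of_sylow {H : Type*} [Group H] [Finite H] (p : ℕ) [Fact p.Prime] {k : ℕ}
    (S : Sylow p H) (h : PRankLE p k ↥(S : Subgroup H)) : PRankLE p k H := by
  intro B hBc hBe
  have hB : IsPGroup p B := fun b =>
    ⟨1, by rw [pow_one]; exact Subtype.ext (by simpa using hBe b b.2)⟩
  obtain ⟨Q, hQ⟩ := hB.exists_le_sylow
  obtain ⟨g, hg⟩ := MulAction.exists_smul_eq H Q S
  have hmem : ∀ b ∈ B, g * b * g⁻¹ ∈ (S : Subgroup H) := by
    intro b hb
    rw [← hg, Sylow.coe_subgroup_smul]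
    have := Subgroup.smul_mem_pointwise_smul b (MulAut.conj g) (Q : Subgroup H) (hQ hb)
    simpa [MulAut.smul_def] using this
  let f : ↥B →* ↥(S : Subgroup H) :=
    { toFun := fun b => ⟨g * b * g⁻¹, hmem b b.2⟩
      map_one' := by apply Subtype.ext; simp
      map_mul' := by intro a b; apply Subtype.ext; simp }
  have hf : Function.Injective f := by
    intro a b hab
    have h1 : g * (a : H) * g⁻¹ = g * (b : H) * g⁻¹ := congrArg Subtype.val hab
    exact Subtype.ext (mul_left_cancel (mul_right_cancel h1))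
  have h' := pRankLE_of_injective f hf h
  have h3 := h' ⊤ ⟨⟨fun a b => Subtype.ext (hBc.is_comm.comm a.1 b.1)⟩⟩
    (fun a _ => Subtype.ext (by simpa using hBe a.1 a.2))
  rwa [Subgroup.card_top] at h3


/-- In a finite `p`-group of rank at least two, every subgroup of order `p` lies in an `E_{p^2}`. -/
theorem exists_elemAb_sq_ge {Q : Type*} [Group Q] [Finite Q] {p : ℕ} [hp : Fact p.Prime]
    (hQ : IsPGroup p Q) (hr : ¬ PRankLE p 1 Q) (X : Subgroup Q) (hX : Nat.card X = p) :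
    ∃ A : Subgroup Q, IsElementaryAbelian p A ∧ Nat.card A = p ^ 2 ∧ X ≤ A := by
  classical
  have hp1 : 1 < p := hp.out.one_lt
  obtain ⟨E₀, hE₀, hE₀c⟩ := exists_of_not_pRankLE' hr
  rw [pow_one] at hE₀c
  obtain ⟨E, _, hE, hEc⟩ := exists_elemAb_sq hE₀ hE₀c
  have hXexp : ∀ a ∈ X, a ^ p = 1 := by
    intro a ha
    have h := pow_card_eq_one' (G := X) (x := ⟨a, ha⟩)
    rw [hX] at h
    simpa using congrArg Subtype.val h
  have hXgen : ∀ z ∈ X, z ≠ 1 → X ≤ zpowers z := by
    intro z hz hz1 a ha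
    have h := zpowers_eq_top_of_prime_card (G := X) hX (g := ⟨z, hz⟩)
      (by intro h; exact hz1 (congrArg Subtype.val h))
    have hmem : (⟨a, ha⟩ : X) ∈ zpowers (⟨z, hz⟩ : X) := h ▸ mem_top _
    obtain ⟨k, hk⟩ := mem_zpowers_iff.mp hmem
    exact mem_zpowers_iff.mpr ⟨k, by simpa using congrArg Subtype.val hk⟩
  have hy : ∃ y : Q, y ^ p = 1 ∧ y ∉ X ∧ ∀ a ∈ X, a * y = y * a := by
    by_cases hc : X ≤ center Q
    · have hEX : ¬ E ≤ X := by
        intro h
        have := Subgroup.card_le_of_le h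
        rw [hEc, hX] at this
        nlinarith
      obtain ⟨e, heE, heX⟩ := SetLike.not_le_iff_exists.mp hEX
      exact ⟨e, hE.2 e heE, heX, fun a ha => (mem_center_iff.mp (hc ha) e).symm⟩
    · obtain ⟨a₀, ha₀, ha₀c⟩ := SetLike.not_le_iff_exists.mp hc
      have : Nontrivial Q := ⟨⟨a₀, 1, fun h => ha₀c (h ▸ (center Q).one_mem)⟩⟩
      have hZnt := hQ.center_nontrivial
      have hZp : p ∣ Nat.card (center Q) := by
        obtain ⟨n, hn⟩ := IsPGroup.iff_card.mp (hQ.to_subgroup (center Q))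
        have h1 : 1 < Nat.card (center Q) := Finite.one_lt_card
        rcases Nat.eq_zero_or_pos n with h0 | h0
        · rw [h0, pow_zero] at hn
          omega
        · rw [hn]
          exact dvd_pow_self p h0.ne'
      obtain ⟨z, hz⟩ := exists_prime_orderOf_dvd_card' p hZp
      have hz1 : (z : Q) ≠ 1 := by
        intro h
        have h2 : z = 1 := Subtype.ext h
        rw [h2, orderOf_one] at hz
        omega
      refine ⟨(z : Q), ?_, ?_, fun a _ => (mem_center_iff.mp z.2 a)⟩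
      · have h2 : z ^ p = 1 := hz ▸ pow_orderOf_eq_one z
        simpa using congrArg Subtype.val h2
      · intro hzX
        apply hc
        refine (hXgen z hzX hz1).trans ?_
        rw [zpowers_le]
        exact z.2
  obtain ⟨y, hyp, hyX, hycomm⟩ := hy
  have hy1 : y ≠ 1 := fun h => hyX (h ▸ X.one_mem)
  have hXY : X ≤ centralizer ((zpowers y : Subgroup Q) : Set Q) := by
    intro a ha
    rw [mem_centralizer_iff]
    intro b hb
    obtain ⟨k, rfl⟩ := mem_zpowers_iff.mp hb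
    exact ((show Commute a y from hycomm a ha).zpow_right k).eq.symm
  have hXnY : X ≤ normalizer ((zpowers y : Subgroup Q) : Set Q) :=
    hXY.trans (centralizer_le_normalizer _)
  have hcoe : ((X ⊔ zpowers y : Subgroup Q) : Set Q) = (X : Set Q) * ((zpowers y : Subgroup Q) : Set Q) :=
    coe_mul_of_left_le_normalizer_right X (zpowers y) hXnY
  have hmemA : ∀ a ∈ X ⊔ zpowers y, ∃ a₁ ∈ X, ∃ k : ℤ, a = a₁ * y ^ k := by
    intro a ha
    have h1 : a ∈ (X : Set Q) * ((zpowers y : Subgroup Q) : Set Q) := hcoe ▸ ha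
    obtain ⟨a₁, ha₁, b, hb, rfl⟩ := Set.mem_mul.mp h1
    obtain ⟨k, rfl⟩ := mem_zpowers_iff.mp hb
    exact ⟨a₁, ha₁, k, rfl⟩
  have hXcomm : ∀ a ∈ X, ∀ b ∈ X, a * b = b * a := by
    have : IsCyclic X := isCyclic_of_prime_card hX
    intro a ha b hb
    have h := (IsCyclic.isMulCommutative (α := X)).is_comm.comm ⟨a, ha⟩ ⟨b, hb⟩
    simpa using congrArg Subtype.val h
  have hAel : IsElementaryAbelian p (X ⊔ zpowers y) := by
    refine ⟨⟨⟨fun a b => Subtype.ext ?_⟩⟩, fun a ha => ?_⟩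
    · obtain ⟨a₁, ha₁, k, hk⟩ := hmemA a.1 a.2
      obtain ⟨b₁, hb₁, l, hl⟩ := hmemA b.1 b.2
      show (a.1 * b.1 : Q) = b.1 * a.1
      rw [hk, hl]
      have c1 : Commute a₁ b₁ := hXcomm a₁ ha₁ b₁ hb₁
      have c2 : Commute a₁ (y ^ l) := (show Commute a₁ y from hycomm a₁ ha₁).zpow_right l
      have c3 : Commute b₁ (y ^ k) := (show Commute b₁ y from hycomm b₁ hb₁).zpow_right k
      have c4 : Commute (y ^ k) (y ^ l) := Commute.zpow_zpow_self y k l
      exact ((c1.mul_right c2).mul_left (c3.symm.mul_right c4)).eq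
    · obtain ⟨a₁, ha₁, k, rfl⟩ := hmemA a ha
      have c : Commute a₁ (y ^ k) := (show Commute a₁ y from hycomm a₁ ha₁).zpow_right k
      rw [c.mul_pow, hXexp a₁ ha₁, one_mul, ← zpow_natCast, ← zpow_mul, mul_comm, zpow_mul,
        zpow_natCast, hyp, one_zpow]
  have hXA : X ≤ X ⊔ zpowers y := le_sup_left
  have hyA : y ∈ X ⊔ zpowers y := (le_sup_right : zpowers y ≤ X ⊔ zpowers y) (mem_zpowers y)
  have hlt : Nat.card X < Nat.card ↥(X ⊔ zpowers y) := by
    have hle : Nat.card X ≤ Nat.card ↥(X ⊔ zpowers y) := Subgroup.card_le_of_le hXA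
    rcases hle.lt_or_eq with h | h
    · exact h
    · exact absurd ((eq_of_le_of_card_ge hXA h.ge) ▸ hyA) hyX
  obtain ⟨n, hn⟩ := IsPGroup.iff_card.mp (hQ.to_subgroup (X ⊔ zpowers y))
  have hn2 : 2 ≤ n := by
    by_contra h
    have h1 : n ≤ 1 := by omega
    have h2 : p ^ n ≤ p ^ 1 := Nat.pow_le_pow_right hp.out.pos h1
    rw [pow_one] at h2
    omega
  have hge : p ^ 2 ≤ Nat.card ↥(X ⊔ zpowers y) := hn ▸ Nat.pow_le_pow_right hp.out.pos hn2
  have hYc : Nat.card (zpowers y) = p := by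
    rw [Nat.card_zpowers]
    exact orderOf_eq_prime hyp hy1
  have hle : Nat.card ↥(X ⊔ zpowers y) ≤ p ^ 2 := by
    have h1 := Cfsg.Agent.Lib.Helper63.card_prodSet_mul_card_inf X (zpowers y)
    have h2 : Nat.card ↥(X ⊔ zpowers y) =
        Nat.card ((X : Set Q) * ((zpowers y : Subgroup Q) : Set Q) : Set Q) := by
      rw [← hcoe]; rfl
    have h3 : 0 < Nat.card ↥(X ⊓ zpowers y) := Nat.card_pos
    rw [hX, hYc] at h1
    rw [h2]
    calc Nat.card ((X : Set Q) * ((zpowers y : Subgroup Q) : Set Q) : Set Q)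
        ≤ Nat.card ((X : Set Q) * ((zpowers y : Subgroup Q) : Set Q) : Set Q) *
          Nat.card ↥(X ⊓ zpowers y) := Nat.le_mul_of_pos_right _ h3
      _ = p * p := h1
      _ = p ^ 2 := (sq p).symm
  exact ⟨X ⊔ zpowers y, hAel, le_antisymm hle hge, hXA⟩


theorem ne_two_of_dvd (hG : IsMinSimpleOddOrder G) {p : ℕ} (h : p ∣ Nat.card G) : p ≠ 2 := by
  intro h2
  rw [h2] at h
  exact (Nat.not_even_iff_odd.mpr hG.1) (even_iff_two_dvd.mpr h)

/-- B&G 10.6. -/
theorem bg10_6 [Finite G] (hG : IsMinSimpleOddOrder G) (hU : UniqStmt G) {M : Subgroup G}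
    (hM : IsCoatom M) {p : ℕ} [hp : Fact p.Prime] (hσ : p ∉ sigma M) {X : Subgroup G}
    (hX : Nat.card X = p) (hNX : normalizer (X : Set G) ≤ M) :
    (PRankLE p 2 M ∧ ¬ PRankLE p 1 M) ∧
      ∃ A : Subgroup G, IsElementaryAbelian p A ∧ Nat.card A = p ^ 2 ∧ X ≤ A := by
  classical
  have hp1 : 1 < p := hp.out.one_lt
  have hXM : X ≤ M := le_normalizer.trans hNX
  have hpM : p ∣ Nat.card M := hX ▸ card_dvd_of_le hXM
  have hXp : IsPGroup p X := IsPGroup.of_card (n := 1) (by rw [hX, pow_one])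
  obtain ⟨P, hXP⟩ := (hXp.comap_subtype (K := M)).exists_le_sylow
  let ι : ↥(P : Subgroup M) →* G := M.subtype.comp (P : Subgroup M).subtype
  have hι : Function.Injective ι :=
    M.subtype_injective.comp (P : Subgroup M).subtype_injective
  have hP₁M : (P : Subgroup M).map M.subtype ≤ M := map_subtype_le _
  have hmemP₁ : ∀ x : G, x ∈ (P : Subgroup M).map M.subtype ↔ ∃ q : ↥(P : Subgroup M), ι q = x := by
    intro x
    constructor
    · rintro ⟨m, hm, rfl⟩
      exact ⟨⟨m, hm⟩, rfl⟩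
    · rintro ⟨q, rfl⟩
      exact ⟨q.1, q.2, rfl⟩
  have hXP₁ : X ≤ (P : Subgroup M).map M.subtype :=
    fun x hx => ⟨⟨x, hXM hx⟩, hXP (mem_subgroupOf.mpr hx), rfl⟩
  have hNP : ¬ normalizer (((P : Subgroup M).map M.subtype : Subgroup G) : Set G) ≤ M :=
    fun h => hσ ⟨hp.out, hpM, P, h⟩
  have hXbot : X ≠ ⊥ := by
    intro h
    rw [h, card_bot] at hX
    omega
  have hP₁bot : (P : Subgroup M).map M.subtype ≠ ⊥ := by
    intro h
    exact hXbot (le_bot_iff.mp (h ▸ hXP₁))
  have hP₁top : (P : Subgroup M).map M.subtype ≠ ⊤ := fun h => hM.1 (top_le_iff.mp (h ▸ hP₁M))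
  have hNtop := normalizer_ne_top hG hP₁bot hP₁top
  have hp2 : p ≠ 2 := ne_two_of_dvd hG (hpM.trans (card_subgroup_dvd_card M))
  have hQp : IsPGroup p ↥(P : Subgroup M) := P.2
  -- rank at most two
  have hr2 : PRankLE p 2 M := by
    by_contra h
    have hQ2 : ¬ PRankLE p 2 ↥(P : Subgroup M) := fun h' => h (pRankLE_of_sylow p P h')
    obtain ⟨B, hB, hc⟩ := exists_of_not_pRankLE' hQ2
    have hB' : IsElementaryAbelian p (B.map ι) := map_elemAb ι hB
    have hB'P : B.map ι ≤ (P : Subgroup M).map M.subtype := by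
      rintro _ ⟨b, _, rfl⟩
      exact (hmemP₁ _).mpr ⟨b, rfl⟩
    have hc' : p ^ 2 < Nat.card (B.map ι) := by
      rwa [card_map_of_injective hι]
    have h2 : ¬ RankLE 2 ((P : Subgroup M).map M.subtype) :=
      not_rankLE_two_of_elemAb hB' hB'P hc'
    have h1 : ¬ RankLE 1 ((P : Subgroup M).map M.subtype) :=
      not_rankLE_one_of_elemAb hB' hB'P (by nlinarith)
    have hPU := hU _ hP₁top h1 (Or.inl h2)
    exact hNP (le_of_inUniqueMaximal hPU hM hP₁M hNtop le_normalizer)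
  -- the copy of X in the Sylow subgroup
  have hXQc : Nat.card (X.comap ι) = p := by
    have h1 : (X.comap ι).map ι = X := by
      rw [map_comap_eq, inf_eq_right]
      intro x hx
      obtain ⟨q, hq⟩ := (hmemP₁ x).mp (hXP₁ hx)
      exact ⟨q, hq⟩
    calc Nat.card (X.comap ι) = Nat.card ((X.comap ι).map ι) := (card_map_of_injective hι).symm
      _ = Nat.card X := by rw [h1]
      _ = p := hX
  -- rank at least two
  have hr1 : ¬ PRankLE p 1 M := by
    intro h
    have hQ1 : PRankLE p 1 ↥(P : Subgroup M) :=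
      pRankLE_of_injective (P : Subgroup M).subtype (subtype_injective _) h
    have hcyc : IsCyclic ↥(P : Subgroup M) := by
      apply Cfsg.Agent.Lib.Helper49.isCyclic_of_isPGroup_rankLEOne hp2 hQp
      intro A hAc hAe
      have := hQ1 A hAc hAe
      rwa [pow_one] at this
    have hcomm : ∀ a b : ↥(P : Subgroup M), Commute a b :=
      fun a b => (IsCyclic.isMulCommutative (α := ↥(P : Subgroup M))).is_comm.comm a b
    let Ω : Subgroup ↥(P : Subgroup M) :=
      { carrier := {a | a ^ p = 1}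
        one_mem' := one_pow p
        mul_mem' := fun {a b} (ha : a ^ p = 1) (hb : b ^ p = 1) =>
          show (a * b) ^ p = 1 by rw [(hcomm a b).mul_pow, ha, hb, one_mul]
        inv_mem' := fun {a} (ha : a ^ p = 1) =>
          show a⁻¹ ^ p = 1 by rw [inv_pow, ha, inv_one] }
    have hΩel : IsElementaryAbelian p Ω :=
      ⟨⟨⟨fun a b => Subtype.ext (hcomm a.1 b.1).eq⟩⟩, fun a ha => ha⟩
    have hΩc : Nat.card Ω ≤ p := by
      have := hQ1 Ω hΩel.1 hΩel.2
      rwa [pow_one] at this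
    have hXΩ : X.comap ι ≤ Ω := by
      intro q hq
      have h1 := pow_card_eq_one' (G := X.comap ι) (x := ⟨q, hq⟩)
      rw [hXQc] at h1
      have h2 : q ^ p = 1 := by simpa using congrArg Subtype.val h1
      exact h2
    have hXeq : X.comap ι = Ω := eq_of_le_of_card_ge hXΩ (by rw [hXQc]; exact hΩc)
    have hchar : ∀ x : G, x ∈ X ↔ x ∈ (P : Subgroup M).map M.subtype ∧ x ^ p = 1 := by
      intro x
      constructor
      · intro hx
        refine ⟨hXP₁ hx, ?_⟩
        have h1 := pow_card_eq_one' (G := X) (x := ⟨x, hx⟩)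
        rw [hX] at h1
        simpa using congrArg Subtype.val h1
      · rintro ⟨hxP, hxp⟩
        obtain ⟨q, rfl⟩ := (hmemP₁ x).mp hxP
        have hq : q ^ p = 1 := hι (by rw [map_pow, hxp, map_one])
        have hqΩ : q ∈ Ω := hq
        rw [← hXeq] at hqΩ
        exact hqΩ
    apply hNP
    refine le_trans ?_ hNX
    intro n hn
    rw [mem_normalizer_iff] at hn ⊢
    intro x
    rw [hchar x, hchar (n * x * n⁻¹), ← hn x, conj_pow]
    constructor
    · rintro ⟨h1, h2⟩
      exact ⟨h1, by rw [h2]; group⟩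
    · rintro ⟨h1, h2⟩
      refine ⟨h1, ?_⟩
      have : x ^ p = n⁻¹ * (n * x ^ p * n⁻¹) * n := by group
      rw [this, h2]; group
  refine ⟨⟨hr2, hr1⟩, ?_⟩
  have hQ1 : ¬ PRankLE p 1 ↥(P : Subgroup M) := fun h' => hr1 (pRankLE_of_sylow p P h')
  obtain ⟨A, hA, hAc, hXA⟩ := exists_elemAb_sq_ge hQp hQ1 (X.comap ι) hXQc
  refine ⟨A.map ι, map_elemAb ι hA, by rw [card_map_of_injective hι, hAc], ?_⟩
  have h1 : (X.comap ι).map ι = X := by
    rw [map_comap_eq, inf_eq_right]
    intro x hx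
    obtain ⟨q, hq⟩ := (hmemP₁ x).mp (hXP₁ hx)
    exact ⟨q, hq⟩
  rw [← h1]
  exact map_mono hXA

end Cfsg.Agent.Lib.Helper63.BG10
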