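import Mathlib

set_option autoImplicit false

/-!
Finite nonabelian groups with an abelian subgroup `A` of prime index `p`:
`Z(S) ≤ A`, `|A : Z(S)| = |S'|`, uniqueness of `A` when `|S'| > p`, counting when `|S : Z(S)| = p²`.
-/

namespace Cfsg.Agent.Lib.Helper63

open scoped commutatorElement

variable {S : Type*} [Group S]

/-- a subgroup of prime index is maximal -/
theorem eq_top_of_index_prime [Finite S] {p : ℕ} (hp : p.Prime) {B D : Subgroup S} (hBi : B.index = p)
    (hBD : B ≤ D) {x : S} (hxD : x ∈ D) (hxB : x ∉ B) : D = ⊤ := by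
  have h1 := Subgroup.relIndex_mul_index hBD
  rw [hBi] at h1
  have h2 : D.index ∣ p := Dvd.intro_left _ h1
  rcases (Nat.dvd_prime hp).1 h2 with h3 | h3
  · exact Subgroup.index_eq_one.1 h3
  · exfalso
    rw [h3] at h1
    have h4 : B.relIndex D = 1 := by
      have : B.relIndex D * p = 1 * p := by rw [h1, one_mul]
      exact Nat.eq_of_mul_eq_mul_right hp.pos this
    rw [Subgroup.relIndex_eq_one] at h4
    exact hxB (h4 hxD)

/-- two subgroups of the same prime index, one inside the other, are equal -/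
theorem eq_of_le_of_index_prime [Finite S] {p : ℕ} (hp : p.Prime) {B D : Subgroup S}
    (hBi : B.index = p) (hDi : D.index = p) (hBD : B ≤ D) : B = D := by
  refine le_antisymm hBD ?_
  intro x hxD
  by_contra hxB
  have := eq_top_of_index_prime hp hBi hBD hxD hxB
  rw [this, Subgroup.index_top] at hDi
  exact hp.one_lt.ne hDi

theorem mem_centralizer_singleton_iff (a g : S) :
    g ∈ Subgroup.centralizer ({a} : Set S) ↔ a * g = g * a := by
  rw [Subgroup.mem_centralizer_iff]
  constructor
  · intro h; exact h a rfl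
  · intro h x hx; rw [Set.mem_singleton_iff] at hx; subst hx; exact h

theorem comm_of_isMulCommutative {B : Subgroup S} (hB : IsMulCommutative ↥B) {a b : S} (ha : a ∈ B)
    (hb : b ∈ B) : a * b = b * a :=
  congrArg Subtype.val (hB.is_comm.comm (⟨a, ha⟩ : B) ⟨b, hb⟩)

/-- an element of an abelian subgroup `B` of prime index commuting with some `x ∉ B` is central -/
theorem mem_center_of_comm_of_index_prime [Finite S] {p : ℕ} (hp : p.Prime) {B : Subgroup S}
    (hB : IsMulCommutative ↥B) (hBi : B.index = p) {x : S} (hxB : x ∉ B) {b : S} (hb : b ∈ B)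
    (hbx : b * x = x * b) : b ∈ Subgroup.center S := by
  have hD : Subgroup.centralizer ({b} : Set S) = ⊤ := by
    refine eq_top_of_index_prime hp hBi ?_ ((mem_centralizer_singleton_iff b x).2 hbx) hxB
    intro y hy
    rw [mem_centralizer_singleton_iff]
    exact comm_of_isMulCommutative hB hb hy
  rw [Subgroup.mem_center_iff]
  intro g
  have hg : g ∈ Subgroup.centralizer ({b} : Set S) := hD ▸ Subgroup.mem_top g
  exact ((mem_centralizer_singleton_iff b g).1 hg).symm

/-- the centre of a nonabelian group lies in every abelian subgroup of prime index -/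
theorem center_le_of_abelian_index_prime [Finite S] {p : ℕ} (hp : p.Prime)
    (hna : ¬ IsMulCommutative S) {B : Subgroup S}
    (hB : IsMulCommutative ↥B) (hBi : B.index = p) : Subgroup.center S ≤ B := by
  intro z hz
  by_contra hzB
  apply hna
  -- B is central
  have hBZ : B ≤ Subgroup.center S := by
    intro b hb
    exact mem_center_of_comm_of_index_prime hp hB hBi hzB hb
      (Subgroup.mem_center_iff.1 hz b)
  have htop : Subgroup.center S = ⊤ := eq_top_of_index_prime hp hBi hBZ hz hzB
  refine ⟨⟨fun a b => ?_⟩⟩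
  have ha : a ∈ Subgroup.center S := htop ▸ Subgroup.mem_top a
  exact (Subgroup.mem_center_iff.1 ha b).symm

section hom

variable (A : Subgroup S) [hAn : A.Normal] (hA : IsMulCommutative ↥A) (x : S)
include hA

/-- the homomorphism `a ↦ [a, x]` on an abelian normal subgroup -/
def commHom : ↥A →* ↥A :=
  MonoidHom.mk' (fun a => ⟨(a : S) * (x * (a : S)⁻¹ * x⁻¹),
      A.mul_mem a.2 (hAn.conj_mem _ (A.inv_mem a.2) x)⟩) (by
    intro a b
    apply Subtype.ext
    change (a : S) * (b : S) * (x * ((a : S) * (b : S))⁻¹ * x⁻¹) =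
      ((a : S) * (x * (a : S)⁻¹ * x⁻¹)) * ((b : S) * (x * (b : S)⁻¹ * x⁻¹))
    have h1 : x * (a : S)⁻¹ * x⁻¹ ∈ A := hAn.conj_mem _ (A.inv_mem a.2) x
    have h2 : x * (b : S)⁻¹ * x⁻¹ ∈ A := hAn.conj_mem _ (A.inv_mem b.2) x
    have h3 : (b : S) * (x * (a : S)⁻¹ * x⁻¹) = (x * (a : S)⁻¹ * x⁻¹) * (b : S) :=
      comm_of_isMulCommutative hA b.2 h1
    have h4 : (x * (b : S)⁻¹ * x⁻¹) * (x * (a : S)⁻¹ * x⁻¹) =
        (x * (a : S)⁻¹ * x⁻¹) * (x * (b : S)⁻¹ * x⁻¹) :=
      comm_of_isMulCommutative hA h2 h1
    calc (a : S) * (b : S) * (x * ((a : S) * (b : S))⁻¹ * x⁻¹)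
        = (a : S) * (b : S) * ((x * (b : S)⁻¹ * x⁻¹) * (x * (a : S)⁻¹ * x⁻¹)) := by group
      _ = (a : S) * (b : S) * ((x * (a : S)⁻¹ * x⁻¹) * (x * (b : S)⁻¹ * x⁻¹)) := by rw [h4]
      _ = (a : S) * ((b : S) * (x * (a : S)⁻¹ * x⁻¹)) * (x * (b : S)⁻¹ * x⁻¹) := by group
      _ = (a : S) * ((x * (a : S)⁻¹ * x⁻¹) * (b : S)) * (x * (b : S)⁻¹ * x⁻¹) := by rw [h3]
      _ = ((a : S) * (x * (a : S)⁻¹ * x⁻¹)) * ((b : S) * (x * (b : S)⁻¹ * x⁻¹)) := by group)

theorem commHom_apply (a : ↥A) :
    ((commHom A hA x a : ↥A) : S) = (a : S) * (x * (a : S)⁻¹ * x⁻¹) := rfl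

theorem commHom_apply' (a : ↥A) : ((commHom A hA x a : ↥A) : S) = ⁅(a : S), x⁆ := by
  rw [commHom_apply, commutatorElement_def]; group

theorem mem_ker_commHom (a : ↥A) : a ∈ (commHom A hA x).ker ↔ (a : S) * x = x * (a : S) := by
  rw [MonoidHom.mem_ker, Subtype.ext_iff, commHom_apply]
  change (a : S) * (x * (a : S)⁻¹ * x⁻¹) = 1 ↔ _
  constructor
  · intro h
    calc (a : S) * x = ((a : S) * (x * (a : S)⁻¹ * x⁻¹)) * (x * (a : S)) := by group
      _ = x * (a : S) := by rw [h, one_mul]
  · intro h
    calc (a : S) * (x * (a : S)⁻¹ * x⁻¹) = ((a : S) * x) * (a : S)⁻¹ * x⁻¹ := by group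
      _ = (x * (a : S)) * (a : S)⁻¹ * x⁻¹ := by rw [h]
      _ = 1 := by group

end hom

section main

variable [Finite S] {p : ℕ} (hp : p.Prime) (hna : ¬ IsMulCommutative S)
  (A : Subgroup S) [hAn : A.Normal] (hA : IsMulCommutative ↥A) (hAi : A.index = p)
  (x : S) (hxA : x ∉ A)
include hp hna hA hAi hxA

theorem map_ker_commHom : (commHom A hA x).ker.map A.subtype = Subgroup.center S := by
  ext g
  constructor
  · rintro ⟨a, ha, rfl⟩
    exact mem_center_of_comm_of_index_prime hp hA hAi hxA a.2 ((mem_ker_commHom A hA x a).1 ha)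
  · intro hg
    have hgA : g ∈ A := center_le_of_abelian_index_prime hp hna hA hAi hg
    refine ⟨⟨g, hgA⟩, ?_, rfl⟩
    rw [SetLike.mem_coe, mem_ker_commHom]
    exact (Subgroup.mem_center_iff.1 hg x).symm

omit hna in
theorem map_range_commHom_normal : ((commHom A hA x).range.map A.subtype).Normal := by
  set I := (commHom A hA x).range.map A.subtype with hI
  have hIA : I ≤ A := by
    rintro _ ⟨a, _, rfl⟩
    exact a.2
  have hmemI : ∀ a : S, ∀ ha : a ∈ A, a * (x * a⁻¹ * x⁻¹) ∈ I := by
    intro a ha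
    exact ⟨commHom A hA x ⟨a, ha⟩, ⟨⟨a, ha⟩, rfl⟩, rfl⟩
  -- conjugation by elements commuting with x preserves I
  have hconj : ∀ t : S, t * x = x * t → ∀ h ∈ I, t * h * t⁻¹ ∈ I := by
    rintro t ht _ ⟨_, ⟨a, rfl⟩, rfl⟩
    have h1 : t * (a : S) * t⁻¹ ∈ A := hAn.conj_mem _ a.2 t
    have h2 := hmemI _ h1
    have ht' : t⁻¹ * x⁻¹ = x⁻¹ * t⁻¹ := by
      rw [← mul_inv_rev, ← mul_inv_rev, ht]
    have ht'' : x * t⁻¹ = t⁻¹ * x := by
      calc x * t⁻¹ = t⁻¹ * (t * x) * t⁻¹ := by group
        _ = t⁻¹ * (x * t) * t⁻¹ := by rw [ht]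
        _ = t⁻¹ * x := by group
    have : t * (A.subtype (commHom A hA x a)) * t⁻¹ =
        t * (a : S) * t⁻¹ * (x * (t * (a : S) * t⁻¹)⁻¹ * x⁻¹) := by
      rw [Subgroup.coe_subtype, commHom_apply]
      calc t * ((a : S) * (x * (a : S)⁻¹ * x⁻¹)) * t⁻¹
          = t * (a : S) * x * (a : S)⁻¹ * (x⁻¹ * t⁻¹) := by group
        _ = t * (a : S) * x * (a : S)⁻¹ * (t⁻¹ * x⁻¹) := by rw [ht']
        _ = t * (a : S) * (x * t⁻¹) * (t * (a : S)⁻¹ * t⁻¹) * x⁻¹ := by group
        _ = t * (a : S) * (t⁻¹ * x) * (t * (a : S)⁻¹ * t⁻¹) * x⁻¹ := by rw [ht'']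
        _ = t * (a : S) * t⁻¹ * (x * (t * (a : S) * t⁻¹)⁻¹ * x⁻¹) := by group
    rw [this]
    exact h2
  rw [← Subgroup.normalizer_eq_top_iff]
  refine eq_top_of_index_prime hp hAi ?_ ?_ hxA
  · intro a ha
    rw [Subgroup.mem_normalizer_iff]
    intro h
    constructor
    · intro hh
      have : a * h * a⁻¹ = h := by
        rw [comm_of_isMulCommutative hA ha (hIA hh)]; group
      rw [this]; exact hh
    · intro hh
      have h1 : a * h * a⁻¹ ∈ A := hIA hh
      have h2 : h ∈ A := by
        have := A.mul_mem (A.mul_mem (A.inv_mem ha) h1) ha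
        have e : a⁻¹ * (a * h * a⁻¹) * a = h := by group
        rwa [e] at this
      have : a * h * a⁻¹ = h := by
        rw [comm_of_isMulCommutative hA ha h2]; group
      rwa [this] at hh
  · rw [Subgroup.mem_normalizer_iff]
    intro h
    constructor
    · intro hh
      exact hconj x rfl h hh
    · intro hh
      have := hconj x⁻¹ (by group) _ hh
      have e : x⁻¹ * (x * h * x⁻¹) * x⁻¹⁻¹ = h := by group
      rwa [e] at this

omit hna in
theorem map_range_commHom : (commHom A hA x).range.map A.subtype = commutator S := by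
  apply le_antisymm
  · rintro _ ⟨_, ⟨a, rfl⟩, rfl⟩
    rw [Subgroup.coe_subtype, commHom_apply', commutator_def]
    exact Subgroup.commutator_mem_commutator (Subgroup.mem_top _) (Subgroup.mem_top _)
  · have hIn : ((commHom A hA x).range.map A.subtype).Normal :=
      map_range_commHom_normal hp A hA hAi x hxA
    set I := (commHom A hA x).range.map A.subtype with hI
    have hmemI : ∀ a : S, ∀ ha : a ∈ A, a * (x * a⁻¹ * x⁻¹) ∈ I := by
      intro a ha
      exact ⟨commHom A hA x ⟨a, ha⟩, ⟨⟨a, ha⟩, rfl⟩, rfl⟩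
    let π : S →* S ⧸ I := QuotientGroup.mk' I
    have key : ∀ D : Subgroup S, A ≤ D → x ∈ D → D = ⊤ :=
      fun D h1 h2 => eq_top_of_index_prime hp hAi h1 h2 hxA
    -- π a commutes with π x
    have hax : ∀ a ∈ A, π a * π x = π x * π a := by
      intro a ha
      have h1 : π (a * (x * a⁻¹ * x⁻¹)) = 1 := (QuotientGroup.eq_one_iff _).2 (hmemI a ha)
      have h2 : π (a * (x * a⁻¹ * x⁻¹)) = π a * (π x * (π a)⁻¹ * (π x)⁻¹) := by
        simp only [map_mul, map_inv]
      rw [h2] at h1
      calc π a * π x = (π a * (π x * (π a)⁻¹ * (π x)⁻¹)) * (π x * π a) := by group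
        _ = π x * π a := by rw [h1, one_mul]
    -- π a is central for a ∈ A
    have hacent : ∀ a ∈ A, ∀ g : S, π a * π g = π g * π a := by
      intro a ha g
      have hD : (Subgroup.centralizer ({π a} : Set (S ⧸ I))).comap π = ⊤ := by
        apply key
        · intro b hb
          rw [Subgroup.mem_comap, mem_centralizer_singleton_iff, ← map_mul, ← map_mul,
            comm_of_isMulCommutative hA ha hb]
        · rw [Subgroup.mem_comap, mem_centralizer_singleton_iff]
          exact hax a ha
      have hg : g ∈ (Subgroup.centralizer ({π a} : Set (S ⧸ I))).comap π := hD ▸ Subgroup.mem_top g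
      rw [Subgroup.mem_comap, mem_centralizer_singleton_iff] at hg
      exact hg
    have hxcent : ∀ g : S, π x * π g = π g * π x := by
      intro g
      have hD : (Subgroup.centralizer ({π x} : Set (S ⧸ I))).comap π = ⊤ := by
        apply key
        · intro b hb
          rw [Subgroup.mem_comap, mem_centralizer_singleton_iff]
          exact (hax b hb).symm
        · rw [Subgroup.mem_comap, mem_centralizer_singleton_iff]
      have hg : g ∈ (Subgroup.centralizer ({π x} : Set (S ⧸ I))).comap π := hD ▸ Subgroup.mem_top g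
      rw [Subgroup.mem_comap, mem_centralizer_singleton_iff] at hg
      exact hg
    have hall : ∀ g h : S, π g * π h = π h * π g := by
      intro g h
      have hD : (Subgroup.center (S ⧸ I)).comap π = ⊤ := by
        apply key
        · intro b hb
          rw [Subgroup.mem_comap, Subgroup.mem_center_iff]
          intro u
          obtain ⟨u, rfl⟩ := QuotientGroup.mk_surjective u
          exact (hacent b hb u).symm
        · rw [Subgroup.mem_comap, Subgroup.mem_center_iff]
          intro u
          obtain ⟨u, rfl⟩ := QuotientGroup.mk_surjective u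
          exact (hxcent u).symm
      have hg : g ∈ (Subgroup.center (S ⧸ I)).comap π := hD ▸ Subgroup.mem_top g
      rw [Subgroup.mem_comap, Subgroup.mem_center_iff] at hg
      exact (hg (π h)).symm
    let inst : CommGroup (S ⧸ I) :=
      { (inferInstance : Group (S ⧸ I)) with
        mul_comm := by
          intro u v
          obtain ⟨u, rfl⟩ := QuotientGroup.mk_surjective u
          obtain ⟨v, rfl⟩ := QuotientGroup.mk_surjective v
          exact hall u v }
    have := Abelianization.commutator_subset_ker (QuotientGroup.mk' I)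
    rwa [QuotientGroup.ker_mk'] at this

theorem card_eq_card_center_mul_card_commutator :
    Nat.card A = Nat.card (Subgroup.center S) * Nat.card (commutator S) := by
  have h1 := Subgroup.card_eq_card_quotient_mul_card_subgroup (commHom A hA x).ker
  have h2 : Nat.card (↥A ⧸ (commHom A hA x).ker) = Nat.card (commHom A hA x).range :=
    Nat.card_congr (QuotientGroup.quotientKerEquivRange _).toEquiv
  have h3 : Nat.card (commHom A hA x).ker = Nat.card (Subgroup.center S) := by
    rw [← map_ker_commHom hp hna A hA hAi x hxA]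
    exact (Subgroup.card_map_of_injective A.subtype_injective).symm
  have h4 : Nat.card (commHom A hA x).range = Nat.card (commutator S) := by
    rw [← map_range_commHom hp A hA hAi x hxA]
    exact (Subgroup.card_map_of_injective A.subtype_injective).symm
  rw [h1, h2, h3, h4, mul_comm]

theorem index_center_eq : (Subgroup.center S).index = p * Nat.card (commutator S) := by
  have h1 := card_eq_card_center_mul_card_commutator hp hna A hA hAi x hxA
  have h2 : Nat.card (Subgroup.center S) * (Subgroup.center S).index = Nat.card S :=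
    Subgroup.card_mul_index _
  have h3 : Nat.card A * A.index = Nat.card S := Subgroup.card_mul_index _
  rw [hAi, h1] at h3
  have h4 : Nat.card (Subgroup.center S) * (Subgroup.center S).index =
      Nat.card (Subgroup.center S) * (p * Nat.card (commutator S)) := by
    rw [h2, ← h3]; ring
  exact Nat.eq_of_mul_eq_mul_left Nat.card_pos h4

end main

theorem isMulCommutative_center_sup_zpowers (y : S) :
    IsMulCommutative ↥(Subgroup.center S ⊔ Subgroup.zpowers y) := by
  have h : Subgroup.center S ⊔ Subgroup.zpowers y =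
      Subgroup.closure ((Subgroup.center S : Set S) ∪ {y}) := by
    rw [Subgroup.closure_union, Subgroup.closure_eq, Subgroup.zpowers_eq_closure]
  rw [h]
  apply Subgroup.isMulCommutative_closure
  intro a ha b hb
  rcases ha with ha | ha
  · exact (Subgroup.mem_center_iff.1 ha b).symm
  · rcases hb with hb | hb
    · exact Subgroup.mem_center_iff.1 hb a
    · rw [Set.mem_singleton_iff] at ha hb
      rw [ha, hb]

section counting

variable [Finite S] {p : ℕ} (hp : p.Prime) (hna : ¬ IsMulCommutative S)
include hp hna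

omit hna in
/-- two different abelian subgroups of index `p` force `|S : Z(S)| ≤ p²` -/
theorem index_center_le_of_two_abelian {A B : Subgroup S} (hA : IsMulCommutative ↥A)
    (hAi : A.index = p) (hB : IsMulCommutative ↥B) (hBi : B.index = p) (hne : B ≠ A) :
    (Subgroup.center S).index ≤ p * p := by
  obtain ⟨b, hbB, hbA⟩ : ∃ b ∈ B, b ∉ A := by
    by_contra hcon
    apply hne
    apply eq_of_le_of_index_prime hp hBi hAi
    intro b hb
    by_contra hbA
    exact hcon ⟨b, hb, hbA⟩
  have hle : A ⊓ B ≤ Subgroup.center S := by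
    intro g hg
    exact mem_center_of_comm_of_index_prime hp hA hAi hbA hg.1
      (comm_of_isMulCommutative hB hg.2 hbB)
  have h1 : (Subgroup.center S).index ≤ (A ⊓ B).index :=
    Nat.le_of_dvd (Nat.pos_of_ne_zero Subgroup.index_ne_zero_of_finite) (Subgroup.index_dvd_of_le hle)
  have h2 : (A ⊓ B).index ≤ A.index * B.index := Subgroup.index_inf_le
  rw [hAi, hBi] at h2
  exact h1.trans h2

omit [Finite S] in
theorem index_center_sup_zpowers (hZi : (Subgroup.center S).index = p ^ 2) {y : S}
    (hy : y ∉ Subgroup.center S) : (Subgroup.center S ⊔ Subgroup.zpowers y).index = p := by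
  set M := Subgroup.center S ⊔ Subgroup.zpowers y with hM
  have hZM : Subgroup.center S ≤ M := le_sup_left
  have hyM : y ∈ M := (le_sup_right : Subgroup.zpowers y ≤ M) (Subgroup.mem_zpowers y)
  have h1 := Subgroup.relIndex_mul_index hZM
  rw [hZi] at h1
  have h2 : M.index ∣ p ^ 2 := Dvd.intro_left _ h1
  obtain ⟨k, hk2, hk⟩ := (Nat.dvd_prime_pow hp).1 h2
  have hk0 : k ≠ 0 := by
    intro h0
    rw [h0, pow_zero, Subgroup.index_eq_one] at hk
    apply hna
    have := isMulCommutative_center_sup_zpowers y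
    rw [← hM, hk] at this
    refine ⟨⟨fun a b => ?_⟩⟩
    exact comm_of_isMulCommutative this (Subgroup.mem_top a) (Subgroup.mem_top b)
  have hk2' : k ≠ 2 := by
    intro h2'
    rw [h2'] at hk
    rw [hk] at h1
    have h3 : (Subgroup.center S).relIndex M = 1 := by
      have : (Subgroup.center S).relIndex M * p ^ 2 = 1 * p ^ 2 := by rw [h1, one_mul]
      exact Nat.eq_of_mul_eq_mul_right (pow_pos hp.pos 2) this
    rw [Subgroup.relIndex_eq_one] at h3
    exact hy (h3 hyM)
  have hk1 : k = 1 := by omega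
  rw [hk, hk1, pow_one]

theorem card_abelian_index_prime (hZi : (Subgroup.center S).index = p ^ 2) :
    Nat.card {B : Subgroup S // IsMulCommutative ↥B ∧ B.index = p} = p + 1 := by
  classical
  let 𝔅 := {B : Subgroup S // IsMulCommutative ↥B ∧ B.index = p}
  let Y := {y : S // y ∉ Subgroup.center S}
  let f : Y → 𝔅 := fun y => ⟨Subgroup.center S ⊔ Subgroup.zpowers y.1,
    isMulCommutative_center_sup_zpowers y.1, index_center_sup_zpowers hp hna hZi y.2⟩
  have hf : ∀ (y : Y) (B : 𝔅), f y = B ↔ y.1 ∈ B.1 := by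
    intro y B
    constructor
    · intro h
      rw [← h]
      exact (le_sup_right : Subgroup.zpowers y.1 ≤ _) (Subgroup.mem_zpowers y.1)
    · intro h
      apply Subtype.ext
      apply eq_of_le_of_index_prime hp (index_center_sup_zpowers hp hna hZi y.2) B.2.2
      exact sup_le (center_le_of_abelian_index_prime hp hna B.2.1 B.2.2)
        ((Subgroup.zpowers_le).2 h)
  set z := Nat.card (Subgroup.center S) with hz
  have hzpos : 0 < z := Nat.card_pos
  have hScard : Nat.card S = p ^ 2 * z := by
    rw [← Subgroup.card_mul_index (Subgroup.center S), hZi, mul_comm]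
  have hfiber : ∀ B : 𝔅, Nat.card {y : Y // f y = B} = p * z - z := by
    intro B
    have hZB : Subgroup.center S ≤ B.1 := center_le_of_abelian_index_prime hp hna B.2.1 B.2.2
    have hBcard : Nat.card B.1 = p * z := by
      have h1 : Nat.card B.1 * B.1.index = Nat.card S := Subgroup.card_mul_index _
      rw [B.2.2, hScard] at h1
      have h2 : Nat.card B.1 * p = (p * z) * p := by rw [h1]; ring
      exact Nat.eq_of_mul_eq_mul_right hp.pos h2
    have e : {y : Y // f y = B} ≃ ↥((B.1 : Set S) \ (Subgroup.center S : Set S)) :=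
      { toFun := fun y => ⟨y.1.1, (hf y.1 B).1 y.2, y.1.2⟩
        invFun := fun y => ⟨⟨y.1, y.2.2⟩, (hf _ B).2 y.2.1⟩
        left_inv := fun y => rfl
        right_inv := fun y => rfl }
    rw [Nat.card_congr e, Nat.card_coe_set_eq, Set.ncard_sdiff (by exact hZB)]
    rw [← Nat.card_coe_set_eq, ← Nat.card_coe_set_eq]
    change Nat.card B.1 - Nat.card (Subgroup.center S) = _
    rw [hBcard]
  have hYcard : Nat.card Y = p ^ 2 * z - z := by
    have : Nat.card Y = ((Subgroup.center S : Set S)ᶜ).ncard := by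
      rw [← Nat.card_coe_set_eq]; rfl
    rw [this, Set.ncard_compl, hScard, ← Nat.card_coe_set_eq]
    rfl
  have hsum : Nat.card Y = Nat.card 𝔅 * (p * z - z) := by
    have : Fintype 𝔅 := Fintype.ofFinite 𝔅
    rw [← Nat.card_congr (Equiv.sigmaFiberEquiv f), Nat.card_sigma]
    simp only [hfiber, Finset.sum_const, Finset.card_univ, smul_eq_mul, Nat.card_eq_fintype_card]
  rw [hYcard] at hsum
  obtain ⟨q, rfl⟩ : ∃ q, p = q + 1 := ⟨p - 1, by have := hp.pos; omega⟩
  have hq : 0 < q := by have := hp.one_lt; omega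
  have e1 : (q + 1) ^ 2 * z - z = (q + 2) * (q * z) := by
    have : (q + 1) ^ 2 * z = (q + 2) * (q * z) + z := by ring
    rw [this]; omega
  have e2 : (q + 1) * z - z = q * z := by
    have : (q + 1) * z = q * z + z := by ring
    rw [this]; omega
  rw [e1, e2] at hsum
  have h := Nat.eq_of_mul_eq_mul_right (Nat.mul_pos hq hzpos) hsum
  exact h.symm

end counting

end Cfsg.Agent.Lib.Helper63
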