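import Mathlib
import Cfsg.Prelude.Def_Local

set_option autoImplicit false

namespace Cfsg.Agent.Lib.Helper63

open Cfsg

universe u

variable {G : Type*} [Group G]

/-! ### Unfolding the upper `p`-series -/

theorem ups_zero (p : ℕ) : (upperPSeries p G 0).1 = ⊥ := rfl

theorem ups_succ_even (p : ℕ) {n : ℕ} (h : Even n) : (upperPSeries p G (n+1)).1 =
    (pPrimeCore p (G ⧸ (upperPSeries p G n).1)).comap (QuotientGroup.mk' (upperPSeries p G n).1) := by
  rw [upperPSeries]
  simp only [h, if_true]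

theorem ups_succ_odd (p : ℕ) {n : ℕ} (h : ¬ Even n) : (upperPSeries p G (n+1)).1 =
    (pCore p (G ⧸ (upperPSeries p G n).1)).comap (QuotientGroup.mk' (upperPSeries p G n).1) := by
  rw [upperPSeries]
  simp only [h, if_false]

theorem ups_le_succ (p : ℕ) (n : ℕ) : (upperPSeries p G n).1 ≤ (upperPSeries p G (n+1)).1 := by
  by_cases h : Even n
  · rw [ups_succ_even p h]
    have := Subgroup.ker_le_comap (QuotientGroup.mk' (upperPSeries p G n).1)
      (pPrimeCore p (G ⧸ (upperPSeries p G n).1))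
    rwa [QuotientGroup.ker_mk'] at this
  · rw [ups_succ_odd p h]
    have := Subgroup.ker_le_comap (QuotientGroup.mk' (upperPSeries p G n).1)
      (pCore p (G ⧸ (upperPSeries p G n).1))
    rwa [QuotientGroup.ker_mk'] at this

theorem ups_mono (p : ℕ) : Monotone (fun n => (upperPSeries p G n).1) :=
  monotone_nat_of_le_succ (ups_le_succ p)

theorem pLengthLE_mono {p k k' : ℕ} (hk : k ≤ k') (h : PLengthLE p k G) : PLengthLE p k' G := by
  unfold PLengthLE at *
  rw [eq_top_iff, ← h]
  exact ups_mono p (by omega)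

/-! ### Elementwise factor conditions -/

/-- `B/A` is a `p`-group, elementwise. -/
def PFac (p : ℕ) (A B : Subgroup G) : Prop := ∀ x ∈ B, ∃ m : ℕ, x ^ (p ^ m) ∈ A

/-- `B/A` is a `p'`-group, elementwise. -/
def PPrimeFac (p : ℕ) (A B : Subgroup G) : Prop := ∀ x ∈ B, ∃ n : ℕ, n.Coprime p ∧ x ^ n ∈ A

/-- A `p`-series starting at `⊥`: normal subgroups with factors alternately `p'` and `p`. -/
def IsPSeries (p : ℕ) (N : ℕ → Subgroup G) : Prop :=
  N 0 = ⊥ ∧ (∀ i, (N i).Normal) ∧ (∀ i, Even i → PPrimeFac p (N i) (N (i+1))) ∧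
    (∀ i, ¬ Even i → PFac p (N i) (N (i+1)))

theorem card_coprime_of_forall {X : Type*} [Group X] [Finite X] {p : ℕ} [hp : Fact p.Prime]
    (h : ∀ x : X, ∃ n : ℕ, n.Coprime p ∧ x ^ n = 1) : (Nat.card X).Coprime p := by
  rw [Nat.coprime_comm, Nat.Prime.coprime_iff_not_dvd hp.out]
  intro hdvd
  obtain ⟨x, hx⟩ := exists_prime_orderOf_dvd_card' (G := X) p hdvd
  obtain ⟨n, hn, hxn⟩ := h x
  have : p ∣ n := by rw [← hx]; exact orderOf_dvd_of_pow_eq_one hxn
  have h1 : p ∣ Nat.gcd n p := Nat.dvd_gcd this dvd_rfl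
  rw [hn] at h1
  exact hp.out.one_lt.ne' (Nat.dvd_one.1 h1)

theorem pCore_isPGroup' (p : ℕ) (K : Type*) [Group K] : IsPGroup p (Cfsg.pCore p K) := by
  unfold Cfsg.pCore
  exact Sylow.sSup_of_normal _ (fun _ h => h.2) (fun _ h => h.1)

theorem card_sup_dvd_mul' (H K : Subgroup G) [K.Normal] :
    Nat.card (H ⊔ K : Subgroup G) ∣ Nat.card H * Nat.card K := by
  have h1 : Nat.card K * K.relIndex (H ⊔ K) = Nat.card (H ⊔ K : Subgroup G) := by
    have := Subgroup.relIndex_mul_relIndex (⊥ : Subgroup G) K (H ⊔ K) bot_le le_sup_right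
    rwa [Subgroup.relIndex_bot_left, Subgroup.relIndex_bot_left] at this
  rw [← h1, Subgroup.relIndex_sup_right, mul_comm]
  exact Nat.mul_dvd_mul_right (Subgroup.relIndex_dvd_card K H) _

/-- The `p'`-core of a finite group has order prime to `p`. -/
theorem pPrimeCore_card_coprime' [Finite G] (p : ℕ) : (Nat.card (Cfsg.pPrimeCore p G)).Coprime p := by
  classical
  set S : Set (Subgroup G) := {N : Subgroup G | N.Normal ∧ (Nat.card N).Coprime p} with hS
  have hne : S.Nonempty := ⟨⊥, inferInstance, by simp⟩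
  obtain ⟨M, hM⟩ := (Set.toFinite S).exists_maximal hne
  have hMS : M ∈ S := hM.prop
  have hle : ∀ N ∈ S, N ≤ M := by
    intro N hN
    haveI : N.Normal := hN.1
    haveI : M.Normal := hMS.1
    have hsup : M ⊔ N ∈ S := by
      refine ⟨inferInstance, ?_⟩
      exact Nat.Coprime.coprime_dvd_left (card_sup_dvd_mul' M N) (Nat.Coprime.mul_left hMS.2 hN.2)
    have := hM.le_of_ge hsup le_sup_left
    exact le_sup_right.trans this
  have : Cfsg.pPrimeCore p G = M := le_antisymm (sSup_le hle) (le_sSup hMS)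
  rw [this]
  exact hMS.2

/-- Any `p`-series is dominated termwise by the upper `p`-series. -/
theorem IsPSeries.le_ups [Finite G] {p : ℕ} [Fact p.Prime] {N : ℕ → Subgroup G}
    (h : IsPSeries p N) : ∀ i, N i ≤ (upperPSeries p G i).1 := by
  intro i
  induction i with
  | zero => rw [h.1]; exact bot_le
  | succ i ih =>
    set U := (upperPSeries p G i).1 with hU
    have hXn : ((N (i+1)).map (QuotientGroup.mk' U)).Normal :=
      (h.2.1 (i+1)).map _ (QuotientGroup.mk'_surjective U)
    by_cases he : Even i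
    · rw [ups_succ_even p he]
      have hXc : (Nat.card ((N (i+1)).map (QuotientGroup.mk' U))).Coprime p := by
        apply card_coprime_of_forall
        rintro ⟨_, y, hy, rfl⟩
        obtain ⟨n, hn, hyn⟩ := h.2.2.1 i he y hy
        refine ⟨n, hn, ?_⟩
        apply Subtype.ext
        show ((QuotientGroup.mk' U) y) ^ n = 1
        rw [← map_pow]
        exact (QuotientGroup.eq_one_iff _).2 (ih hyn)
      have : (N (i+1)).map (QuotientGroup.mk' U) ≤ pPrimeCore p (G ⧸ U) :=
        le_sSup (show _ ∈ {N : Subgroup (G ⧸ U) | N.Normal ∧ (Nat.card N).Coprime p} from ⟨hXn, hXc⟩)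
      exact Subgroup.map_le_iff_le_comap.1 this
    · rw [ups_succ_odd p he]
      have hXp : IsPGroup p ((N (i+1)).map (QuotientGroup.mk' U)) := by
        rintro ⟨_, y, hy, rfl⟩
        obtain ⟨m, hym⟩ := h.2.2.2 i he y hy
        refine ⟨m, ?_⟩
        apply Subtype.ext
        show ((QuotientGroup.mk' U) y) ^ (p ^ m) = 1
        rw [← map_pow]
        exact (QuotientGroup.eq_one_iff _).2 (ih hym)
      have : (N (i+1)).map (QuotientGroup.mk' U) ≤ pCore p (G ⧸ U) :=
        le_sSup (show _ ∈ {N : Subgroup (G ⧸ U) | N.Normal ∧ IsPGroup p N} from ⟨hXn, hXp⟩)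
      exact Subgroup.map_le_iff_le_comap.1 this

/-- The upper `p`-series of a finite group is a `p`-series. -/
theorem isPSeries_ups [Finite G] (p : ℕ) : IsPSeries p (fun i => (upperPSeries p G i).1) := by
  refine ⟨rfl, fun i => (upperPSeries p G i).2, ?_, ?_⟩
  · intro i he x hx
    simp only at hx ⊢
    rw [ups_succ_even p he, Subgroup.mem_comap] at hx
    set U := (upperPSeries p G i).1 with hU
    refine ⟨Nat.card (pPrimeCore p (G ⧸ U)), pPrimeCore_card_coprime' p, ?_⟩
    have h1 : (⟨_, hx⟩ : pPrimeCore p (G ⧸ U)) ^ Nat.card (pPrimeCore p (G ⧸ U)) = 1 :=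
      pow_card_eq_one'
    have h2 := congrArg Subtype.val h1
    simp only [Subgroup.coe_pow, Subgroup.coe_one] at h2
    rw [← map_pow] at h2
    exact (QuotientGroup.eq_one_iff _).1 h2
  · intro i he x hx
    simp only at hx ⊢
    rw [ups_succ_odd p he, Subgroup.mem_comap] at hx
    set U := (upperPSeries p G i).1 with hU
    obtain ⟨m, hm⟩ := pCore_isPGroup' p (G ⧸ U) ⟨_, hx⟩
    refine ⟨m, ?_⟩
    have h2 := congrArg Subtype.val hm
    simp only [Subgroup.coe_pow, Subgroup.coe_one] at h2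
    rw [← map_pow] at h2
    exact (QuotientGroup.eq_one_iff _).1 h2

theorem pLengthLE_iff [Finite G] {p k : ℕ} [Fact p.Prime] :
    PLengthLE p k G ↔ ∃ N : ℕ → Subgroup G, IsPSeries p N ∧ N (2 * k + 1) = ⊤ := by
  constructor
  · intro h
    exact ⟨_, isPSeries_ups p, h⟩
  · rintro ⟨N, hN, htop⟩
    unfold PLengthLE
    rw [eq_top_iff, ← htop]
    exact hN.le_ups _

/-! ### Transfer along homomorphisms -/

theorem IsPSeries.map {G' : Type*} [Group G'] {p : ℕ} {N : ℕ → Subgroup G} (h : IsPSeries p N)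
    (f : G →* G') (hf : Function.Surjective f) : IsPSeries p (fun i => (N i).map f) := by
  refine ⟨?_, fun i => (h.2.1 i).map f hf, ?_, ?_⟩
  · simp only [h.1, Subgroup.map_bot]
  · rintro i he _ ⟨x, hx, rfl⟩
    obtain ⟨n, hn, hxn⟩ := h.2.2.1 i he x hx
    exact ⟨n, hn, by rw [← map_pow]; exact Subgroup.mem_map_of_mem f hxn⟩
  · rintro i he _ ⟨x, hx, rfl⟩
    obtain ⟨m, hxm⟩ := h.2.2.2 i he x hx
    exact ⟨m, by rw [← map_pow]; exact Subgroup.mem_map_of_mem f hxm⟩

theorem IsPSeries.comap {G' : Type*} [Group G'] {p : ℕ} {N : ℕ → Subgroup G} (h : IsPSeries p N)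
    (f : G' →* G) (hf : Function.Injective f) : IsPSeries p (fun i => (N i).comap f) := by
  refine ⟨?_, fun i => (h.2.1 i).comap f, ?_, ?_⟩
  · simp only [h.1]
    rw [MonoidHom.comap_bot, (MonoidHom.ker_eq_bot_iff f).2 hf]
  · intro i he x hx
    obtain ⟨n, hn, hxn⟩ := h.2.2.1 i he (f x) hx
    exact ⟨n, hn, by rw [Subgroup.mem_comap, map_pow]; exact hxn⟩
  · intro i he x hx
    obtain ⟨m, hxm⟩ := h.2.2.2 i he (f x) hx
    exact ⟨m, by rw [Subgroup.mem_comap, map_pow]; exact hxm⟩

theorem pLengthLE_of_surjective [Finite G] {G' : Type*} [Group G'] {p k : ℕ} [Fact p.Prime]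
    (h : PLengthLE p k G) (f : G →* G') (hf : Function.Surjective f) : PLengthLE p k G' := by
  haveI : Finite G' := Finite.of_surjective f hf
  obtain ⟨N, hN, htop⟩ := pLengthLE_iff.1 h
  refine pLengthLE_iff.2 ⟨_, hN.map f hf, ?_⟩
  simp only [htop]
  exact Subgroup.map_top_of_surjective f hf

theorem pLengthLE_of_injective [Finite G] {G' : Type*} [Group G'] {p k : ℕ} [Fact p.Prime]
    (h : PLengthLE p k G) (f : G' →* G) (hf : Function.Injective f) : PLengthLE p k G' := by
  haveI : Finite G' := Finite.of_injective f hf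
  obtain ⟨N, hN, htop⟩ := pLengthLE_iff.1 h
  refine pLengthLE_iff.2 ⟨_, hN.comap f hf, ?_⟩
  simp only [htop]
  exact Subgroup.comap_top f

theorem pLengthLE_quotient [Finite G] {p k : ℕ} [Fact p.Prime] (h : PLengthLE p k G)
    (K : Subgroup G) [K.Normal] : PLengthLE p k (G ⧸ K) :=
  pLengthLE_of_surjective h (QuotientGroup.mk' K) (QuotientGroup.mk'_surjective K)

theorem pLengthLE_subgroup [Finite G] {p k : ℕ} [Fact p.Prime] (h : PLengthLE p k G)
    (H : Subgroup G) : PLengthLE p k H :=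
  pLengthLE_of_injective h H.subtype H.subtype_injective

end Cfsg.Agent.Lib.Helper63
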