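import Cfsg.Agent.Lib.Helper47.BG11a
import Cfsg.Agent.Lib.Helper96.BG127
import Cfsg.Agent.Lib.Helper90.BG1212
import Cfsg.Agent.Lib.Helper32.BG126
import Cfsg.Agent.Lib.Helper23.TransCore

set_option autoImplicit false
set_option linter.style.haveILetI false
set_option linter.unusedSectionVars false

/-!
# Bender–Glauberman §13 (prime action), part A: Corollary 13.3(a)

`bg13_3a`: for a cyclic Sylow subgroup `S` of a complement `E` of `M_σ` in `M`, every nonidentity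
element of `S` has the same centralizer in `M_σ` as `S`.  Everything is proved from the statements of
BG 9.6 (`UniqStmt`), 10.2(d) (`HallStmt`), 10.8 (`NpcStmt`), 12.5(a) (`NilStmt`) and 12.6 (`NormStmt`).
-/

namespace Cfsg.Agent.Lib.Helper63.BG13

open Subgroup Cfsg Cfsg.Agent.Lib.Helper33 Cfsg.Agent.Lib.Helper24 Cfsg.Agent.Lib.Helper24.BG
open Cfsg.Agent.Lib.Helper47.BG11 Cfsg.Agent.Lib.Helper63

universe u

variable {G : Type u} [Group G] [Finite G]

/-! ### statements used as hypotheses -/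

/-- BG 10.2(d), first part: `M_σ` is a Hall subgroup of `M`, for every maximal subgroup. -/
def HallStmt (G : Type u) [Group G] : Prop :=
  ∀ M : Subgroup G, IsCoatom M → SigmaHallIn M

/-- BG 10.8 (S1414), the clause used here: `H_σ` has a normal `q`-complement for `q ∉ β(H)`. -/
def NpcStmt (G : Type u) [Group G] : Prop :=
  ∀ H : Subgroup G, IsCoatom H → ∀ q : ℕ, q.Prime → q ∣ Nat.card H → q ∉ beta H →
    HasNormalPComplement q ↥(sigmaCore H)

/-- BG 12.5(a) (S1417): `M_σ` is nilpotent when `τ₂(M)` is nonempty. -/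
def NilStmt (G : Type u) [Group G] : Prop :=
  ∀ M : Subgroup G, IsCoatom M → ∀ (p : ℕ) [Fact p.Prime], p ∈ tau2 M → ∀ A : Subgroup G,
    A ≤ M → IsElementaryAbelian p A → Nat.card A = p ^ 2 → Group.IsNilpotent ↥(sigmaCore M)

/-- BG 12.6 (S1418), the clauses used here. -/
def NormStmt (G : Type u) [Group G] : Prop :=
  ∀ M : Subgroup G, IsCoatom M → ∀ E : Subgroup G, IsComplIn E (sigmaCore M) M →
    ∀ (p : ℕ) [Fact p.Prime], p ∈ tau2 M → ∀ A : Subgroup G, A ≤ E → IsElementaryAbelian p A →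
      Nat.card A = p ^ 2 → E ≤ normalizer (A : Set G) ∧ ¬ normalizer (A : Set G) ≤ M

/-! ### conjugation invariance -/

theorem isCoatom_cj {M : Subgroup G} (hM : IsCoatom M) (g : G) : IsCoatom (cj g M) := by
  rw [cj_eq_smul]
  exact Cfsg.Agent.Lib.Helper64.BG9.isCoatom_smul _ hM

/-- `σ(M)` is invariant under conjugation -/
theorem sigma_cj {M : Subgroup G} {p : ℕ} (g : G) (hp : p ∈ sigma M) : p ∈ sigma (cj g M) := by
  obtain ⟨hpp, hd, P, hP⟩ := hp
  haveI : Fact p.Prime := ⟨hpp⟩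
  obtain ⟨h1, h2, h3⟩ := sylow_map_facts M P
  have h1' : cj g ((P : Subgroup M).map M.subtype) ≤ cj g M := cj_mono h1
  have h2' : IsPGroup p (cj g ((P : Subgroup M).map M.subtype)) := isPGroup_cj h2
  have h3' : ¬ p ∣ (cj g ((P : Subgroup M).map M.subtype)).relIndex (cj g M) := by
    rw [relIndex_cj]; exact h3
  obtain ⟨P₂, hP₂⟩ := exists_sylow_map_eq (cj g M) _ h1' h2' h3'
  refine ⟨hpp, ?_, P₂, ?_⟩
  · rw [card_cj]; exact hd
  · rw [hP₂, normalizer_cj]; exact cj_mono hP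

/-- **Fact A**: if `q ∈ σ(M) ∩ α(H)` then `H` is conjugate to `M`. -/
theorem conj_of_sigma_alpha (hU : BG10.UniqStmt G) {M H : Subgroup G} (hH : IsCoatom H)
    (hM : IsCoatom M) {q : ℕ} (hqM : q ∈ sigma M) (hqH : q ∈ alpha H) : ∃ g : G, H = cj g M := by
  obtain ⟨hqp, hd, P, hP⟩ := hqM
  haveI : Fact q.Prime := ⟨hqp⟩
  obtain ⟨B, hBH, hBe, hBc⟩ := BG10.exists_of_not_pRankLE hqH.2
  have hBtop : B ≠ ⊤ := fun h => hH.1 (top_le_iff.mp (h ▸ hBH))
  have hq2 : q ≤ q ^ 2 := Nat.le_self_pow two_ne_zero q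
  have hB1 : ¬ RankLE 1 B := BG10.not_rankLE_one_of_elemAb hBe le_rfl (lt_of_le_of_lt hq2 hBc)
  have hB2 : ¬ RankLE 2 B := BG10.not_rankLE_two_of_elemAb hBe le_rfl hBc
  have hBu : InUniqueMaximal B := hU B hBtop hB1 (Or.inl hB2)
  obtain ⟨h1, h2, h3⟩ := sylow_map_facts M P
  have hmax := Cfsg.Agent.Lib.Helper90.BG1212.maximal_of_normalizer_le h1 h2 h3 hP
  obtain ⟨g, hg⟩ := Cfsg.Agent.Lib.Helper90.BG1212.exists_le_cj_of_maximal h2 hmax
    (BG10.isPGroup_of_elemAb hBe)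
  refine ⟨g, ?_⟩
  have hBM : B ≤ cj g M := hg.trans (cj_mono h1)
  obtain ⟨M₀, _, huniq⟩ := hBu
  rw [huniq H ⟨hH, hBH⟩, huniq (cj g M) ⟨isCoatom_cj hM g, hBM⟩]

/-! ### Lemma Z -/

/-- **Lemma Z**: `p ∈ σ(H)`, `p ∉ σ(M)`; a `p`-subgroup `S ≤ H` normalizing a subgroup
`C ≤ M_σ ∩ H` centralizes it. -/
theorem lemmaZ (hU : BG10.UniqStmt G) (h14 : NpcStmt G) {M H : Subgroup G} (hM : IsCoatom M)
    (hH : IsCoatom H) (hσH : SigmaHallIn H) {p : ℕ} [hp : Fact p.Prime] (hpH : p ∈ sigma H)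
    (hpM : p ∉ sigma M) {S C : Subgroup G} (hS : IsPGroup p S) (hSH : S ≤ H) (hCH : C ≤ H)
    (hCσ : C ≤ sigmaCore M) (hSC : S ≤ normalizer (C : Set G)) :
    C ≤ centralizer (S : Set G) := by
  intro c hc
  rw [mem_centralizer_iff]
  intro s hs
  by_contra hne
  have hzC : c * s * c⁻¹ * s⁻¹ ∈ C := by
    have h1 : s * c⁻¹ * s⁻¹ ∈ C := (mem_normalizer_iff.mp (hSC hs) c⁻¹).mp (C.inv_mem hc)
    have : c * s * c⁻¹ * s⁻¹ = c * (s * c⁻¹ * s⁻¹) := by group
    rw [this]; exact C.mul_mem hc h1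
  have hz1 : c * s * c⁻¹ * s⁻¹ ≠ 1 := by
    intro h
    apply hne
    have h1 : c * s * c⁻¹ = s := mul_inv_eq_one.mp h
    have h2 : c * s = s * c := mul_inv_eq_iff_eq_mul.mp h1
    exact h2.symm
  have hord : orderOf (c * s * c⁻¹ * s⁻¹) ≠ 1 := fun h => hz1 (orderOf_eq_one_iff.mp h)
  obtain ⟨q, hq, hqz⟩ := Nat.exists_prime_and_dvd hord
  haveI : Fact q.Prime := ⟨hq⟩
  have hqC : q ∣ Nat.card C := by
    have h1 := orderOf_dvd_natCard (⟨c * s * c⁻¹ * s⁻¹, hzC⟩ : C)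
    rw [Subgroup.orderOf_mk] at h1
    exact hqz.trans h1
  have hqσM : q ∈ sigma M := mem_sigma_of_dvd_card_le hCσ hq hqC
  have hqp : q ≠ p := fun h => hpM (h ▸ hqσM)
  have hqH : q ∣ Nat.card H := hqC.trans (Subgroup.card_dvd_of_le hCH)
  have hqβ : q ∉ beta H := by
    intro hβ
    obtain ⟨g, hg⟩ := conj_of_sigma_alpha hU hH hM hqσM hβ.1
    apply hpM
    have h1 : p ∈ sigma (cj g M) := hg ▸ hpH
    have h2 := sigma_cj g⁻¹ h1
    rwa [cj_inv_cj] at h2
  obtain ⟨Q, N, hNn, hNQ⟩ := h14 H hH q hq hqH hqβ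
  haveI := hNn
  have hNidx : N.index = Nat.card (Q : Subgroup ↥(sigmaCore H)) := hNQ.symm.index_eq_card
  have hpN : ¬ p ∣ N.index := by
    rw [hNidx]
    intro h
    obtain ⟨k, hk⟩ := IsPGroup.iff_card.mp Q.isPGroup'
    rw [hk] at h
    exact hqp.symm ((Nat.prime_dvd_prime_iff_eq hp.out hq).mp (hp.out.dvd_of_dvd_pow h))
  have hSσ : S ≤ sigmaCore H := le_sigmaCore_of_sigma hσH hpH hSH hS
  have hx2 : s⁻¹ ∈ sigmaCore H := (sigmaCore H).inv_mem (hSσ hs)
  have hx1 : c * s * c⁻¹ ∈ sigmaCore H := sigmaCore_conj_mem H (hCH hc) (hSσ hs)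
  obtain ⟨k, hk⟩ := (IsPGroup.iff_orderOf.mp hS) ⟨s, hs⟩
  have hos : orderOf s = p ^ k := by rw [← hk, Subgroup.orderOf_mk]
  have ho1 : ∃ k : ℕ, orderOf (⟨c * s * c⁻¹, hx1⟩ : ↥(sigmaCore H)) = p ^ k := by
    refine ⟨k, ?_⟩
    rw [Subgroup.orderOf_mk, ← hos]
    have : c * s * c⁻¹ = MulAut.conj c s := by simp [MulAut.conj_apply]
    rw [this, MulEquiv.orderOf_eq]
  have ho2 : ∃ k : ℕ, orderOf (⟨s⁻¹, hx2⟩ : ↥(sigmaCore H)) = p ^ k :=
    ⟨k, by rw [Subgroup.orderOf_mk, orderOf_inv, hos]⟩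
  have hm1 := mem_of_not_dvd_index N hpN ho1
  have hm2 := mem_of_not_dvd_index N hpN ho2
  have hm := N.mul_mem hm1 hm2
  have hqN : q ∣ Nat.card N := by
    have h1 := orderOf_dvd_natCard
      (⟨(⟨c * s * c⁻¹, hx1⟩ : ↥(sigmaCore H)) * ⟨s⁻¹, hx2⟩, hm⟩ : N)
    rw [Subgroup.orderOf_mk] at h1
    have h2 : orderOf ((⟨c * s * c⁻¹, hx1⟩ : ↥(sigmaCore H)) * ⟨s⁻¹, hx2⟩) =
        orderOf (c * s * c⁻¹ * s⁻¹) := by
      rw [← Subgroup.orderOf_coe]; rfl
    rw [h2] at h1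
    exact hqz.trans h1
  have hcN : Nat.card N = (Q : Subgroup ↥(sigmaCore H)).index := hNQ.index_eq_card.symm
  rw [hcN] at hqN
  exact Q.not_dvd_index hqN

/-! ### auxiliary lemmas -/

theorem pRankLE_one_of_isCyclic {T : Type*} [Group T] [Finite T] {p : ℕ} (hp : p.Prime)
    (h : IsCyclic T) : PRankLE p 1 T := by
  intro A _ hAe
  by_contra hcon
  push Not at hcon
  have hAc : IsCyclic A := Subgroup.isCyclic A
  rw [pow_one] at hcon
  exact Cfsg.Agent.Lib.Helper64.BG9.not_isCyclic_of_exp hp A hAe hcon hAc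

/-- the Sylow subgroups of a nilpotent subgroup `K` are normalized by whatever normalizes `K` -/
theorem le_normalizer_sylow_of_nilpotent {K L : Subgroup G} (hKL : L ≤ normalizer (K : Set G))
    (hnil : Group.IsNilpotent ↥K) {q : ℕ} [hq : Fact q.Prime] (P : Sylow q ↥K) :
    L ≤ normalizer (((P : Subgroup K).map K.subtype : Subgroup G) : Set G) := by
  intro l hl
  apply cj_eq_self_iff.mp
  apply cj_eq_of_le
  intro y hy
  obtain ⟨x, hx, rfl⟩ := mem_cj'.mp hy
  obtain ⟨x', hx', rfl⟩ := hx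
  have hyK : l * (x' : G) * l⁻¹ ∈ K := (mem_normalizer_iff.mp (hKL hl) _).mp x'.2
  haveI := hnil
  haveI hPn : (P : Subgroup K).Normal := inferInstance
  have hidx : ¬ q ∣ (P : Subgroup K).index := P.not_dvd_index
  obtain ⟨k, hk⟩ := (IsPGroup.iff_orderOf.mp P.isPGroup') ⟨x', hx'⟩
  have ho : ∃ k : ℕ, orderOf (⟨l * (x' : G) * l⁻¹, hyK⟩ : ↥K) = q ^ k := by
    refine ⟨k, ?_⟩
    rw [Subgroup.orderOf_mk]
    have : l * (x' : G) * l⁻¹ = MulAut.conj l (x' : G) := by simp [MulAut.conj_apply]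
    rw [this, MulEquiv.orderOf_eq, Subgroup.orderOf_coe, ← hk]
    exact (Subgroup.orderOf_mk x' hx').symm
  have hmem := mem_of_not_dvd_index (P : Subgroup K) hidx ho
  exact ⟨⟨l * (x' : G) * l⁻¹, hyK⟩, hmem, rfl⟩

/-- a `σ(M)'`-subgroup of `M` lies in some complement of `M_σ` in `M` -/
theorem exists_compl_ge (hG : IsMinSimpleOddOrder G) {M : Subgroup G} (hMtop : M ≠ ⊤)
    (hσ : SigmaHallIn M) {T : Subgroup G} (hTM : T ≤ M)
    (hcop : (Nat.card T).Coprime (Nat.card (sigmaCore M))) :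
    ∃ E' : Subgroup G, IsComplIn E' (sigmaCore M) M ∧ T ≤ E' := by
  set N := sigmaCore M with hN
  have hNM : N ≤ M := sigmaCore_le M
  have hMN : M ≤ normalizer (N : Set G) := le_normalizer_sigmaCore M
  have hNtop : N ≠ ⊤ := fun h => hMtop (top_le_iff.mp (h ▸ hNM))
  have hsolv : Group.IsSolvable ↥N := Cfsg.Agent.Lib.Helper23.isSolvable_of_ne_top hG hNtop
  have hcopN : (Nat.card N).Coprime (N.relIndex M) := by
    apply Nat.coprime_of_dvd
    intro k hk hkN hkr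
    exact hσ.2.2 k hk (hσ.2.1 k hk hkN) hkr
  obtain ⟨E, hEM, -, hEN, hEsup⟩ := rel_sz_exists N M hNM hMN hcopN
  have hprod : ∀ m ∈ M, ∃ a ∈ E, ∃ b ∈ N, m = a * b := by
    intro m hm
    exact exists_mul_of_mem_sup_of_le_normalizer E N (hEM.trans hMN) m (hEsup ▸ hm)
  set Y := T ⊔ N with hY
  set H₂ := E ⊓ Y with hH₂
  have h₁ : T ≤ normalizer (N : Set G) := hTM.trans hMN
  have hYM : Y ≤ M := sup_le hTM hNM
  have hc1 : IsComplIn T N Y := by
    refine ⟨le_sup_left, le_sup_right, (Subgroup.disjoint_of_coprime_natCard hcop).eq_bot, ?_⟩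
    intro y hy
    exact exists_mul_of_mem_sup_of_le_normalizer T N h₁ y hy
  have hc2 : IsComplIn H₂ N Y := by
    refine ⟨inf_le_right, le_sup_right, ?_, ?_⟩
    · rw [eq_bot_iff, ← hEN]
      exact inf_le_inf_right _ inf_le_left
    · intro y hy
      obtain ⟨e, he, s, hs, rfl⟩ := hprod y (hYM hy)
      refine ⟨e, ⟨he, ?_⟩, s, hs, rfl⟩
      have : e = (e * s) * s⁻¹ := by group
      rw [this]
      exact Y.mul_mem hy (Y.inv_mem ((le_sup_right : N ≤ Y) hs))
  have hcard : Nat.card H₂ = Nat.card T := by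
    have e1 := Cfsg.Agent.Lib.Helper23.card_isComplIn hc1
    have e2 := Cfsg.Agent.Lib.Helper23.card_isComplIn hc2
    have hpos : 0 < Nat.card N := Nat.card_pos
    exact Nat.eq_of_mul_eq_mul_right hpos (e2.trans e1.symm)
  obtain ⟨n, hn, hconj⟩ := rel_sz_conj N T H₂ h₁ hcop (Or.inl hsolv) inf_le_right hcard
  have hnM : n ∈ M := hNM hn
  have hTE : cj n T ≤ E := by rw [hconj]; exact inf_le_left
  refine ⟨cj n⁻¹ E, ⟨?_, hNM, ?_, ?_⟩, ?_⟩
  · rw [cj_le_iff, inv_inv, cj_eq_self_of_mem hnM]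
    exact hEM
  · have hNn : cj n⁻¹ N = N := cj_eq_self_of_mem (N.inv_mem hn)
    rw [← hNn, ← cj_inf, hEN, cj_bot]
  · intro m hm
    obtain ⟨e, he, s, hs, hes⟩ := hprod (n * m * n⁻¹) (M.mul_mem (M.mul_mem hnM hm) (M.inv_mem hnM))
    refine ⟨n⁻¹ * e * n, ?_, n⁻¹ * s * n, ?_, ?_⟩
    · rw [mem_cj, inv_inv]
      have : n * (n⁻¹ * e * n) * n⁻¹ = e := by group
      rw [this]; exact he
    · have h1 := (mem_normalizer_iff.mp (hMN (M.inv_mem hnM)) s).mp hs
      simpa using h1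
    · have : m = n⁻¹ * (n * m * n⁻¹) * n := by group
      rw [this, hes]; group
  · rw [le_cj_iff, inv_inv]
    exact hTE

/-! ### the main theorem -/

/-- **BG Corollary 13.3(a)**. -/
theorem bg13_3a (hG : IsMinSimpleOddOrder G) (hU : BG10.UniqStmt G) (hHall : HallStmt G)
    (h14 : NpcStmt G) (h17 : NilStmt G) (h18 : NormStmt G)
    {M : Subgroup G} (hM : IsCoatom M) {E : Subgroup G} (hE : IsComplIn E (sigmaCore M) M)
    {p : ℕ} [hp : Fact p.Prime] (S : Sylow p E) (hS1 : (S : Subgroup E) ≠ ⊥)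
    (hSc : IsCyclic (S : Subgroup E)) :
    ∀ x ∈ (S : Subgroup E).map E.subtype, x ≠ 1 →
      sigmaCore M ⊓ centralizer ({x} : Set G) =
        sigmaCore M ⊓ centralizer (((S : Subgroup E).map E.subtype : Subgroup G) : Set G) := by
  intro x hx hx1
  have hpp : p.Prime := hp.out
  have hσM : SigmaHallIn M := hHall M hM
  have hEM : E ≤ M := hE.1
  obtain ⟨hSE, hSp, hSi⟩ := sylow_map_facts E S
  set SG := (S : Subgroup E).map E.subtype with hSG
  have hSM : SG ≤ M := hSE.trans hEM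
  -- the easy inclusion
  apply le_antisymm _ (inf_le_inf_left _ (centralizer_le (by
    intro y hy; rw [Set.mem_singleton_iff] at hy; rw [hy]; exact hx)))
  -- `SG` is cyclic
  have hSGc : IsCyclic SG := by
    let e := (S : Subgroup E).equivMapOfInjective E.subtype E.subtype_injective
    exact isCyclic_of_surjective e.toMonoidHom e.surjective
  have hSGcomm : ∀ a ∈ SG, ∀ b ∈ SG, a * b = b * a := by
    intro a ha b hb
    haveI := hSGc
    have h := (IsCyclic.isMulCommutative (α := SG)).is_comm.comm ⟨a, ha⟩ ⟨b, hb⟩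
    exact congrArg Subtype.val h
  have hSG1 : SG ≠ ⊥ := by
    intro h
    apply hS1
    exact (map_eq_bot_iff_of_injective _ E.subtype_injective).mp h
  have hpE : p ∣ Nat.card E := by
    obtain ⟨k, hk⟩ := IsPGroup.iff_card.mp hSp
    have hk0 : k ≠ 0 := by
      intro h0
      rw [h0, pow_zero] at hk
      exact hSG1 (Subgroup.card_eq_one.mp hk)
    have h1 : p ∣ Nat.card SG := by rw [hk]; exact dvd_pow_self p hk0
    exact h1.trans (Subgroup.card_dvd_of_le hSE)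
  have hpσ : p ∉ sigma M :=
    Cfsg.Agent.Lib.Helper96.BG127.not_mem_sigma_of_dvd_card_compl hσM hE hpp hpE
  -- `SG` is a Sylow `p`-subgroup of `M`
  have hSiM : ¬ p ∣ SG.relIndex M := by
    rw [← Subgroup.relIndex_mul_relIndex SG E M hSE hEM]
    intro h
    rcases (Nat.Prime.dvd_mul hpp).mp h with h | h
    · exact hSi h
    · have h1 := Cfsg.Agent.Lib.Helper23.card_isComplIn hE
      have h2 := Subgroup.relIndex_mul_relIndex (⊥ : Subgroup G) E M bot_le hEM
      rw [Subgroup.relIndex_bot_left, Subgroup.relIndex_bot_left] at h2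
      have h3 : E.relIndex M = Nat.card (sigmaCore M) := by
        have hpos : 0 < Nat.card E := Nat.card_pos
        have : Nat.card E * E.relIndex M = Nat.card E * Nat.card (sigmaCore M) := by rw [h2, h1]
        exact Nat.eq_of_mul_eq_mul_left hpos this
      rw [h3] at h
      exact hpσ (mem_sigma_of_dvd_card_sigmaCore M hpp h)
  obtain ⟨PM, hPM⟩ := exists_sylow_map_eq M SG hSM hSp hSiM
  have hr1 : PRankLE p 1 ↥M := by
    apply BG10.pRankLE_of_sylow p PM
    have hc : IsCyclic ↥(PM : Subgroup M) := by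
      let e := (PM : Subgroup M).equivMapOfInjective M.subtype M.subtype_injective
      have h1 : IsCyclic ↥((PM : Subgroup M).map M.subtype) := by rw [hPM]; exact hSGc
      exact isCyclic_of_surjective e.symm.toMonoidHom e.symm.surjective
    exact pRankLE_one_of_isCyclic hpp hc
  -- the subgroup `X1` of order `p` of `⟨x⟩`
  obtain ⟨k, hk⟩ := (IsPGroup.iff_orderOf.mp hSp) ⟨x, hx⟩
  have hox : orderOf x = p ^ k := by rw [← hk, Subgroup.orderOf_mk]
  have hk0 : k ≠ 0 := by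
    intro h0
    rw [h0, pow_zero] at hox
    exact hx1 (orderOf_eq_one_iff.mp hox)
  have hpx : p ∣ orderOf x := by rw [hox]; exact dvd_pow_self p hk0
  have hox0 : orderOf x ≠ 0 := by rw [hox]; exact pow_ne_zero k hpp.ne_zero
  have hoy : orderOf (x ^ (orderOf x / p)) = p := orderOf_pow_orderOf_div hox0 hpx
  set y := x ^ (orderOf x / p) with hy
  set X1 := zpowers y with hX1
  have hX1card : Nat.card X1 = p := by rw [hX1, Nat.card_zpowers, hoy]
  have hyS : y ∈ SG := SG.pow_mem hx _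
  have hX1S : X1 ≤ SG := zpowers_le.mpr hyS
  have hX1bot : X1 ≠ ⊥ := by
    intro h
    rw [h, Subgroup.card_bot] at hX1card
    exact hpp.one_lt.ne hX1card
  have hX1top : X1 ≠ ⊤ := fun h => hM.1 (top_le_iff.mp (h ▸ hX1S.trans hSM))
  have hcx : centralizer ({x} : Set G) ≤ centralizer (X1 : Set G) := by
    intro g hg
    rw [mem_centralizer_iff] at hg ⊢
    intro h hh
    obtain ⟨i, rfl⟩ := mem_zpowers_iff.mp hh
    have hgx : Commute x g := hg x (Set.mem_singleton x)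
    exact ((hgx.pow_left _).zpow_left i).eq
  set C := sigmaCore M ⊓ centralizer (X1 : Set G) with hC
  suffices hmain : C ≤ centralizer (SG : Set G) from
    le_inf inf_le_left ((inf_le_inf_left _ hcx).trans hmain)
  have hSX1 : SG ≤ centralizer (X1 : Set G) := by
    intro s hs
    rw [mem_centralizer_iff]
    intro h hh
    exact hSGcomm h (hX1S hh) s hs
  have hSC : SG ≤ normalizer (C : Set G) :=
    le_normalizer_inf (hSM.trans (le_normalizer_sigmaCore M)) (hSX1.trans le_normalizer)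
  -- the maximal subgroup `L`
  have hNtop := BG10.normalizer_ne_top hG hX1bot hX1top
  obtain ⟨L, hL, hNL⟩ : ∃ L : Subgroup G, IsCoatom L ∧ normalizer (X1 : Set G) ≤ L := by
    rcases eq_top_or_exists_le_coatom (normalizer (X1 : Set G)) with h | h
    · exact absurd h hNtop
    · exact h
  have hCX1L : centralizer (X1 : Set G) ≤ L := (centralizer_le_normalizer _).trans hNL
  have hCL : C ≤ L := inf_le_right.trans hCX1L
  have hSL : SG ≤ L := hSX1.trans hCX1L
  by_cases hpL : p ∈ sigma L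
  · exact lemmaZ hU h14 hM hL (hHall L hL) hpL hpσ hSp hSL hCL inf_le_left hSC
  -- Case II: `p ∈ τ₂(L)`
  obtain ⟨⟨h2, h1⟩, A₀, hA₀e, hA₀c, hX1A₀⟩ := BG10.bg10_6 hG hU hL hpL hX1card hNL
  have hτ : p ∈ tau2 L := ⟨hpp, hpL, h2, h1⟩
  have hA₀L : A₀ ≤ L := (BG10.le_centralizer_of_elemAb hX1A₀ hA₀e).trans hCX1L
  have hnil : Group.IsNilpotent ↥(sigmaCore L) := h17 L hL p hτ A₀ hA₀L hA₀e hA₀c
  -- (i) no prime divisor of `|C|` lies in `σ(L)`
  have hi : ∀ q : ℕ, q.Prime → q ∣ Nat.card C → q ∉ sigma L := by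
    intro q hq hqC hqL
    haveI : Fact q.Prime := ⟨hq⟩
    have hqM : q ∈ sigma M := mem_sigma_of_dvd_card_le inf_le_left hq hqC
    obtain ⟨PL⟩ : Nonempty (Sylow q ↥(sigmaCore L)) := inferInstance
    obtain ⟨PM'⟩ : Nonempty (Sylow q ↥(sigmaCore M)) := inferInstance
    obtain ⟨hL1, hL2, hL3⟩ := sylow_sigmaCore_facts (hHall L hL) hqL PL
    obtain ⟨hM1, hM2, hM3⟩ := sylow_sigmaCore_facts hσM hqM PM'
    have hQMM : (PM' : Subgroup ↥(sigmaCore M)).map (sigmaCore M).subtype ≤ M :=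
      hM2.trans (sigmaCore_le M)
    have hrelM : ¬ q ∣ ((PM' : Subgroup ↥(sigmaCore M)).map (sigmaCore M).subtype).relIndex M :=
      fun h => hM3 (h.trans (Dvd.intro _ (Subgroup.relIndex_mul_index hQMM)))
    have hNQM := normalizer_le_of_sigma hqM hQMM hM1 hrelM
    obtain ⟨c, -, hc⟩ := sylow_sub_eq (H := ⊤) le_top hM1
      (by rwa [Subgroup.relIndex_top_right]) le_top hL1 (by rwa [Subgroup.relIndex_top_right])
    have hLN := le_normalizer_sylow_of_nilpotent (le_normalizer_sigmaCore L) hnil PL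
    have hLle : L ≤ cj c M := by
      refine hLN.trans ?_
      rw [← hc, normalizer_cj]
      exact cj_mono hNQM
    have hLeq : cj c M = L := (hL.le_iff_eq (isCoatom_cj hM c).1).mp hLle
    apply h1
    rw [← hLeq]
    exact BG10.pRankLE_of_injective (cjEquiv c M).symm.toMonoidHom (cjEquiv c M).symm.injective hr1
  -- (ii) `C S` lies in a complement `EL` of `L_σ`
  have hTL : SG ⊔ C ≤ L := sup_le hSL hCL
  have hpLσ : ¬ p ∣ Nat.card (sigmaCore L) :=
    fun h => hpL (mem_sigma_of_dvd_card_sigmaCore L hpp h)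
  have hcopS : (Nat.card SG).Coprime (Nat.card (sigmaCore L)) := by
    obtain ⟨k', hk'⟩ := IsPGroup.iff_card.mp hSp
    rw [hk']
    exact Nat.Coprime.pow_left k' ((Nat.Prime.coprime_iff_not_dvd hpp).mpr hpLσ)
  have hcopC : (Nat.card C).Coprime (Nat.card (sigmaCore L)) := by
    apply Nat.coprime_of_dvd
    intro q hq hqC hqL
    exact hi q hq hqC (mem_sigma_of_dvd_card_sigmaCore L hq hqL)
  have hcopT : (Nat.card ↥(SG ⊔ C)).Coprime (Nat.card (sigmaCore L)) :=
    Nat.Coprime.coprime_dvd_left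
      (Cfsg.Agent.Lib.Helper23.card_sup_dvd_of_le_normalizer SG C hSC)
      (Nat.Coprime.mul_left hcopS hcopC)
  obtain ⟨EL, hEL, hTEL⟩ := exists_compl_ge hG hL.1 (hHall L hL) hTL hcopT
  obtain ⟨A, hAE, hAe, hAc⟩ := Cfsg.Agent.Lib.Helper96.BG127.exists_elemAb_sq_le_compl hEL hτ
  obtain ⟨hELN, hNAL⟩ := h18 L hL EL hEL p hτ A hAE hAe hAc
  -- (iii) a maximal subgroup `Ms ≥ N_G(A)` has `p ∈ σ(Ms)`
  have hp2 : p < p ^ 2 := by
    calc p = p ^ 1 := (pow_one p).symm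
      _ < p ^ 2 := Nat.pow_lt_pow_right hpp.one_lt (by norm_num)
  have hAbot : A ≠ ⊥ := by
    intro h
    rw [h, Subgroup.card_bot] at hAc
    have := hpp.one_lt
    omega
  have hAL : A ≤ L := hAE.trans hEL.1
  have hAtop : A ≠ ⊤ := fun h => hL.1 (top_le_iff.mp (h ▸ hAL))
  have hNAtop := BG10.normalizer_ne_top hG hAbot hAtop
  obtain ⟨Ms, hMs, hNMs⟩ : ∃ Ms : Subgroup G, IsCoatom Ms ∧ normalizer (A : Set G) ≤ Ms := by
    rcases eq_top_or_exists_le_coatom (normalizer (A : Set G)) with h | h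
    · exact absurd h hNAtop
    · exact h
  have hAMs : A ≤ Ms := le_normalizer.trans hNMs
  have hpMs : p ∈ sigma Ms := by
    by_contra hpMs
    have hr1s : ¬ PRankLE p 1 ↥Ms := by
      intro h
      have := BG10.card_le_of_pRankLE h hAMs hAe
      rw [hAc, pow_one] at this
      omega
    have hr2s : PRankLE p 2 ↥Ms := by
      by_contra h
      exact hpMs (Cfsg.Agent.Lib.Helper23.alpha_subset_sigma hG hU hMs ⟨hpp, h⟩)
    have hτs : p ∈ tau2 Ms := ⟨hpp, hpMs, hr2s, hr1s⟩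
    have hcopA : (Nat.card A).Coprime (Nat.card (sigmaCore Ms)) := by
      rw [hAc]
      exact Nat.Coprime.pow_left 2 ((Nat.Prime.coprime_iff_not_dvd hpp).mpr
        (fun h => hpMs (mem_sigma_of_dvd_card_sigmaCore Ms hpp h)))
    obtain ⟨Es, hEs, hAEs⟩ := exists_compl_ge hG hMs.1 (hHall Ms hMs) hAMs hcopA
    exact (h18 Ms hMs Es hEs p hτs A hAEs hAe hAc).2 hNMs
  -- (iv)
  have hELMs : EL ≤ Ms := hELN.trans hNMs
  exact lemmaZ hU h14 hM hMs (hHall Ms hMs) hpMs hpσ hSp ((le_sup_left.trans hTEL).trans hELMs)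
    ((le_sup_right.trans hTEL).trans hELMs) inf_le_left hSC

end Cfsg.Agent.Lib.Helper63.BG13
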