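import Cfsg.Agent.Lib.Helper63.BG13c
import Cfsg.Agent.Lib.Helper50.BG134A
import Cfsg.Agent.Lib.Helper70.BG134d
import Cfsg.Agent.Lib.Helper22.BG1214d

set_option autoImplicit false
set_option linter.style.haveILetI false
set_option linter.unusedSectionVars false

/-!
# Bender–Glauberman Theorem 13.4: the pieces plugged in
-/

namespace Cfsg.Agent.Lib.Helper63.BG13

open Subgroup Cfsg Cfsg.Agent.Lib.Helper33 Cfsg.Agent.Lib.Helper24 Cfsg.Agent.Lib.Helper24.BG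
open Cfsg.Agent.Lib.Helper47.BG11 Cfsg.Agent.Lib.Helper63

universe u

open scoped commutatorElement

variable {G : Type u} [Group G] [Finite G]

/-! ### conjugation invariance of `α` and `τ₁` -/

theorem alpha_cj {M : Subgroup G} {p : ℕ} (g : G) (hp : p ∈ alpha M) : p ∈ alpha (cj g M) := by
  refine ⟨hp.1, fun h => hp.2 ?_⟩
  exact BG10.pRankLE_of_injective (cjEquiv g M).toMonoidHom (cjEquiv g M).injective h

theorem tau1_cj {M : Subgroup G} {p : ℕ} (g : G) (hp : p ∈ tau1 M) : p ∈ tau1 (cj g M) := by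
  obtain ⟨hpp, hσ, hd, hd', hr⟩ := hp
  refine ⟨hpp, ?_, ?_, ?_, ?_⟩
  · intro h
    apply hσ
    have h2 := sigma_cj g⁻¹ h
    rwa [cj_inv_cj] at h2
  · rw [card_cj]; exact hd
  · have : ⁅cj g M, cj g M⁆ = cj g ⁅M, M⁆ := by
      rw [cj_def, cj_def, Subgroup.map_commutator]
    rw [this, card_cj]; exact hd'
  · exact BG10.pRankLE_of_injective (cjEquiv g M).symm.toMonoidHom (cjEquiv g M).symm.injective hr

/-! ### a common Sylow subgroup -/

/-- for `q ∈ σ(M) ∩ σ(N)` there are a Sylow `q`-subgroup `Q` of `G` and a conjugate `N'` of `N`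
with `N_G(Q) ≤ M ∩ N'` -/
theorem exists_common_sylow (hG : IsMinSimpleOddOrder G) {M N : Subgroup G} (hM : IsCoatom M)
    (hN : IsCoatom N) {q : ℕ} [hq : Fact q.Prime] (hqM : q ∈ sigma M) (hqN : q ∈ sigma N) :
    ∃ (Q : Sylow q G) (c : G), normalizer ((Q : Subgroup G) : Set G) ≤ M ∧
      normalizer ((Q : Subgroup G) : Set G) ≤ cj c N := by
  have hHall := hallStmt hG
  obtain ⟨PN⟩ : Nonempty (Sylow q ↥(sigmaCore N)) := inferInstance
  obtain ⟨PM⟩ : Nonempty (Sylow q ↥(sigmaCore M)) := inferInstance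
  obtain ⟨hN1, hN2, hN3⟩ := sylow_sigmaCore_facts (hHall N hN) hqN PN
  obtain ⟨hM1, hM2, hM3⟩ := sylow_sigmaCore_facts (hHall M hM) hqM PM
  have hQMM : (PM : Subgroup ↥(sigmaCore M)).map (sigmaCore M).subtype ≤ M :=
    hM2.trans (sigmaCore_le M)
  have hrelM : ¬ q ∣ ((PM : Subgroup ↥(sigmaCore M)).map (sigmaCore M).subtype).relIndex M :=
    fun h => hM3 (h.trans (Dvd.intro _ (Subgroup.relIndex_mul_index hQMM)))
  have hNQM := normalizer_le_of_sigma hqM hQMM hM1 hrelM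
  have hQNN : (PN : Subgroup ↥(sigmaCore N)).map (sigmaCore N).subtype ≤ N :=
    hN2.trans (sigmaCore_le N)
  have hrelN : ¬ q ∣ ((PN : Subgroup ↥(sigmaCore N)).map (sigmaCore N).subtype).relIndex N :=
    fun h => hN3 (h.trans (Dvd.intro _ (Subgroup.relIndex_mul_index hQNN)))
  have hNQN := normalizer_le_of_sigma hqN hQNN hN1 hrelN
  obtain ⟨c, -, hc⟩ := sylow_sub_eq (H := ⊤) le_top hN1
    (by rwa [Subgroup.relIndex_top_right]) le_top hM1 (by rwa [Subgroup.relIndex_top_right])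
  refine ⟨hM1.toSylow hM3, c, ?_, ?_⟩
  · exact hNQM
  · show normalizer ((((PM : Subgroup ↥(sigmaCore M)).map (sigmaCore M).subtype : Subgroup G)) :
      Set G) ≤ cj c N
    rw [← hc, normalizer_cj]
    exact cj_mono hNQN

/-! ### the statements -/

theorem f4Stmt (hG : IsMinSimpleOddOrder G) : F4Stmt G := by
  intro M N hM hN hnc q hqM hqN r hr
  haveI : Fact q.Prime := ⟨hqM.1⟩
  obtain ⟨Q, c, hQM, hQN⟩ := exists_common_sylow hG hM hN hqM hqN
  by_cases hrα : r ∈ alpha M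
  · exact Or.inr hrα
  · exact Or.inl (Cfsg.Agent.Lib.Helper22.BG1214d.f4 hG hM (isCoatom_cj hN c) Q hQM hQN
      (tau1_cj c hr) hrα)

theorem f2Stmt (hG : IsMinSimpleOddOrder G) : F2Stmt G := by
  intro M N hM hN hnc q hqM hqN
  haveI : Fact q.Prime := ⟨hqM.1⟩
  obtain ⟨Q, c, hQM, hQN⟩ := exists_common_sylow hG hM hN hqM hqN
  have hne : M ≠ cj c N := by
    intro h
    apply hnc c⁻¹
    rw [h, cj_inv_cj]
  exact (Cfsg.Agent.Lib.Helper22.BG1214d.f3 hG hM (isCoatom_cj hN c) hne Q hQM hQN).2.2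

theorem caseAStmt (hG : IsMinSimpleOddOrder G) : CaseAStmt G := by
  intro M hM E hE p hp P hPE hP R hRE hR hrp H hH hCH hPH hRH hpH hrH q _ hqH Q₀ hQq hQC hRQ hnot
  exact Cfsg.Agent.Lib.Helper50.BG134.caseA hG hM hE hp hPE hP hRE hR hrp hH hCH hPH hRH hpH hrH
    hqH hQq hQC hRQ hnot

theorem caseBStmt (hG : IsMinSimpleOddOrder G) : CaseBStmt G := by
  intro M H hM hH hne r q _ _ hrM hrH hqαM hqαH P R Q₂ hRc hRM hRH hQq hQ1 hQM hQH hRQ hreg hcomm
    hP1 hPα hPQ hPR hαM hc1 hc2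
  exact Cfsg.Agent.Lib.Helper50.BG134.caseB hG hM hH (fun h => hne h.symm) hQM hQH hRM hRH hQq hRc
    hRQ hcomm hQ1 hreg hrH hrM hqαM hqαH hPα hP1 hPQ hPR hαM hc1 hc2

theorem tau2Stmt (hG : IsMinSimpleOddOrder G) : Tau2Stmt G := by
  intro M H hM hH hne p q _ _ hpH hqM hqH P X hP hP1 hPM hPH hX hXM hXH hPX
  exact Cfsg.Agent.Lib.Helper70.BG134.not_tau2_of_cent hG hM hH hne hpH hqM hqH hP hP1 hPM hPH hX
    hXM hXH hPX

/-- **BG Theorem 13.4**. -/
theorem bg13_4_final (hG : IsMinSimpleOddOrder G)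
    {M : Subgroup G} (hM : IsCoatom M) {E : Subgroup G} (hE : IsComplIn E (sigmaCore M) M) {p : ℕ}
    (hp : p ∈ tau1 M) {P : Subgroup G} (hPE : P ≤ E) (hP : Nat.card P = p) {R : Subgroup G}
    (hRE : R ≤ E ⊓ centralizer (P : Set G)) (hR : (Nat.card R).Prime) :
    sigmaCore M ⊓ centralizer (P : Set G) ≤ sigmaCore M ⊓ centralizer (R : Set G) :=
  bg13_4 hG (caseAStmt hG) (caseBStmt hG) (tau2Stmt hG) (f4Stmt hG) (f2Stmt hG) hM hE hp hPE hP
    hRE hR

end Cfsg.Agent.Lib.Helper63.BG13
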