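import Cfsg.Agent.Lib.Helper63.BG13a
import Cfsg.Agent.Lib.Helper47.BGLemmaF
import Cfsg.Agent.Lib.Helper49.RankOneCyclic
import Cfsg.Agent.Lib.Helper76.BGSigU2
import Cfsg.Agent.S1350
import Cfsg.Agent.S1403
import Cfsg.Agent.S1414
import Cfsg.Agent.S1417
import Cfsg.Agent.S1418

set_option autoImplicit false
set_option linter.style.haveILetI false
set_option linter.unusedSectionVars false

/-!
# Bender–Glauberman §13, part B: Lemma 13.1(a) and the choice of `H` for Theorem 13.4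

* `lemmaZ'`: the normal-complement trick in general form.
* `cent_of_not_tau1`: BG 13.1(a) (for subgroups of prime order, without commutator hypothesis).
* `exists_H`: in a counterexample to BG 13.4 there is a maximal subgroup `H ⊇ C_{M_σ}(P) P R` with
  `p ∈ σ(H)` and `r ∈ τ₁(H)`.
-/

namespace Cfsg.Agent.Lib.Helper63.BG13

open Subgroup Cfsg Cfsg.Agent.Lib.Helper33 Cfsg.Agent.Lib.Helper24 Cfsg.Agent.Lib.Helper24.BG
open Cfsg.Agent.Lib.Helper47.BG11 Cfsg.Agent.Lib.Helper63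

universe u

variable {G : Type u} [Group G] [Finite G]

/-! ### the statements, from the landed theorems -/

theorem uniqStmt (hG : IsMinSimpleOddOrder G) : BG10.UniqStmt G :=
  fun K hK h1 h2 => Cfsg.Agent.S1403.result hG K hK h1 h2

theorem hallStmt (hG : IsMinSimpleOddOrder G) : HallStmt G :=
  fun M hM => (Cfsg.Agent.S1350.result hG M hM).1

theorem npcStmt (hG : IsMinSimpleOddOrder G) : NpcStmt G :=
  fun H hH q hq hqH hqβ => ((Cfsg.Agent.S1414.result hG H hH).2.2.2.2 q hq hqH hqβ).2.1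

theorem nilStmt (hG : IsMinSimpleOddOrder G) : NilStmt G :=
  fun M hM p _ hp A hAM hAe hAc => (Cfsg.Agent.S1417.result hG M hM p hp A ⟨hAM, hAe, hAc⟩).1

theorem normStmt (hG : IsMinSimpleOddOrder G) : NormStmt G :=
  fun M hM E hE p _ hp A hAE hAe hAc =>
    ⟨(Cfsg.Agent.S1418.result hG M hM E hE p hp A ⟨hAE, hAe, hAc⟩).1.1,
      (Cfsg.Agent.S1418.result hG M hM E hE p hp A ⟨hAE, hAe, hAc⟩).2.1.2.2⟩

/-! ### the normal-complement trick -/

/-- **Lemma Z, general form**: a `p`-subgroup `S` of a subgroup `K` which has a normal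
`q`-complement for every prime divisor `q` of `|C|`, `C` a `p'`-group normalizing `K` and
normalized by `S`: then `S` centralizes `C`. -/
theorem lemmaZ' {K : Subgroup G} {p : ℕ} [hp : Fact p.Prime] {S C : Subgroup G}
    (hS : IsPGroup p S) (hSK : S ≤ K) (hCK : C ≤ normalizer (K : Set G))
    (hSC : S ≤ normalizer (C : Set G)) (hpC : ¬ p ∣ Nat.card C)
    (hnpc : ∀ q : ℕ, q.Prime → q ∣ Nat.card C → HasNormalPComplement q ↥K) :
    C ≤ centralizer (S : Set G) := by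
  intro c hc
  rw [mem_centralizer_iff]
  intro s hs
  by_contra hne
  have hzC : c * s * c⁻¹ * s⁻¹ ∈ C := by
    have h1 : s * c⁻¹ * s⁻¹ ∈ C := (mem_normalizer_iff.mp (hSC hs) c⁻¹).mp (C.inv_mem hc)
    have : c * s * c⁻¹ * s⁻¹ = c * (s * c⁻¹ * s⁻¹) := by group
    rw [this]; exact C.mul_mem hc h1
  have hz1 : c * s * c⁻¹ * s⁻¹ ≠ 1 := by
    intro h
    apply hne
    have h1 : c * s * c⁻¹ = s := mul_inv_eq_one.mp h
    have h2 : c * s = s * c := mul_inv_eq_iff_eq_mul.mp h1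
    exact h2.symm
  have hord : orderOf (c * s * c⁻¹ * s⁻¹) ≠ 1 := fun h => hz1 (orderOf_eq_one_iff.mp h)
  obtain ⟨q, hq, hqz⟩ := Nat.exists_prime_and_dvd hord
  haveI : Fact q.Prime := ⟨hq⟩
  have hqC : q ∣ Nat.card C := by
    have h1 := orderOf_dvd_natCard (⟨c * s * c⁻¹ * s⁻¹, hzC⟩ : C)
    rw [Subgroup.orderOf_mk] at h1
    exact hqz.trans h1
  have hqp : q ≠ p := fun h => hpC (h ▸ hqC)
  obtain ⟨Q, N, hNn, hNQ⟩ := hnpc q hq hqC
  haveI := hNn
  have hNidx : N.index = Nat.card (Q : Subgroup ↥K) := hNQ.symm.index_eq_card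
  have hpN : ¬ p ∣ N.index := by
    rw [hNidx]
    intro h
    obtain ⟨k, hk⟩ := IsPGroup.iff_card.mp Q.isPGroup'
    rw [hk] at h
    exact hqp.symm ((Nat.prime_dvd_prime_iff_eq hp.out hq).mp (hp.out.dvd_of_dvd_pow h))
  have hx2 : s⁻¹ ∈ K := K.inv_mem (hSK hs)
  have hx1 : c * s * c⁻¹ ∈ K := (mem_normalizer_iff.mp (hCK hc) s).mp (hSK hs)
  obtain ⟨k, hk⟩ := (IsPGroup.iff_orderOf.mp hS) ⟨s, hs⟩
  have hos : orderOf s = p ^ k := by rw [← hk, Subgroup.orderOf_mk]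
  have ho1 : ∃ k : ℕ, orderOf (⟨c * s * c⁻¹, hx1⟩ : ↥K) = p ^ k := by
    refine ⟨k, ?_⟩
    rw [Subgroup.orderOf_mk, ← hos]
    have : c * s * c⁻¹ = MulAut.conj c s := by simp [MulAut.conj_apply]
    rw [this, MulEquiv.orderOf_eq]
  have ho2 : ∃ k : ℕ, orderOf (⟨s⁻¹, hx2⟩ : ↥K) = p ^ k :=
    ⟨k, by rw [Subgroup.orderOf_mk, orderOf_inv, hos]⟩
  have hm1 := mem_of_not_dvd_index N hpN ho1
  have hm2 := mem_of_not_dvd_index N hpN ho2
  have hm := N.mul_mem hm1 hm2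
  have hqN : q ∣ Nat.card N := by
    have h1 := orderOf_dvd_natCard
      (⟨(⟨c * s * c⁻¹, hx1⟩ : ↥K) * ⟨s⁻¹, hx2⟩, hm⟩ : N)
    rw [Subgroup.orderOf_mk] at h1
    have h2 : orderOf ((⟨c * s * c⁻¹, hx1⟩ : ↥K) * ⟨s⁻¹, hx2⟩) =
        orderOf (c * s * c⁻¹ * s⁻¹) := by
      rw [← Subgroup.orderOf_coe]; rfl
    rw [h2] at h1
    exact hqz.trans h1
  have hcN : Nat.card N = (Q : Subgroup ↥K).index := hNQ.index_eq_card.symm
  rw [hcN] at hqN
  exact Q.not_dvd_index hqN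

/-! ### small tools -/

/-- a `p`-subgroup of a subgroup of `p`-rank at most one is cyclic (`p` odd) -/
theorem isCyclic_of_le_of_pRankLE_one {s : ℕ} [hs : Fact s.Prime] (hs2 : s ≠ 2) {D H : Subgroup G}
    (hD : IsPGroup s D) (hDH : D ≤ H) (hH : PRankLE s 1 ↥H) : IsCyclic ↥D := by
  have h1 : PRankLE s 1 ↥D := Cfsg.Agent.Lib.Helper76.BGSigU.pRankLE_of_le hDH hH
  refine Cfsg.Agent.Lib.Helper49.isCyclic_of_isPGroup_rankLEOne hs2 hD ?_
  intro A hA hAe
  have := h1 A hA hAe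
  rwa [pow_one] at this

theorem ne_two_of_dvd_card (hG : IsMinSimpleOddOrder G) {s : ℕ} (hs : s ∣ Nat.card G) : s ≠ 2 := by
  rintro rfl
  have hodd : Odd (Nat.card G) := hG.1
  exact (Nat.not_even_iff_odd.mpr hodd) (even_iff_two_dvd.mpr hs)

/-- two subgroups of prime order `t` inside a cyclic subgroup are equal -/
theorem eq_of_card_prime_of_le_isCyclic {t : ℕ} [ht : Fact t.Prime] {A B D : Subgroup G}
    (hD : IsCyclic ↥D) (hA : Nat.card A = t) (hB : Nat.card B = t) (hAD : A ≤ D) (hBD : B ≤ D) :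
    A = B := by
  have hA1 : A ≠ ⊥ := by
    intro h; rw [h, Subgroup.card_bot] at hA; exact ht.out.one_lt.ne hA
  obtain ⟨a, ha1⟩ := (Subgroup.ne_bot_iff_exists_ne_one).mp hA1
  have ha1' : (a : G) ≠ 1 := fun h => ha1 (Subtype.ext h)
  have hat : (a : G) ^ t = 1 := by
    have := pow_card_eq_one' (G := ↥A) (x := a)
    rw [hA] at this
    simpa using congrArg Subtype.val this
  have hz : zpowers (a : G) = A :=
    Cfsg.Agent.Lib.Helper47.BG11.zpowers_eq_of_card_prime hA a.2 ha1'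
  have hBA : B ≤ A := by
    intro b hb
    have hbt : b ^ t = 1 := by
      have := pow_card_eq_one' (G := ↥B) (x := ⟨b, hb⟩)
      rw [hB] at this
      simpa using congrArg Subtype.val this
    have := Cfsg.Agent.Lib.Helper47.BG12.mem_zpowers_of_isCyclic hD ht.out (hAD a.2) (hBD hb)
      hat ha1' hbt
    rw [hz] at this
    exact this
  have hcard : Nat.card B = Nat.card A := hB.trans hA.symm
  exact (Subgroup.eq_of_le_of_card_ge hBA (le_of_eq hcard.symm)).symm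


/-- a subgroup of prime order `t` of `H` lies in every subgroup `K` normalized by `H` with
`t ∣ |K|`, when `H` has `t`-rank at most one -/
theorem le_of_card_prime_of_pRankLE_one (hG : IsMinSimpleOddOrder G) {H K T : Subgroup G} {t : ℕ}
    [ht : Fact t.Prime] (hr1 : PRankLE t 1 ↥H) (hKH : K ≤ H) (hHK : H ≤ normalizer (K : Set G))
    (hdvd : t ∣ Nat.card K) (hT : Nat.card T = t) (hTH : T ≤ H) : T ≤ K := by
  have htG : t ∣ Nat.card G := hdvd.trans (Subgroup.card_subgroup_dvd_card K)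
  have ht2 : t ≠ 2 := ne_two_of_dvd_card hG htG
  obtain ⟨y, hy⟩ := exists_prime_orderOf_dvd_card' (G := ↥K) t hdvd
  set Y := zpowers (y : G) with hY
  have hYc : Nat.card Y = t := by rw [hY, Nat.card_zpowers, Subgroup.orderOf_coe, hy]
  have hYK : Y ≤ K := zpowers_le.mpr y.2
  obtain ⟨PH⟩ : Nonempty (Sylow t ↥H) := inferInstance
  obtain ⟨h1, h2, h3⟩ := sylow_map_facts H PH
  have hTp : IsPGroup t T := IsPGroup.of_card (n := 1) (by rw [hT, pow_one])
  have hYp : IsPGroup t Y := IsPGroup.of_card (n := 1) (by rw [hYc, pow_one])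
  obtain ⟨c₁, hc₁, hc₁T⟩ := sylow_sub h1 h2 h3 hTH hTp
  obtain ⟨c₂, hc₂, hc₂Y⟩ := sylow_sub h1 h2 h3 (hYK.trans hKH) hYp
  have hcyc := isCyclic_of_le_of_pRankLE_one ht2 h2 h1 hr1
  have heq : cj c₁ T = cj c₂ Y :=
    eq_of_card_prime_of_le_isCyclic hcyc (by rw [card_cj, hT]) (by rw [card_cj, hYc]) hc₁T hc₂Y
  have hYK' : cj c₂ Y ≤ K := by
    have : cj c₂ K = K := cj_eq_self_iff.mpr (hHK hc₂)
    rw [← this]; exact cj_mono hYK
  have hT' : cj c₁ T ≤ K := heq ▸ hYK'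
  have hK' : cj c₁⁻¹ K = K := cj_eq_self_iff.mpr (hHK (H.inv_mem hc₁))
  have := cj_mono (g := c₁⁻¹) hT'
  rwa [cj_inv_cj, hK'] at this

/-- **(i)**: if `L_σ` is nilpotent and `L` is not conjugate to `M`, then `σ(M) ∩ σ(L) = ∅` -/
theorem not_mem_sigma_of_nilpotent (hG : IsMinSimpleOddOrder G) {M L : Subgroup G}
    (hM : IsCoatom M) (hL : IsCoatom L) (hnc : ∀ g : G, L ≠ cj g M)
    (hnil : Group.IsNilpotent ↥(sigmaCore L)) {q : ℕ} (hq : q.Prime) (hqM : q ∈ sigma M) :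
    q ∉ sigma L := by
  intro hqL
  haveI : Fact q.Prime := ⟨hq⟩
  have hHall := hallStmt hG
  obtain ⟨PL⟩ : Nonempty (Sylow q ↥(sigmaCore L)) := inferInstance
  obtain ⟨PM'⟩ : Nonempty (Sylow q ↥(sigmaCore M)) := inferInstance
  obtain ⟨hL1, hL2, hL3⟩ := sylow_sigmaCore_facts (hHall L hL) hqL PL
  obtain ⟨hM1, hM2, hM3⟩ := sylow_sigmaCore_facts (hHall M hM) hqM PM'
  have hQMM : (PM' : Subgroup ↥(sigmaCore M)).map (sigmaCore M).subtype ≤ M :=
    hM2.trans (sigmaCore_le M)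
  have hrelM : ¬ q ∣ ((PM' : Subgroup ↥(sigmaCore M)).map (sigmaCore M).subtype).relIndex M :=
    fun h => hM3 (h.trans (Dvd.intro _ (Subgroup.relIndex_mul_index hQMM)))
  have hNQM := normalizer_le_of_sigma hqM hQMM hM1 hrelM
  obtain ⟨c, -, hc⟩ := sylow_sub_eq (H := ⊤) le_top hM1
    (by rwa [Subgroup.relIndex_top_right]) le_top hL1 (by rwa [Subgroup.relIndex_top_right])
  have hLN := le_normalizer_sylow_of_nilpotent (le_normalizer_sigmaCore L) hnil PL
  have hLle : L ≤ cj c M := by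
    refine hLN.trans ?_
    rw [← hc, normalizer_cj]
    exact cj_mono hNQM
  have hLeq : cj c M = L := (hL.le_iff_eq (isCoatom_cj hM c).1).mp hLle
  exact hnc c hLeq.symm

/-- **the `τ₂`-detour**: for `t ∈ τ₂(L)`, a subgroup `W ≤ L` of order prime to `|L_σ|` lies in a
maximal subgroup `Ms` with `t ∈ σ(Ms)`. -/
theorem tau2_detour (hG : IsMinSimpleOddOrder G) {L : Subgroup G} (hL : IsCoatom L) {t : ℕ}
    [ht : Fact t.Prime] (hτ : t ∈ tau2 L) {W : Subgroup G} (hWL : W ≤ L)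
    (hcop : (Nat.card W).Coprime (Nat.card (sigmaCore L))) :
    ∃ Ms : Subgroup G, IsCoatom Ms ∧ W ≤ Ms ∧ t ∈ sigma Ms := by
  have hU := uniqStmt hG
  have hHall := hallStmt hG
  have h18 := normStmt hG
  have htp : t.Prime := ht.out
  obtain ⟨EL, hEL, hWEL⟩ := exists_compl_ge hG hL.1 (hHall L hL) hWL hcop
  obtain ⟨A, hAE, hAe, hAc⟩ := Cfsg.Agent.Lib.Helper96.BG127.exists_elemAb_sq_le_compl hEL hτ
  obtain ⟨hELN, hNAL⟩ := h18 L hL EL hEL t hτ A hAE hAe hAc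
  have hp2 : t < t ^ 2 := by
    calc t = t ^ 1 := (pow_one t).symm
      _ < t ^ 2 := Nat.pow_lt_pow_right htp.one_lt (by norm_num)
  have hAbot : A ≠ ⊥ := by
    intro h
    rw [h, Subgroup.card_bot] at hAc
    have := htp.one_lt
    omega
  have hAL : A ≤ L := hAE.trans hEL.1
  have hAtop : A ≠ ⊤ := fun h => hL.1 (top_le_iff.mp (h ▸ hAL))
  have hNAtop := BG10.normalizer_ne_top hG hAbot hAtop
  obtain ⟨Ms, hMs, hNMs⟩ : ∃ Ms : Subgroup G, IsCoatom Ms ∧ normalizer (A : Set G) ≤ Ms := by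
    rcases eq_top_or_exists_le_coatom (normalizer (A : Set G)) with h | h
    · exact absurd h hNAtop
    · exact h
  have hAMs : A ≤ Ms := le_normalizer.trans hNMs
  refine ⟨Ms, hMs, (hWEL.trans hELN).trans hNMs, ?_⟩
  by_contra hpMs
  have hr1s : ¬ PRankLE t 1 ↥Ms := by
    intro h
    have := BG10.card_le_of_pRankLE h hAMs hAe
    rw [hAc, pow_one] at this
    omega
  have hr2s : PRankLE t 2 ↥Ms := by
    by_contra h
    exact hpMs (Cfsg.Agent.Lib.Helper23.alpha_subset_sigma hG hU hMs ⟨htp, h⟩)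
  have hτs : t ∈ tau2 Ms := ⟨htp, hpMs, hr2s, hr1s⟩
  have hcopA : (Nat.card A).Coprime (Nat.card (sigmaCore Ms)) := by
    rw [hAc]
    exact Nat.Coprime.pow_left 2 ((Nat.Prime.coprime_iff_not_dvd htp).mpr
      (fun h => hpMs (mem_sigma_of_dvd_card_sigmaCore Ms htp h)))
  obtain ⟨Es, hEs, hAEs⟩ := exists_compl_ge hG hMs.1 (hHall Ms hMs) hAMs hcopA
  exact (h18 Ms hMs Es hEs t hτs A hAEs hAe hAc).2 hNMs

/-- for `t ∈ τ₂(L)`, `L_σ` is nilpotent -/
theorem nilpotent_sigmaCore_of_tau2 (hG : IsMinSimpleOddOrder G) {L : Subgroup G} (hL : IsCoatom L)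
    {t : ℕ} [ht : Fact t.Prime] (hτ : t ∈ tau2 L) : Group.IsNilpotent ↥(sigmaCore L) := by
  have hHall := hallStmt hG
  have hcop : (Nat.card (⊥ : Subgroup G)).Coprime (Nat.card (sigmaCore L)) := by
    rw [Subgroup.card_bot]; exact Nat.coprime_one_left _
  obtain ⟨EL, hEL, -⟩ := exists_compl_ge hG hL.1 (hHall L hL) (bot_le : (⊥ : Subgroup G) ≤ L) hcop
  obtain ⟨A, hAE, hAe, hAc⟩ := Cfsg.Agent.Lib.Helper96.BG127.exists_elemAb_sq_le_compl hEL hτ
  exact nilStmt hG L hL t hτ A (hAE.trans hEL.1) hAe hAc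

/-! ### BG Lemma 13.1(a) -/

/-- **BG Lemma 13.1(a)** (for subgroups of prime order, no commutator hypothesis): `M`, `H`
non-conjugate maximal subgroups, `t ∉ σ(M)`, `t ∉ τ₁(H)`; a subgroup `T ≤ H` of order `t`
normalizing `C ≤ M_σ ∩ H` centralizes it. -/
theorem cent_of_not_tau1 (hG : IsMinSimpleOddOrder G) {M H : Subgroup G} (hM : IsCoatom M)
    (hH : IsCoatom H) (hnc : ∀ g : G, H ≠ cj g M) {t : ℕ} [ht : Fact t.Prime] (htM : t ∉ sigma M)
    (htH : t ∉ tau1 H) {T C : Subgroup G} (hT : Nat.card T = t) (hTH : T ≤ H) (hCH : C ≤ H)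
    (hCσ : C ≤ sigmaCore M) (hTC : T ≤ normalizer (C : Set G)) :
    C ≤ centralizer (T : Set G) := by
  have hU := uniqStmt hG
  have hHall := hallStmt hG
  have h14 := npcStmt hG
  have htp : t.Prime := ht.out
  have hTp : IsPGroup t T := IsPGroup.of_card (n := 1) (by rw [hT, pow_one])
  have htdH : t ∣ Nat.card H := by rw [← hT]; exact Subgroup.card_dvd_of_le hTH
  by_cases hσ : t ∈ sigma H
  · exact lemmaZ hU h14 hM hH (hHall H hH) hσ htM hTp hTH hCH hCσ hTC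
  have htC : ¬ t ∣ Nat.card C := fun h => htM (mem_sigma_of_dvd_card_le hCσ htp h)
  by_cases hr1 : PRankLE t 1 ↥H
  · -- `t ∈ τ₃(H)`
    have hdvd : t ∣ Nat.card ↥⁅H, H⁆ := by
      by_contra h
      exact htH ⟨htp, hσ, htdH, h, hr1⟩
    have hKH : ⁅H, H⁆ ≤ H := Subgroup.commutator_le.mpr (fun a ha b hb =>
      H.mul_mem (H.mul_mem (H.mul_mem ha hb) (H.inv_mem ha)) (H.inv_mem hb))
    have hHK : H ≤ normalizer ((⁅H, H⁆ : Subgroup G) : Set G) := fun h hh =>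
      Cfsg.Agent.Lib.Helper47.BG12.mem_normalizer_commutator (le_normalizer hh) (le_normalizer hh)
    have hTK : T ≤ ⁅H, H⁆ := le_of_card_prime_of_pRankLE_one hG hr1 hKH hHK hdvd hT hTH
    refine lemmaZ' hTp hTK (hCH.trans hHK) hTC htC ?_
    intro q hq hqC
    have hqσM : q ∈ sigma M := mem_sigma_of_dvd_card_le hCσ hq hqC
    have hqH : q ∣ Nat.card H := hqC.trans (Subgroup.card_dvd_of_le hCH)
    have hqβ : q ∉ beta H := by
      intro hβ
      obtain ⟨g, hg⟩ := conj_of_sigma_alpha hU hH hM hqσM hβ.1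
      exact hnc g hg
    exact ((Cfsg.Agent.S1414.result hG H hH).2.2.2.2 q hq hqH hqβ).1
  · -- `t ∈ τ₂(H)`
    have hr2 : PRankLE t 2 ↥H := by
      by_contra h
      exact hσ (Cfsg.Agent.Lib.Helper23.alpha_subset_sigma hG hU hH ⟨htp, h⟩)
    have hτ : t ∈ tau2 H := ⟨htp, hσ, hr2, hr1⟩
    have hnil := nilpotent_sigmaCore_of_tau2 hG hH hτ
    have hcopT : (Nat.card T).Coprime (Nat.card (sigmaCore H)) := by
      rw [hT]
      exact (Nat.Prime.coprime_iff_not_dvd htp).mpr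
        (fun h => hσ (mem_sigma_of_dvd_card_sigmaCore H htp h))
    have hcopC : (Nat.card C).Coprime (Nat.card (sigmaCore H)) := by
      apply Nat.coprime_of_dvd
      intro q hq hqC hqL
      exact not_mem_sigma_of_nilpotent hG hM hH hnc hnil hq (mem_sigma_of_dvd_card_le hCσ hq hqC)
        (mem_sigma_of_dvd_card_sigmaCore H hq hqL)
    have hcopW : (Nat.card ↥(T ⊔ C)).Coprime (Nat.card (sigmaCore H)) :=
      Nat.Coprime.coprime_dvd_left
        (Cfsg.Agent.Lib.Helper23.card_sup_dvd_of_le_normalizer T C hTC)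
        (Nat.Coprime.mul_left hcopT hcopC)
    obtain ⟨Ms, hMs, hWMs, htMs⟩ := tau2_detour hG hH hτ (sup_le hTH hCH) hcopW
    exact lemmaZ hU h14 hM hMs (hHall Ms hMs) htMs htM hTp (le_sup_left.trans hWMs)
      (le_sup_right.trans hWMs) hCσ hTC


/-! ### the choice of `H` in Theorem 13.4 -/

/-- in a counterexample to BG 13.4 there is a maximal subgroup `H` containing `C_{M_σ}(P)`, `P`,
`R` with `p ∈ σ(H)` and `r ∈ τ₁(H)` -/
theorem exists_H (hG : IsMinSimpleOddOrder G) {M : Subgroup G} (hM : IsCoatom M) {E : Subgroup G}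
    (hE : IsComplIn E (sigmaCore M) M) {p : ℕ} (hp : p ∈ tau1 M) {P : Subgroup G} (hPE : P ≤ E)
    (hP : Nat.card P = p) {R : Subgroup G} (hRE : R ≤ E ⊓ centralizer (P : Set G))
    (hR : (Nat.card R).Prime) (_hrp : Nat.card R ≠ p)
    (hbad : ¬ sigmaCore M ⊓ centralizer (P : Set G) ≤ centralizer (R : Set G)) :
    ∃ H : Subgroup G, IsCoatom H ∧ sigmaCore M ⊓ centralizer (P : Set G) ≤ H ∧ P ≤ H ∧ R ≤ H ∧
      p ∈ sigma H ∧ Nat.card R ∈ tau1 H := by
  have hU := uniqStmt hG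
  have hHall := hallStmt hG
  have h14 := npcStmt hG
  have hpp : p.Prime := hp.1
  haveI : Fact p.Prime := ⟨hpp⟩
  set r := Nat.card R with hr
  haveI : Fact r.Prime := ⟨hR⟩
  have hσM := hHall M hM
  have hEM : E ≤ M := hE.1
  have hPM : P ≤ M := hPE.trans hEM
  have hRM : R ≤ M := (hRE.trans inf_le_left).trans hEM
  have hRP : R ≤ centralizer (P : Set G) := hRE.trans inf_le_right
  have hpσ : p ∉ sigma M := hp.2.1
  have hrE : r ∣ Nat.card E := Subgroup.card_dvd_of_le (hRE.trans inf_le_left)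
  have hrσ : r ∉ sigma M :=
    Cfsg.Agent.Lib.Helper96.BG127.not_mem_sigma_of_dvd_card_compl hσM hE hR hrE
  have hr1M : PRankLE p 1 ↥M := hp.2.2.2.2
  set C := sigmaCore M ⊓ centralizer (P : Set G) with hC
  have hCσ : C ≤ sigmaCore M := inf_le_left
  have hPp : IsPGroup p P := IsPGroup.of_card (n := 1) (by rw [hP, pow_one])
  have hRp : IsPGroup r R := IsPGroup.of_card (n := 1) (by rw [pow_one])
  have hPbot : P ≠ ⊥ := by
    intro h
    rw [h, Subgroup.card_bot] at hP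
    exact hpp.one_lt.ne hP
  have hPtop : P ≠ ⊤ := fun h => hM.1 (top_le_iff.mp (h ▸ hPM))
  have hPC : P ≤ normalizer (C : Set G) :=
    le_normalizer_inf (hPM.trans (le_normalizer_sigmaCore M))
      (fun x hx => Cfsg.Agent.Lib.Helper47.BG12.mem_normalizer_centralizer' (le_normalizer hx))
  have hRC : R ≤ normalizer (C : Set G) :=
    le_normalizer_inf (hRM.trans (le_normalizer_sigmaCore M)) (hRP.trans le_normalizer)
  have hPR : P ≤ normalizer (R : Set G) := by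
    refine le_trans ?_ (centralizer_le_normalizer _)
    intro x hx
    rw [mem_centralizer_iff]
    intro y hy
    have := (mem_centralizer_iff.mp (hRP hy)) x hx
    exact this.symm
  -- the key claim
  have key : ∀ H : Subgroup G, IsCoatom H → C ≤ H → P ≤ H → R ≤ H → p ∈ sigma H →
      ∃ H : Subgroup G, IsCoatom H ∧ C ≤ H ∧ P ≤ H ∧ R ≤ H ∧ p ∈ sigma H ∧ r ∈ tau1 H := by
    intro H hH hCH hPH hRH hpH
    by_cases hrH : r ∈ tau1 H
    · exact ⟨H, hH, hCH, hPH, hRH, hpH, hrH⟩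
    exfalso
    apply hbad
    have hnc : ∀ g : G, H ≠ cj g M := by
      intro g hg
      apply hpσ
      have h1 : p ∈ sigma (cj g M) := hg ▸ hpH
      have h2 := sigma_cj g⁻¹ h1
      rwa [cj_inv_cj] at h2
    exact cent_of_not_tau1 hG hM hH hnc hrσ hrH rfl hRH hCH hCσ hRC
  -- the maximal subgroup `H₀ ⊇ N_G(P)`
  have hNtop := BG10.normalizer_ne_top hG hPbot hPtop
  obtain ⟨H₀, hH₀, hNH₀⟩ : ∃ L : Subgroup G, IsCoatom L ∧ normalizer (P : Set G) ≤ L := by
    rcases eq_top_or_exists_le_coatom (normalizer (P : Set G)) with h | h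
    · exact absurd h hNtop
    · exact h
  have hCPH₀ : centralizer (P : Set G) ≤ H₀ := (centralizer_le_normalizer _).trans hNH₀
  have hCH₀ : C ≤ H₀ := inf_le_right.trans hCPH₀
  have hPH₀ : P ≤ H₀ := le_normalizer.trans hNH₀
  have hRH₀ : R ≤ H₀ := hRP.trans hCPH₀
  by_cases hpH₀ : p ∈ sigma H₀
  · exact key H₀ hH₀ hCH₀ hPH₀ hRH₀ hpH₀
  -- `p ∈ τ₂(H₀)`
  obtain ⟨⟨h2, h1⟩, -⟩ := BG10.bg10_6 hG hU hH₀ hpH₀ hP hNH₀
  have hτ : p ∈ tau2 H₀ := ⟨hpp, hpH₀, h2, h1⟩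
  have hnil := nilpotent_sigmaCore_of_tau2 hG hH₀ hτ
  have hnc₀ : ∀ g : G, H₀ ≠ cj g M := by
    intro g hg
    apply h1
    rw [hg]
    exact BG10.pRankLE_of_injective (cjEquiv g M).symm.toMonoidHom (cjEquiv g M).symm.injective hr1M
  by_cases hrσ₀ : r ∈ sigma H₀
  · exfalso
    apply hbad
    exact lemmaZ hU h14 hM hH₀ (hHall H₀ hH₀) hrσ₀ hrσ hRp hRH₀ hCH₀ hCσ hRC
  have hcopP : (Nat.card P).Coprime (Nat.card (sigmaCore H₀)) := by
    rw [hP]
    exact (Nat.Prime.coprime_iff_not_dvd hpp).mpr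
      (fun h => hpH₀ (mem_sigma_of_dvd_card_sigmaCore H₀ hpp h))
  have hcopR : (Nat.card R).Coprime (Nat.card (sigmaCore H₀)) :=
    (Nat.Prime.coprime_iff_not_dvd hR).mpr
      (fun h => hrσ₀ (mem_sigma_of_dvd_card_sigmaCore H₀ hR h))
  have hcopC : (Nat.card C).Coprime (Nat.card (sigmaCore H₀)) := by
    apply Nat.coprime_of_dvd
    intro q hq hqC hqL
    exact not_mem_sigma_of_nilpotent hG hM hH₀ hnc₀ hnil hq (mem_sigma_of_dvd_card_le hCσ hq hqC)
      (mem_sigma_of_dvd_card_sigmaCore H₀ hq hqL)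
  have hcopPR : (Nat.card ↥(P ⊔ R)).Coprime (Nat.card (sigmaCore H₀)) :=
    Nat.Coprime.coprime_dvd_left
      (Cfsg.Agent.Lib.Helper23.card_sup_dvd_of_le_normalizer P R hPR)
      (Nat.Coprime.mul_left hcopP hcopR)
  have hcopW : (Nat.card ↥((P ⊔ R) ⊔ C)).Coprime (Nat.card (sigmaCore H₀)) :=
    Nat.Coprime.coprime_dvd_left
      (Cfsg.Agent.Lib.Helper23.card_sup_dvd_of_le_normalizer (P ⊔ R) C (sup_le hPC hRC))
      (Nat.Coprime.mul_left hcopPR hcopC)
  obtain ⟨Ms, hMs, hWMs, hpMs⟩ :=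
    tau2_detour hG hH₀ hτ (sup_le (sup_le hPH₀ hRH₀) hCH₀) hcopW
  exact key Ms hMs (le_sup_right.trans hWMs) ((le_sup_left.trans le_sup_left).trans hWMs)
    ((le_sup_right.trans le_sup_left).trans hWMs) hpMs

end Cfsg.Agent.Lib.Helper63.BG13
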