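import Cfsg.Agent.Lib.Helper63.BG14b
import Cfsg.Agent.Lib.Helper32.BG123

set_option autoImplicit false
set_option linter.style.haveILetI false
set_option linter.unusedSectionVars false

/-!
# Bender–Glauberman §14, Lemma 14.5, first part: the cosets `x R(x)` are pairwise disjoint

* `eq_of_parts`: uniqueness of the `π`-part of a product of commuting elements.
* `supportR_cases`, `supportR_props`: what `R(x) = supportR M x` is for `x ∈ M_σ#`.
* `s1433_of`: the conclusion of S1433.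
-/

namespace Cfsg.Agent.Lib.Helper63.BG14

open Subgroup Cfsg Cfsg.Agent.Lib.Helper33 Cfsg.Agent.Lib.Helper63
open Cfsg.Agent.Lib.Helper32.BG142 (SigmaDisj)

universe u

variable {G : Type u} [Group G] [Finite G]

/-- the `π`-part of `a r = b s` (`a, b` `π`-elements, `r, s` `π'`-elements, `[a,r] = [b,s] = 1`). -/
theorem eq_of_parts {a r b s : G} (π : Set ℕ) (har : Commute a r) (hbs : Commute b s)
    (ha : ∀ p : ℕ, p.Prime → p ∣ orderOf a → p ∈ π)
    (hb : ∀ p : ℕ, p.Prime → p ∣ orderOf b → p ∈ π)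
    (hr : ∀ p : ℕ, p.Prime → p ∣ orderOf r → p ∉ π)
    (hs : ∀ p : ℕ, p.Prime → p ∣ orderOf s → p ∉ π)
    (h : a * r = b * s) : a = b := by
  have hcop : (orderOf r * orderOf s).Coprime (orderOf ((a, b) : G × G)) := by
    rw [Prod.orderOf_mk]
    apply Nat.coprime_of_dvd
    intro k hk hk1 hk2
    have hkπ : k ∈ π := by
      rcases (Nat.Prime.dvd_mul hk).mp (hk2.trans (Nat.lcm_dvd_mul _ _)) with h' | h'
      exacts [ha k hk h', hb k hk h']
    rcases (Nat.Prime.dvd_mul hk).mp hk1 with h' | h'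
    exacts [hr k hk h' hkπ, hs k hk h' hkπ]
  obtain ⟨m, hm⟩ := exists_pow_eq_self_of_coprime hcop
  have h1 : a ^ (orderOf r * orderOf s) = b ^ (orderOf r * orderOf s) := by
    have e1 : (a * r) ^ (orderOf r * orderOf s) = a ^ (orderOf r * orderOf s) := by
      rw [har.mul_pow, pow_mul r, pow_orderOf_eq_one, one_pow, mul_one]
    have e2 : (b * s) ^ (orderOf r * orderOf s) = b ^ (orderOf r * orderOf s) := by
      rw [hbs.mul_pow, mul_comm (orderOf r), pow_mul s, pow_orderOf_eq_one, one_pow, mul_one]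
    rw [← e1, ← e2, h]
  have h2 := congrArg Prod.fst hm
  have h3 := congrArg Prod.snd hm
  simp only [Prod.pow_fst, Prod.pow_snd] at h2 h3
  rw [← h2, ← h3, h1]

/-- `M_σ` is nilpotent when `τ₂(M) ≠ ∅`. -/
theorem nil_of_tau2 (hG : IsMinSimpleOddOrder G) {N : Subgroup G} (hN : IsCoatom N) {q : ℕ}
    (hq : q.Prime) (hq2 : q ∈ tau2 N) : Group.IsNilpotent ↥(sigmaCore N) := by
  haveI : Fact q.Prime := ⟨hq⟩
  obtain ⟨A, hAN, hAe, hAc⟩ := BG10.exists_elemAb_sq_le hq2.2.2.2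
  exact (Cfsg.Agent.S1417.result hG N hN q hq2 A ⟨hAN, hAe, hAc⟩).1

/-- the two possibilities for `R(x)`. -/
theorem supportR_cases (hG : IsMinSimpleOddOrder G) (h139 : SigmaDisj G) (h32 : Stmt1432 G)
    {M : Subgroup G} (hM : IsCoatom M) {x : G} (hx : x ∈ sigmaCore M) (hx1 : x ≠ 1) :
    (centralizer ({x} : Set G) ≤ M ∧ supportR M x = ⊥) ∨
    (¬ centralizer ({x} : Set G) ≤ M ∧ ∃ N : Subgroup G, IsCoatom N ∧
      centralizer ({x} : Set G) ≤ N ∧
      (∀ L : Subgroup G, IsCoatom L → centralizer ({x} : Set G) ≤ L → L = N) ∧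
      (∀ g : G, N ≠ cj g M) ∧ IsComplIn (M ⊓ N) (sigmaCore N) N ∧ sigmaCore N ⊓ M = ⊥ ∧
      supportR M x = sigmaCore N ⊓ centralizer ({x} : Set G)) := by
  by_cases h : centralizer ({x} : Set G) ≤ M
  · left
    refine ⟨h, ?_⟩
    unfold supportR
    rw [dif_neg]
    exact fun hc => hc.1 h
  · right
    obtain ⟨N, hN, hCN, huniq, hNM, hnc, h2, h3, hτ2, ⟨q, hq, hqx⟩, hR⟩ :=
      core1375 hG h139 h32 hM hx hx1 h
    refine ⟨h, N, hN, hCN, huniq, hnc, h2, h3, ?_⟩
    have hcond : ¬ centralizer ({x} : Set G) ≤ M ∧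
        ∃! L : Subgroup G, IsCoatom L ∧ centralizer ({x} : Set G) ≤ L :=
      ⟨h, N, ⟨hN, hCN⟩, fun L hL => huniq L hL.1 hL.2⟩
    have hsp := Classical.choose_spec hcond.2.exists
    have hch : Classical.choose hcond.2.exists = N := huniq _ hsp.1 hsp.2
    unfold supportR
    rw [dif_pos hcond, hch,
      fittingHallOf_eq_sigmaCore hG hN (nil_of_tau2 hG hN hq (hτ2 q hq hqx))]

/-- the properties of an element of `R(x)`. -/
theorem supportR_props (hG : IsMinSimpleOddOrder G) (h139 : SigmaDisj G) (h32 : Stmt1432 G)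
    {M : Subgroup G} (hM : IsCoatom M) {x : G} (hx : x ∈ sigmaCore M) (hx1 : x ≠ 1) {r : G}
    (hr : r ∈ supportR M x) :
    Commute x r ∧ (∀ p : ℕ, p.Prime → p ∣ orderOf r → p ∉ sigma M) ∧
    (r ≠ 1 → ∃ L : Subgroup G, IsCoatom L ∧ centralizer ({x} : Set G) ≤ L ∧
      (∀ L' : Subgroup G, IsCoatom L' → centralizer ({x} : Set G) ≤ L' → L' = L) ∧
      r ∈ sigmaCore L ∧ (∀ g : G, L ≠ cj g M)) := by
  rcases supportR_cases hG h139 h32 hM hx hx1 with ⟨_, hbot⟩ | ⟨_, N, hN, hCN, huniq, hnc, _, _, hS⟩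
  · rw [hbot] at hr
    have hr1 : r = 1 := mem_bot.mp hr
    subst hr1
    refine ⟨Commute.one_right x, ?_, fun h => absurd rfl h⟩
    intro p hp hpr
    rw [orderOf_one] at hpr
    exact absurd (Nat.dvd_one.mp hpr) hp.one_lt.ne'
  · rw [hS] at hr
    refine ⟨mem_centralizer_iff.mp hr.2 x rfl, ?_, fun _ => ⟨N, hN, hCN, huniq, hr.1, hnc⟩⟩
    intro p hp hpr hpM
    have hpN : p ∈ sigma N := Cfsg.Agent.Lib.Helper24.BG.mem_sigma_of_dvd_card_sigmaCore N hp
      (hpr.trans (Subgroup.orderOf_dvd_natCard _ hr.1))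
    obtain ⟨g, hg⟩ := h139 M N hM hN ⟨p, hpM, hpN⟩
    exact hnc g (by rw [cj_def]; exact hg)

/-- primes of the order of an element of `M_σ` lie in `σ(M)`. -/
theorem mem_sigma_of_dvd_orderOf {M : Subgroup G} {x : G} (hx : x ∈ sigmaCore M) {p : ℕ}
    (hp : p.Prime) (hpx : p ∣ orderOf x) : p ∈ sigma M :=
  Cfsg.Agent.Lib.Helper24.BG.mem_sigma_of_dvd_card_sigmaCore M hp
    (hpx.trans (Subgroup.orderOf_dvd_natCard _ hx))

/-- the conclusion of **S1433**. -/
theorem s1433_of (hG : IsMinSimpleOddOrder G) (h139 : SigmaDisj G) (h32 : Stmt1432 G)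
    (M N : Subgroup G) (hM : IsCoatom M) (hN : IsCoatom N) (x y : G) (hx : x ∈ sigmaCore M)
    (hy : y ∈ sigmaCore N) (hx1 : x ≠ 1) (hy1 : y ≠ 1) (hxy : x ≠ y) :
    ∀ r ∈ supportR M x, ∀ s ∈ supportR N y, x * r ≠ y * s := by
  intro r hr s hs heq
  obtain ⟨hxr, hrπ, hrL⟩ := supportR_props hG h139 h32 hM hx hx1 hr
  obtain ⟨hys, hsπ, hsL⟩ := supportR_props hG h139 h32 hN hy hy1 hs
  by_cases hconj : ∃ c : G, N = cj c M
  · obtain ⟨c, hc⟩ := hconj
    apply hxy
    refine eq_of_parts (sigma M) hxr hys (fun p hp h => mem_sigma_of_dvd_orderOf hx hp h) ?_ hrπ ?_ heq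
    · intro p hp h
      haveI : Fact p.Prime := ⟨hp⟩
      have : p ∈ sigma (cj c M) := hc ▸ mem_sigma_of_dvd_orderOf hy hp h
      exact Cfsg.Agent.Lib.Helper32.BG12.mem_sigma_of_mem_sigma_cj this
    · intro p hp h hpM
      exact hsπ p hp h (hc ▸ BG13.sigma_cj c hpM)
  · push Not at hconj
    have hdisj : ∀ p : ℕ, p ∈ sigma M → p ∈ sigma N → False := by
      intro p hpM hpN
      obtain ⟨g, hg⟩ := h139 M N hM hN ⟨p, hpM, hpN⟩
      exact hconj g (by rw [cj_def]; exact hg)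
    have hcop1 : (orderOf x).Coprime (orderOf r) := by
      apply Nat.coprime_of_dvd
      intro k hk hk1 hk2
      exact hrπ k hk hk2 (mem_sigma_of_dvd_orderOf hx hk hk1)
    have hcop2 : (orderOf y).Coprime (orderOf s) := by
      apply Nat.coprime_of_dvd
      intro k hk hk1 hk2
      exact hsπ k hk hk2 (mem_sigma_of_dvd_orderOf hy hk hk1)
    have ho1 : orderOf (x * r) = orderOf x * orderOf r :=
      hxr.orderOf_mul_eq_mul_orderOf_of_coprime hcop1
    have ho2 : orderOf (y * s) = orderOf y * orderOf s :=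
      hys.orderOf_mul_eq_mul_orderOf_of_coprime hcop2
    -- a prime of `o(x)` divides `o(s)`
    obtain ⟨p, hp, hpx⟩ := Nat.exists_prime_and_dvd (by rwa [Ne, orderOf_eq_one_iff] : orderOf x ≠ 1)
    have hps : p ∣ orderOf s := by
      have h1 : p ∣ orderOf y * orderOf s := by
        rw [← ho2, ← heq, ho1]; exact Dvd.dvd.mul_right hpx _
      rcases (Nat.Prime.dvd_mul hp).mp h1 with h' | h'
      · exact absurd (mem_sigma_of_dvd_orderOf hy hp h') (fun h'' =>
          hdisj p (mem_sigma_of_dvd_orderOf hx hp hpx) h'')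
      · exact h'
    obtain ⟨p', hp', hpy⟩ := Nat.exists_prime_and_dvd (by rwa [Ne, orderOf_eq_one_iff] : orderOf y ≠ 1)
    have hpr : p' ∣ orderOf r := by
      have h1 : p' ∣ orderOf x * orderOf r := by
        rw [← ho1, heq, ho2]; exact Dvd.dvd.mul_right hpy _
      rcases (Nat.Prime.dvd_mul hp').mp h1 with h' | h'
      · exact absurd (mem_sigma_of_dvd_orderOf hy hp' hpy) (fun h'' =>
          hdisj p' (mem_sigma_of_dvd_orderOf hx hp' h') h'')
      · exact h'
    have hs1 : s ≠ 1 := by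
      intro h; rw [h, orderOf_one] at hps; exact hp.one_lt.ne' (Nat.dvd_one.mp hps)
    have hr1 : r ≠ 1 := by
      intro h; rw [h, orderOf_one] at hpr; exact hp'.one_lt.ne' (Nat.dvd_one.mp hpr)
    obtain ⟨L, hL, hCL, hLu, hrL', hLnc⟩ := hrL hr1
    obtain ⟨L', hL', hCL', hLu', hsL', hLnc'⟩ := hsL hs1
    -- `L' ~ M` and `L ~ N`
    obtain ⟨c, hc⟩ := h139 M L' hM hL' ⟨p, mem_sigma_of_dvd_orderOf hx hp hpx,
      mem_sigma_of_dvd_orderOf hsL' hp hps⟩
    obtain ⟨c', hc'⟩ := h139 N L hN hL ⟨p', mem_sigma_of_dvd_orderOf hy hp' hpy,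
      mem_sigma_of_dvd_orderOf hrL' hp' hpr⟩
    rw [← cj_def] at hc hc'
    -- `x = s`
    have hxs : x = s := by
      refine eq_of_parts (sigma M) hxr hys.symm
        (fun q hq h => mem_sigma_of_dvd_orderOf hx hq h) ?_ hrπ ?_ (heq.trans hys.eq)
      · intro q hq h
        haveI : Fact q.Prime := ⟨hq⟩
        have : q ∈ sigma (cj c M) := hc ▸ mem_sigma_of_dvd_orderOf hsL' hq h
        exact Cfsg.Agent.Lib.Helper32.BG12.mem_sigma_of_mem_sigma_cj this
      · intro q hq h hqM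
        exact hdisj q hqM (mem_sigma_of_dvd_orderOf hy hq h)
    have hry : r = y := by
      have : x * r = x * y := by
        calc x * r = y * s := heq
          _ = s * y := hys.eq
          _ = x * y := by rw [← hxs]
      exact mul_left_cancel this
    -- `C(y) ≰ L`
    have hyL : y ∈ sigmaCore L := hry ▸ hrL'
    have hnle : ¬ centralizer ({y} : Set G) ≤ L := by
      intro hle
      have hLL : L = L' := hLu' L hL hle
      apply hconj (c'⁻¹ * c)
      rw [cj_mul, ← hc, ← hLL, hc', cj_inv_cj]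
    obtain ⟨N₂, hN₂, hCN₂, _, _, _, _, h3, _⟩ := core1375 hG h139 h32 hL hyL hy1 hnle
    have hN₂L' : N₂ = L' := hLu' N₂ hN₂ hCN₂
    have hxL : x ∈ L := hCL (by
      rw [mem_centralizer_iff]; intro h hh; rw [Set.mem_singleton_iff.mp hh])
    have : x ∈ sigmaCore N₂ ⊓ L := ⟨hN₂L' ▸ (hxs ▸ hsL'), hxL⟩
    rw [h3] at this
    exact hx1 (mem_bot.mp this)

end Cfsg.Agent.Lib.Helper63.BG14
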