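import Mathlib
import Cfsg.Agent.Lib.Helper24.Coprime
import Cfsg.Agent.Lib.Helper2.PGroup

set_option autoImplicit false

/-!
Coprime action on `r`-groups, `r` odd: a group `A` of order prime to `r` normalising the `r`-group
`P` and centralising every element `x ∈ P` with `x ^ r = 1` centralises `P`.
-/

namespace Cfsg.Agent.Lib.Helper63

open scoped commutatorElement
open Subgroup

section elementwise

variable {G : Type*} [Group G]

/-- `y ^ n * x = ⁅y, x⁆ ^ n * x * y ^ n` when `⁅y, x⁆` commutes with `y`. -/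
theorem pow_mul_eq_of_commute (x y : G) (hy : Commute ⁅y, x⁆ y) (n : ℕ) :
    y ^ n * x = ⁅y, x⁆ ^ n * x * y ^ n := by
  rw [← Cfsg.Agent.Lib.Helper2.commutator_pow_left y x hy n, commutatorElement_def]
  group

/-- the class-two power formula, elementwise -/
theorem mul_pow_of_commute (x y : G) (hx : Commute ⁅y, x⁆ x) (hy : Commute ⁅y, x⁆ y) (n : ℕ) :
    (x * y) ^ n = x ^ n * y ^ n * ⁅y, x⁆ ^ (n.choose 2) := by
  induction n with
  | zero => simp
  | succ n ih =>
    have hck : ∀ (k : ℕ), Commute (⁅y, x⁆ ^ k) x := fun k => hx.pow_left k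
    have hck' : ∀ (k m : ℕ), Commute (⁅y, x⁆ ^ k) (y ^ m) := fun k m => (hy.pow_left k).pow_right m
    have h1 : Nat.choose (n + 1) 2 = Nat.choose n 2 + n := by
      rw [Nat.choose_succ_succ' n 1, Nat.choose_one_right, add_comm]
    rw [h1]
    calc (x * y) ^ (n + 1) = x ^ n * y ^ n * ⁅y, x⁆ ^ n.choose 2 * (x * y) := by
          rw [pow_succ, ih]
      _ = x ^ n * (y ^ n * (⁅y, x⁆ ^ n.choose 2 * x)) * y := by group
      _ = x ^ n * (y ^ n * (x * ⁅y, x⁆ ^ n.choose 2)) * y := by rw [(hck (n.choose 2)).eq]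
      _ = x ^ n * (y ^ n * x) * ⁅y, x⁆ ^ n.choose 2 * y := by group
      _ = x ^ n * (⁅y, x⁆ ^ n * x * y ^ n) * ⁅y, x⁆ ^ n.choose 2 * y := by
          rw [pow_mul_eq_of_commute x y hy n]
      _ = x ^ n * (⁅y, x⁆ ^ n * x) * (y ^ n * ⁅y, x⁆ ^ n.choose 2) * y := by group
      _ = x ^ n * (x * ⁅y, x⁆ ^ n) * (⁅y, x⁆ ^ n.choose 2 * y ^ n) * y := by
          rw [(hck n).eq, (hck' (n.choose 2) n).eq]
      _ = x ^ (n + 1) * ((⁅y, x⁆ ^ n * ⁅y, x⁆ ^ n.choose 2) * y ^ (n + 1)) := by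
          rw [pow_succ, pow_succ]; group
      _ = x ^ (n + 1) * (y ^ (n + 1) * (⁅y, x⁆ ^ n * ⁅y, x⁆ ^ n.choose 2)) := by
          rw [← pow_add, (hck' _ (n + 1)).eq]
      _ = x ^ (n + 1) * y ^ (n + 1) * ⁅y, x⁆ ^ (n.choose 2 + n) := by
          rw [← pow_add, Nat.add_comm n (n.choose 2), mul_assoc]

/-- for an odd prime `r`: `(x y) ^ r = x ^ r y ^ r` if `⁅y, x⁆` commutes with `x`, `y` and
`y ^ r` commutes with `x`. -/
theorem mul_pow_prime_of_commute {r : ℕ} (hr : r.Prime) (hr2 : r ≠ 2) (x y : G)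
    (hx : Commute ⁅y, x⁆ x) (hy : Commute ⁅y, x⁆ y) (hyr : Commute (y ^ r) x) :
    (x * y) ^ r = x ^ r * y ^ r := by
  rw [mul_pow_of_commute x y hx hy r]
  have h2 : 2 < r := lt_of_le_of_ne hr.two_le (Ne.symm hr2)
  obtain ⟨k, hk⟩ := hr.dvd_choose_self (by norm_num : (2 : ℕ) ≠ 0) h2
  have hc : ⁅y, x⁆ ^ r = 1 := by
    rw [← Cfsg.Agent.Lib.Helper2.commutator_pow_left y x hy r]
    exact commutatorElement_eq_one_iff_commute.2 hyr
  rw [hk, pow_mul, hc, one_pow, mul_one]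

end elementwise

section theoremT

open Cfsg.Agent.Lib.Helper24

variable {G : Type*} [Group G] [Finite G]

theorem card_lt_card_of_lt' {H K : Subgroup G} (hle : H ≤ K) (hne : H ≠ K) :
    Nat.card H < Nat.card K := by
  refine lt_of_le_of_ne (Subgroup.card_le_of_le hle) ?_
  intro h
  exact hne (Subgroup.eq_of_le_of_card_ge hle h.ge)

/-- **Coprime action on `r`-groups, `r` odd.** If `A` has order prime to `r`, normalises the
`r`-group `P` and centralises all `x ∈ P` with `x ^ r = 1`, then `A` centralises `P`. -/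
theorem le_centralizer_of_centralizes_omega_aux {r : ℕ} [hr : Fact r.Prime] (hr2 : r ≠ 2)
    (A : Subgroup G) (hcop : (Nat.card A).Coprime r) :
    ∀ (n : ℕ) (P : Subgroup G), Nat.card P = n → IsPGroup r P → A ≤ normalizer (P : Set G) →
      (∀ x ∈ P, x ^ r = 1 → ∀ a ∈ A, a * x = x * a) → P ≤ centralizer (A : Set G) := by
  intro n
  induction n using Nat.strong_induction_on with
  | _ n ih =>
  intro P hPn hP hAP hΩ
  have hcopP : (Nat.card A).Coprime (Nat.card P) := by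
    obtain ⟨k, hk⟩ := (IsPGroup.iff_card).1 hP
    rw [hk]; exact Nat.Coprime.pow_right k hcop
  have hsolv : Group.IsSolvable A ∨ Group.IsSolvable P := by
    right
    have := hP.isNilpotent
    infer_instance
  have hP₁P : ⁅P, A⁆ ≤ P := commutator_le_of_le_normalizer P A hAP
  have hAP₁ : A ≤ normalizer ((⁅P, A⁆ : Subgroup G) : Set G) := le_normalizer_commutator_right P A hAP
  have hcc : ⁅⁅P, A⁆, A⁆ = ⁅P, A⁆ := commutator_commutator_eq A P hAP hcopP hsolv
  by_cases hne : ⁅P, A⁆ = P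
  · -- the main case `[P, A] = P`
    by_cases hPbot : P = ⊥
    · rw [hPbot]; exact bot_le
    have hnt : Nontrivial ↥P := (Subgroup.nontrivial_iff_ne_bot P).2 hPbot
    set Φ := (frattini ↥P).map P.subtype with hΦ
    have hΦP : Φ ≤ P := map_subtype_le _
    have hΦne : Φ ≠ P := by
      intro h
      have htop : frattini ↥P = ⊤ := by
        apply Subgroup.map_injective P.subtype_injective
        rw [← hΦ, h, ← MonoidHom.range_eq_map, Subgroup.range_subtype]
      rcases eq_top_or_exists_le_coatom (⊥ : Subgroup ↥P) with hbt | ⟨M, hM, _⟩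
      · exact bot_ne_top hbt
      · have := frattini_le_coatom hM
        rw [htop] at this
        exact hM.1 (top_le_iff.1 this)
    have hΦlt : Nat.card Φ < n := hPn ▸ card_lt_card_of_lt' hΦP hΦne
    have hchar : normalizer (P : Set G) ≤ normalizer (Φ : Set G) :=
      normalizer_le_normalizer_map_of_characteristic P (frattini ↥P)
    have hAΦ : A ≤ normalizer (Φ : Set G) := hAP.trans hchar
    have hPΦ : P ≤ normalizer (Φ : Set G) := le_normalizer.trans hchar
    have hΦc : Φ ≤ centralizer (A : Set G) :=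
      ih _ hΦlt Φ rfl (hP.to_le hΦP) hAΦ (fun x hx => hΩ x (hΦP hx))
    have hΦA : ⁅Φ, A⁆ = ⊥ := commutator_eq_bot_iff_le_centralizer.2 hΦc
    have h1 : ⁅⁅A, Φ⁆, P⁆ = ⊥ := by rw [commutator_comm A Φ, hΦA, commutator_bot_left]
    have h2 : ⁅⁅Φ, P⁆, A⁆ = ⊥ := by
      have : ⁅Φ, P⁆ ≤ Φ := commutator_le_of_le_normalizer Φ P hPΦ
      exact le_bot_iff.1 ((commutator_mono this le_rfl).trans hΦA.le)
    have h3 : ⁅⁅P, A⁆, Φ⁆ = ⊥ := commutator_commutator_eq_bot_of_rotate h1 h2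
    rw [hne] at h3
    have hPΦc : P ≤ centralizer (Φ : Set G) := commutator_eq_bot_iff_le_centralizer.1 h3
    have hcommΦ : ∀ x ∈ P, ∀ z ∈ Φ, z * x = x * z :=
      fun x hx z hz => mem_centralizer_iff.1 (hPΦc hx) z hz
    have hcomm_mem : ∀ x ∈ P, ∀ y ∈ P, ⁅x, y⁆ ∈ Φ := by
      intro x hx y hy
      have h : ⁅(⟨x, hx⟩ : ↥P), ⟨y, hy⟩⁆ ∈ frattini ↥P := by
        apply Cfsg.Agent.Lib.Helper2.commutator_le_frattini hP
        rw [commutator_def]
        exact commutator_mem_commutator (mem_top _) (mem_top _)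
      exact ⟨_, h, rfl⟩
    have hpow_mem : ∀ x ∈ P, x ^ r ∈ Φ := by
      intro x hx
      exact ⟨_, Cfsg.Agent.Lib.Helper2.pow_mem_frattini hP ⟨x, hx⟩, rfl⟩
    have hmulpow : ∀ x ∈ P, ∀ y ∈ P, (x * y) ^ r = x ^ r * y ^ r := by
      intro x hx y hy
      apply mul_pow_prime_of_commute hr.out hr2
      · exact hcommΦ x hx _ (hcomm_mem y hy x hx)
      · exact hcommΦ y hy _ (hcomm_mem y hy x hx)
      · exact hcommΦ x hx _ (hpow_mem y hy)
    have hΩ' : ∀ x ∈ P, ∀ a ∈ A, ⁅x, a⁆ ^ r = 1 := by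
      intro x hx a ha
      have hx' : a * x⁻¹ * a⁻¹ ∈ P := (mem_normalizer_iff.1 (hAP ha) x⁻¹).1 (P.inv_mem hx)
      have e : ⁅x, a⁆ = x * (a * x⁻¹ * a⁻¹) := by rw [commutatorElement_def]; group
      have e2 : (a * x⁻¹ * a⁻¹) ^ r = a * (x ^ r)⁻¹ * a⁻¹ := by
        rw [conj_pow, inv_pow]
      have hxr : a * x ^ r = x ^ r * a := mem_centralizer_iff.1 (hΦc (hpow_mem x hx)) a ha
      rw [e, hmulpow x hx _ hx', e2]
      calc x ^ r * (a * (x ^ r)⁻¹ * a⁻¹) = (x ^ r * a) * (x ^ r)⁻¹ * a⁻¹ := by group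
        _ = (a * x ^ r) * (x ^ r)⁻¹ * a⁻¹ := by rw [hxr]
        _ = 1 := by group
    have hall : ∀ x ∈ P, x ^ r = 1 := by
      let Ω : Subgroup G :=
        { carrier := {x | x ∈ P ∧ x ^ r = 1}
          mul_mem' := by
            rintro x y ⟨hx, hxr⟩ ⟨hy, hyr⟩
            exact ⟨P.mul_mem hx hy, by rw [hmulpow x hx y hy, hxr, hyr, one_mul]⟩
          one_mem' := ⟨P.one_mem, one_pow r⟩
          inv_mem' := by
            rintro x ⟨hx, hxr⟩
            exact ⟨P.inv_mem hx, by rw [inv_pow, hxr, inv_one]⟩ }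
      have hle : ⁅P, A⁆ ≤ Ω := by
        rw [commutator_le]
        intro x hx a ha
        exact ⟨hP₁P (commutator_mem_commutator hx ha), hΩ' x hx a ha⟩
      intro x hx
      have hx' : x ∈ ⁅P, A⁆ := by rw [hne]; exact hx
      exact (hle hx').2
    intro x hx
    rw [mem_centralizer_iff]
    intro a ha
    exact hΩ x hx (hall x hx) a ha
  · -- `[P, A] < P`
    have hlt : Nat.card (⁅P, A⁆ : Subgroup G) < n := hPn ▸ card_lt_card_of_lt' hP₁P hne
    have h1 : ⁅P, A⁆ ≤ centralizer (A : Set G) :=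
      ih _ hlt ⁅P, A⁆ rfl (hP.to_le hP₁P) hAP₁ (fun x hx => hΩ x (hP₁P hx))
    have h2 : ⁅⁅P, A⁆, A⁆ = ⊥ := commutator_eq_bot_iff_le_centralizer.2 h1
    rw [hcc] at h2
    exact commutator_eq_bot_iff_le_centralizer.1 h2

theorem le_centralizer_of_centralizes_omega {r : ℕ} [hr : Fact r.Prime] (hr2 : r ≠ 2)
    (A P : Subgroup G) (hcop : (Nat.card A).Coprime r) (hP : IsPGroup r P)
    (hAP : A ≤ normalizer (P : Set G))
    (hΩ : ∀ x ∈ P, x ^ r = 1 → ∀ a ∈ A, a * x = x * a) : P ≤ centralizer (A : Set G) :=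
  le_centralizer_of_centralizes_omega_aux hr2 A hcop _ P rfl hP hAP hΩ

end theoremT

end Cfsg.Agent.Lib.Helper63
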