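import Mathlib
import Cfsg.Agent.Lib.Helper63.CoprimeOmega

set_option autoImplicit false

/-!
Coprime action on `2`-groups: a group `A` of odd order normalising the `2`-group `P` and
centralising every `x ∈ P` with `x ^ 4 = 1` centralises `P`.  Also: `A` normalising all maximal
subgroups of a `2`-group `P` centralises `P`.
-/

namespace Cfsg.Agent.Lib.Helper63

open scoped commutatorElement
open Subgroup

section elementwise

variable {G : Type*} [Group G]

/-- `(x y) ^ 4 = x ^ 4 y ^ 4` if `⁅y, x⁆` commutes with `x`, `y` and `y ^ 2` commutes with `x`. -/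
theorem mul_pow_four_of_commute (x y : G)
    (hx : Commute ⁅y, x⁆ x) (hy : Commute ⁅y, x⁆ y) (hy2 : Commute (y ^ 2) x) :
    (x * y) ^ 4 = x ^ 4 * y ^ 4 := by
  rw [mul_pow_of_commute x y hx hy 4]
  have hc : ⁅y, x⁆ ^ 2 = 1 := by
    rw [← Cfsg.Agent.Lib.Helper2.commutator_pow_left y x hy 2]
    exact commutatorElement_eq_one_iff_commute.2 hy2
  have h6 : Nat.choose 4 2 = 2 * 3 := by decide
  rw [h6, pow_mul, hc, one_pow, mul_one]

end elementwise

section theoremT2

open Cfsg.Agent.Lib.Helper24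

variable {G : Type*} [Group G] [Finite G]

theorem le_centralizer_of_centralizes_omega_two_aux
    (A : Subgroup G) (hcop : (Nat.card A).Coprime 2) :
    ∀ (n : ℕ) (P : Subgroup G), Nat.card P = n → IsPGroup 2 P → A ≤ normalizer (P : Set G) →
      (∀ x ∈ P, x ^ 4 = 1 → ∀ a ∈ A, a * x = x * a) → P ≤ centralizer (A : Set G) := by
  have : Fact (Nat.Prime 2) := ⟨Nat.prime_two⟩
  intro n
  induction n using Nat.strong_induction_on with
  | _ n ih =>
  intro P hPn hP hAP hΩ
  have hcopP : (Nat.card A).Coprime (Nat.card P) := by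
    obtain ⟨k, hk⟩ := (IsPGroup.iff_card).1 hP
    rw [hk]; exact Nat.Coprime.pow_right k hcop
  have hsolv : Group.IsSolvable A ∨ Group.IsSolvable P := by
    right
    have := hP.isNilpotent
    infer_instance
  have hP₁P : ⁅P, A⁆ ≤ P := commutator_le_of_le_normalizer P A hAP
  have hAP₁ : A ≤ normalizer ((⁅P, A⁆ : Subgroup G) : Set G) := le_normalizer_commutator_right P A hAP
  have hcc : ⁅⁅P, A⁆, A⁆ = ⁅P, A⁆ := commutator_commutator_eq A P hAP hcopP hsolv
  by_cases hne : ⁅P, A⁆ = P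
  · by_cases hPbot : P = ⊥
    · rw [hPbot]; exact bot_le
    have hnt : Nontrivial ↥P := (Subgroup.nontrivial_iff_ne_bot P).2 hPbot
    set Φ := (frattini ↥P).map P.subtype with hΦ
    have hΦP : Φ ≤ P := map_subtype_le _
    have hΦne : Φ ≠ P := by
      intro h
      have htop : frattini ↥P = ⊤ := by
        apply Subgroup.map_injective P.subtype_injective
        rw [← hΦ, h, ← MonoidHom.range_eq_map, Subgroup.range_subtype]
      rcases eq_top_or_exists_le_coatom (⊥ : Subgroup ↥P) with hbt | ⟨M, hM, _⟩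
      · exact bot_ne_top hbt
      · have := frattini_le_coatom hM
        rw [htop] at this
        exact hM.1 (top_le_iff.1 this)
    have hΦlt : Nat.card Φ < n := hPn ▸ card_lt_card_of_lt' hΦP hΦne
    have hchar : normalizer (P : Set G) ≤ normalizer (Φ : Set G) :=
      normalizer_le_normalizer_map_of_characteristic P (frattini ↥P)
    have hAΦ : A ≤ normalizer (Φ : Set G) := hAP.trans hchar
    have hPΦ : P ≤ normalizer (Φ : Set G) := le_normalizer.trans hchar
    have hΦc : Φ ≤ centralizer (A : Set G) :=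
      ih _ hΦlt Φ rfl (hP.to_le hΦP) hAΦ (fun x hx => hΩ x (hΦP hx))
    have hΦA : ⁅Φ, A⁆ = ⊥ := commutator_eq_bot_iff_le_centralizer.2 hΦc
    have h1 : ⁅⁅A, Φ⁆, P⁆ = ⊥ := by rw [commutator_comm A Φ, hΦA, commutator_bot_left]
    have h2 : ⁅⁅Φ, P⁆, A⁆ = ⊥ := by
      have : ⁅Φ, P⁆ ≤ Φ := commutator_le_of_le_normalizer Φ P hPΦ
      exact le_bot_iff.1 ((commutator_mono this le_rfl).trans hΦA.le)
    have h3 : ⁅⁅P, A⁆, Φ⁆ = ⊥ := commutator_commutator_eq_bot_of_rotate h1 h2
    rw [hne] at h3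
    have hPΦc : P ≤ centralizer (Φ : Set G) := commutator_eq_bot_iff_le_centralizer.1 h3
    have hcommΦ : ∀ x ∈ P, ∀ z ∈ Φ, z * x = x * z :=
      fun x hx z hz => mem_centralizer_iff.1 (hPΦc hx) z hz
    have hcomm_mem : ∀ x ∈ P, ∀ y ∈ P, ⁅x, y⁆ ∈ Φ := by
      intro x hx y hy
      have h : ⁅(⟨x, hx⟩ : ↥P), ⟨y, hy⟩⁆ ∈ frattini ↥P := by
        apply Cfsg.Agent.Lib.Helper2.commutator_le_frattini hP
        rw [commutator_def]
        exact commutator_mem_commutator (mem_top _) (mem_top _)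
      exact ⟨_, h, rfl⟩
    have hpow_mem : ∀ x ∈ P, x ^ 2 ∈ Φ := by
      intro x hx
      exact ⟨_, Cfsg.Agent.Lib.Helper2.pow_mem_frattini hP ⟨x, hx⟩, rfl⟩
    have hpow4_mem : ∀ x ∈ P, x ^ 4 ∈ Φ := by
      intro x hx
      have : x ^ 4 = (x ^ 2) ^ 2 := by rw [← pow_mul]
      rw [this]
      exact Φ.pow_mem (hpow_mem x hx) 2
    have hmulpow : ∀ x ∈ P, ∀ y ∈ P, (x * y) ^ 4 = x ^ 4 * y ^ 4 := by
      intro x hx y hy
      apply mul_pow_four_of_commute
      · exact hcommΦ x hx _ (hcomm_mem y hy x hx)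
      · exact hcommΦ y hy _ (hcomm_mem y hy x hx)
      · exact hcommΦ x hx _ (hpow_mem y hy)
    have hΩ' : ∀ x ∈ P, ∀ a ∈ A, ⁅x, a⁆ ^ 4 = 1 := by
      intro x hx a ha
      have hx' : a * x⁻¹ * a⁻¹ ∈ P := (mem_normalizer_iff.1 (hAP ha) x⁻¹).1 (P.inv_mem hx)
      have e : ⁅x, a⁆ = x * (a * x⁻¹ * a⁻¹) := by rw [commutatorElement_def]; group
      have e2 : (a * x⁻¹ * a⁻¹) ^ 4 = a * (x ^ 4)⁻¹ * a⁻¹ := by
        rw [conj_pow, inv_pow]
      have hxr : a * x ^ 4 = x ^ 4 * a := mem_centralizer_iff.1 (hΦc (hpow4_mem x hx)) a ha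
      rw [e, hmulpow x hx _ hx', e2]
      calc x ^ 4 * (a * (x ^ 4)⁻¹ * a⁻¹) = (x ^ 4 * a) * (x ^ 4)⁻¹ * a⁻¹ := by group
        _ = (a * x ^ 4) * (x ^ 4)⁻¹ * a⁻¹ := by rw [hxr]
        _ = 1 := by group
    have hall : ∀ x ∈ P, x ^ 4 = 1 := by
      let Ω : Subgroup G :=
        { carrier := {x | x ∈ P ∧ x ^ 4 = 1}
          mul_mem' := by
            rintro x y ⟨hx, hxr⟩ ⟨hy, hyr⟩
            exact ⟨P.mul_mem hx hy, by rw [hmulpow x hx y hy, hxr, hyr, one_mul]⟩
          one_mem' := ⟨P.one_mem, one_pow 4⟩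
          inv_mem' := by
            rintro x ⟨hx, hxr⟩
            exact ⟨P.inv_mem hx, by rw [inv_pow, hxr, inv_one]⟩ }
      have hle : ⁅P, A⁆ ≤ Ω := by
        rw [commutator_le]
        intro x hx a ha
        exact ⟨hP₁P (commutator_mem_commutator hx ha), hΩ' x hx a ha⟩
      intro x hx
      have hx' : x ∈ ⁅P, A⁆ := by rw [hne]; exact hx
      exact (hle hx').2
    intro x hx
    rw [mem_centralizer_iff]
    intro a ha
    exact hΩ x hx (hall x hx) a ha
  · have hlt : Nat.card (⁅P, A⁆ : Subgroup G) < n := hPn ▸ card_lt_card_of_lt' hP₁P hne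
    have h1 : ⁅P, A⁆ ≤ centralizer (A : Set G) :=
      ih _ hlt ⁅P, A⁆ rfl (hP.to_le hP₁P) hAP₁ (fun x hx => hΩ x (hP₁P hx))
    have h2 : ⁅⁅P, A⁆, A⁆ = ⊥ := commutator_eq_bot_iff_le_centralizer.2 h1
    rw [hcc] at h2
    exact commutator_eq_bot_iff_le_centralizer.1 h2

/-- **Coprime action on `2`-groups.** If `A` has odd order, normalises the `2`-group `P` and
centralises all `x ∈ P` with `x ^ 4 = 1`, then `A` centralises `P`. -/
theorem le_centralizer_of_centralizes_omega_two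
    (A P : Subgroup G) (hcop : (Nat.card A).Coprime 2) (hP : IsPGroup 2 P)
    (hAP : A ≤ normalizer (P : Set G))
    (hΩ : ∀ x ∈ P, x ^ 4 = 1 → ∀ a ∈ A, a * x = x * a) : P ≤ centralizer (A : Set G) :=
  le_centralizer_of_centralizes_omega_two_aux A hcop _ P rfl hP hAP hΩ

end theoremT2

section coatoms

open Cfsg.Agent.Lib.Helper24

variable {G : Type*} [Group G] [Finite G]

omit [Finite G] in
theorem mk_mem_iff_mem_map_subtype {P : Subgroup G} (M : Subgroup ↥P) {y : G} (hy : y ∈ P) :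
    (⟨y, hy⟩ : ↥P) ∈ M ↔ y ∈ M.map P.subtype := by
  constructor
  · intro h
    exact ⟨_, h, rfl⟩
  · rintro ⟨w, hw, hwy⟩
    have : w = ⟨y, hy⟩ := Subtype.ext hwy
    rwa [this] at hw

/-- a group of odd order normalising a `2`-group `P` and all its maximal subgroups centralises `P` -/
theorem le_centralizer_of_normalizes_coatoms (A P : Subgroup G) (hcop : (Nat.card A).Coprime 2)
    (hP : IsPGroup 2 P) (hAP : A ≤ normalizer (P : Set G))
    (hM : ∀ M : Subgroup ↥P, IsCoatom M →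
      A ≤ normalizer ((M.map P.subtype : Subgroup G) : Set G)) :
    P ≤ centralizer (A : Set G) := by
  have : Fact (Nat.Prime 2) := ⟨Nat.prime_two⟩
  have hcopP : (Nat.card A).Coprime (Nat.card P) := by
    obtain ⟨k, hk⟩ := (IsPGroup.iff_card).1 hP
    rw [hk]; exact Nat.Coprime.pow_right k hcop
  have hsolv : Group.IsSolvable A ∨ Group.IsSolvable P := by
    right
    have := hP.isNilpotent
    infer_instance
  set Φ := (frattini ↥P).map P.subtype with hΦ
  have hcomm : ⁅P, A⁆ ≤ Φ := by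
    rw [commutator_le]
    intro x hx a ha
    have hx' : a * x⁻¹ * a⁻¹ ∈ P := (mem_normalizer_iff.1 (hAP ha) x⁻¹).1 (P.inv_mem hx)
    have e : ⁅x, a⁆ = x * (a * x⁻¹ * a⁻¹) := by rw [commutatorElement_def]; group
    have hmem : (⟨x, hx⟩ : ↥P) * ⟨a * x⁻¹ * a⁻¹, hx'⟩ ∈ frattini ↥P := by
      rw [Cfsg.Agent.Lib.Helper2.mem_frattini_iff]
      intro M hMc
      have hMn : M.Normal := Cfsg.Agent.Lib.Helper2.coatom_normal hP M hMc
      have hidx : M.index = 2 := by
        rw [Subgroup.index_eq_card]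
        exact Cfsg.Agent.Lib.Helper2.coatom_card_quotient hP M hMc
      rw [mul_mem_iff_of_index_two hidx, mk_mem_iff_mem_map_subtype M hx,
        mk_mem_iff_mem_map_subtype M hx']
      have h1 := mem_normalizer_iff.1 (hM M hMc ha) x⁻¹
      rw [← h1, inv_mem_iff]
    rw [e]
    exact ⟨_, hmem, rfl⟩
  have hsup : ⁅P, A⁆ ⊔ (P ⊓ centralizer (A : Set G)) = P :=
    commutator_sup_centralizer_eq A P hAP hcopP hsolv
  have hsup' : (P ⊓ centralizer (A : Set G)) ⊔ Φ = P := by
    apply le_antisymm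
    · exact sup_le inf_le_left (map_subtype_le _)
    · exact hsup.symm.le.trans (sup_le (hcomm.trans le_sup_right) le_sup_left)
  have htop : (P ⊓ centralizer (A : Set G)).subgroupOf P = ⊤ := by
    apply frattini_nongenerating
    apply Subgroup.map_injective P.subtype_injective
    rw [Subgroup.map_sup, subgroupOf_map_subtype, ← hΦ, ← MonoidHom.range_eq_map,
      Subgroup.range_subtype, inf_assoc, inf_comm (centralizer (A : Set G)) P, ← inf_assoc, inf_idem]
    exact hsup'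
  rw [subgroupOf_eq_top] at htop
  exact htop.trans inf_le_right

/-- a non-cyclic finite group has two distinct maximal subgroups, which generate it -/
theorem exists_two_coatoms_of_not_isCyclic {E : Type*} [Group E] [Finite E] (h : ¬ IsCyclic E) :
    ∃ M₁ M₂ : Subgroup E, IsCoatom M₁ ∧ IsCoatom M₂ ∧ M₁ ≠ M₂ ∧ M₁ ⊔ M₂ = ⊤ := by
  have hnt : Nontrivial E := by
    by_contra hnt
    rw [not_nontrivial_iff_subsingleton] at hnt
    exact h isCyclic_of_subsingleton
  obtain ⟨M₁, hM₁⟩ : ∃ M₁ : Subgroup E, IsCoatom M₁ := by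
    rcases eq_top_or_exists_le_coatom (⊥ : Subgroup E) with hbt | ⟨M, hM, _⟩
    · exact absurd hbt bot_ne_top
    · exact ⟨M, hM⟩
  obtain ⟨x, hx⟩ : ∃ x : E, x ∉ M₁ := by
    by_contra hcon
    apply hM₁.1
    rw [eq_top_iff]
    intro y _
    by_contra hy
    exact hcon ⟨y, hy⟩
  have hz : zpowers x ≠ ⊤ := by
    intro hz
    exact h (isCyclic_iff_exists_zpowers_eq_top.2 ⟨x, hz⟩)
  rcases eq_top_or_exists_le_coatom (zpowers x) with hbt | ⟨M₂, hM₂, hxM₂⟩
  · exact absurd hbt hz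
  · have hxM : x ∈ M₂ := hxM₂ (mem_zpowers x)
    have hne : M₁ ≠ M₂ := fun h => hx (h ▸ hxM)
    refine ⟨M₁, M₂, hM₁, hM₂, hne, ?_⟩
    apply hM₁.2
    refine lt_of_le_of_ne le_sup_left ?_
    intro h
    apply hx
    rw [h]
    exact (le_sup_right : M₂ ≤ M₁ ⊔ M₂) hxM

/-- an element of odd order normalising a cyclic `2`-group centralises it -/
theorem mem_centralizer_of_cyclic_two_group (Z : Subgroup G) (hZ : IsPGroup 2 Z) [hc : IsCyclic ↥Z]
    {a : G} (ha : a ∈ normalizer (Z : Set G)) (hodd : (orderOf a).Coprime 2) :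
    a ∈ centralizer (Z : Set G) := by
  have : Fact (Nat.Prime 2) := ⟨Nat.prime_two⟩
  set a' : normalizer (Z : Set G) := ⟨a, ha⟩ with ha'
  have h1 : orderOf (Z.normalizerMonoidHom a') ∣ orderOf a := by
    have := orderOf_map_dvd Z.normalizerMonoidHom a'
    rwa [ha', Subgroup.orderOf_mk] at this
  have h2 : orderOf (Z.normalizerMonoidHom a') ∣ Nat.card (MulAut ↥Z) := orderOf_dvd_natCard _
  rw [IsCyclic.card_mulAut] at h2
  obtain ⟨k, hk⟩ := (IsPGroup.iff_card).1 hZ
  have h3 : ∃ j, Nat.totient (Nat.card ↥Z) = 2 ^ j := by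
    rw [hk]
    rcases Nat.eq_zero_or_pos k with h0 | hpos
    · exact ⟨0, by rw [h0]; simp⟩
    · exact ⟨k - 1, by rw [Nat.totient_prime_pow Nat.prime_two hpos]; simp⟩
  obtain ⟨j, hj⟩ := h3
  rw [hj] at h2
  have h4 : orderOf (Z.normalizerMonoidHom a') = 1 := by
    have hcop : (orderOf a).Coprime (2 ^ j) := Nat.Coprime.pow_right j hodd
    exact Nat.eq_one_of_dvd_coprimes hcop h1 h2
  rw [orderOf_eq_one_iff] at h4
  have h5 : a' ∈ Z.normalizerMonoidHom.ker := h4
  rw [normalizerMonoidHom_ker] at h5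
  exact h5

end coatoms

end Cfsg.Agent.Lib.Helper63
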