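import Mathlib

set_option autoImplicit false

namespace Cfsg.Agent.Lib.Helper63

universe u

/-- `A` is a minimal normal subgroup of `G`. -/
def IsMinNormal {G : Type*} [Group G] (A : Subgroup G) : Prop :=
  A.Normal ∧ A ≠ ⊥ ∧ ∀ B : Subgroup G, B.Normal → B ≤ A → B ≠ ⊥ → B = A

theorem card_lt_of_lt_top {G : Type*} [Group G] [Finite G] {K : Subgroup G} (hK : K < ⊤) :
    Nat.card K < Nat.card G := by
  have h1 : Nat.card K * K.index = Nat.card G := K.card_mul_index
  have h2 : K.index ≠ 1 := fun h => hK.ne (Subgroup.index_eq_one.1 h)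
  have h3 : K.index ≠ 0 := Subgroup.index_ne_zero_of_finite
  have h4 : 0 < Nat.card K := Nat.card_pos
  have h5 : 2 ≤ K.index := by omega
  nlinarith

/-- every nontrivial normal subgroup of a finite group contains a minimal normal subgroup -/
theorem exists_isMinNormal_le {G : Type*} [Group G] [Finite G] (A : Subgroup G) (hA : A.Normal)
    (hne : A ≠ ⊥) : ∃ M : Subgroup G, IsMinNormal M ∧ M ≤ A := by
  classical
  set S : Set (Subgroup G) := {B | B.Normal ∧ B ≤ A ∧ B ≠ ⊥} with hS
  have hSne : S.Nonempty := ⟨A, hA, le_rfl, hne⟩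
  obtain ⟨M, hM⟩ := (Set.toFinite S).exists_minimal hSne
  have hMS : M ∈ S := hM.prop
  refine ⟨M, ⟨hMS.1, hMS.2.2, ?_⟩, hMS.2.1⟩
  intro B hBn hBM hB
  have hBS : B ∈ S := ⟨hBn, hBM.trans hMS.2.1, hB⟩
  exact le_antisymm hBM (hM.le_of_le hBS hBM)

theorem IsMinNormal.map_equiv {G G' : Type*} [Group G] [Group G'] {A : Subgroup G}
    (hA : IsMinNormal A) (e : G ≃* G') : IsMinNormal (A.map e.toMonoidHom) := by
  obtain ⟨hn, hne, hmin⟩ := hA
  refine ⟨hn.map _ e.surjective, ?_, ?_⟩
  · rw [Ne, Subgroup.map_eq_bot_iff_of_injective _ e.injective]; exact hne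
  · intro B hBn hBA hB
    have h1 : B.comap e.toMonoidHom = A := by
      apply hmin
      · exact hBn.comap _
      · have := Subgroup.comap_mono (f := e.toMonoidHom) hBA
        rwa [Subgroup.comap_map_eq_self_of_injective e.injective] at this
      · intro h
        apply hB
        have := congrArg (Subgroup.map e.toMonoidHom) h
        rwa [Subgroup.map_comap_eq_self_of_surjective e.surjective, Subgroup.map_bot] at this
    rw [← h1, Subgroup.map_comap_eq_self_of_surjective e.surjective]

/-- **Wielandt**: a minimal normal subgroup of a finite group normalizes every subnormal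
subgroup. -/
theorem wielandt_aux (n : ℕ) : ∀ (G : Type u) [Group G] [Finite G], Nat.card G ≤ n →
    ∀ (H A : Subgroup G), H.IsSubnormal → IsMinNormal A → A ≤ Subgroup.normalizer (H : Set G) := by
  induction n with
  | zero =>
    intro G _ _ hcard
    have : 0 < Nat.card G := Nat.card_pos
    omega
  | succ n ih =>
    intro G _ _ hcard H A hH hA
    classical
    by_cases hHtop : H = ⊤
    · subst hHtop
      intro x _
      rw [Subgroup.mem_normalizer_iff]
      intro h; simp
    obtain ⟨K, hKn, hHK, hKtop⟩ := hH.exists_normal_and_le_and_lt_top_of_ne hHtop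
    obtain ⟨hAn, hAne, hAmin⟩ := hA
    haveI := hKn
    haveI := hAn
    by_cases hAK : A ⊓ K = ⊥
    · -- A centralizes K
      have h1 : ⁅A, K⁆ = ⊥ := by
        rw [eq_bot_iff, ← hAK]
        exact Subgroup.commutator_le_inf A K
      have h2 : A ≤ Subgroup.centralizer (K : Set G) :=
        Subgroup.commutator_eq_bot_iff_le_centralizer.1 h1
      have h3 : Subgroup.centralizer (K : Set G) ≤ Subgroup.centralizer (H : Set G) :=
        Subgroup.centralizer_le (by exact_mod_cast hHK)
      exact h2.trans (h3.trans (Subgroup.centralizer_le_normalizer _))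
    · -- A ≤ K
      have hAleK : A ≤ K := by
        have : A ⊓ K = A := hAmin (A ⊓ K) inferInstance inf_le_left hAK
        rw [← this]; exact inf_le_right
      have hcardK : Nat.card K ≤ n := by
        have := card_lt_of_lt_top hKtop
        omega
      have hH' : (H.subgroupOf K).IsSubnormal := hH.subgroupOf
      have hA'n : (A.subgroupOf K).Normal := hAn.subgroupOf K
      have hA'ne : A.subgroupOf K ≠ ⊥ := by
        intro h
        apply hAne
        have := congrArg (Subgroup.map K.subtype) h
        rwa [Subgroup.map_subgroupOf_eq_of_le hAleK, Subgroup.map_bot] at this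
      obtain ⟨M₁, hM₁, hM₁A⟩ := exists_isMinNormal_le (A.subgroupOf K) hA'n hA'ne
      -- conjugates of M₁
      let Mg : G → Subgroup K := fun g => M₁.map (MulAut.conjNormal g : MulAut K).toMonoidHom
      have hMg : ∀ g, IsMinNormal (Mg g) := fun g => hM₁.map_equiv _
      have hMgN : ∀ g, Mg g ≤ Subgroup.normalizer ((H.subgroupOf K : Subgroup K) : Set K) :=
        fun g => ih K hcardK _ _ hH' (hMg g)
      set B : Subgroup G := ⨆ g : G, (Mg g).map K.subtype with hB
      have hmemMg : ∀ g (x : G), x ∈ (Mg g).map K.subtype ↔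
          ∃ m : K, m ∈ M₁ ∧ x = g * (m : G) * g⁻¹ := by
        intro g x
        constructor
        · rintro ⟨k, ⟨m, hm, rfl⟩, rfl⟩
          exact ⟨m, hm, by simp [MulAut.conjNormal_apply]⟩
        · rintro ⟨m, hm, rfl⟩
          refine ⟨(MulAut.conjNormal g : MulAut K) m, ⟨m, hm, rfl⟩, by simp [MulAut.conjNormal_apply]⟩
      have hBN : B ≤ Subgroup.normalizer (H : Set G) := by
        apply iSup_le
        intro g
        have h1 := Subgroup.map_mono (f := K.subtype) (hMgN g)
        have h2 := Subgroup.le_normalizer_map (H := H.subgroupOf K) K.subtype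
        rw [Subgroup.map_subgroupOf_eq_of_le hHK] at h2
        exact h1.trans h2
      have hBA : B ≤ A := by
        apply iSup_le
        intro g x hx
        obtain ⟨m, hm, rfl⟩ := (hmemMg g x).1 hx
        have : (m : G) ∈ A := by
          have := hM₁A hm
          rwa [Subgroup.mem_subgroupOf] at this
        exact hAn.conj_mem _ this g
      have hBne : B ≠ ⊥ := by
        intro h
        have h1 : (Mg 1).map K.subtype ≤ B := le_iSup (fun g => (Mg g).map K.subtype) 1
        rw [h, le_bot_iff, Subgroup.map_eq_bot_iff_of_injective _ K.subtype_injective] at h1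
        exact (hMg 1).2.1 h1
      have hBn : B.Normal := by
        constructor
        intro x hx h
        have h1 : h * x * h⁻¹ ∈ B.map (MulAut.conj h).toMonoidHom := ⟨x, hx, rfl⟩
        have h2 : B.map (MulAut.conj h).toMonoidHom ≤ B := by
          rw [hB, Subgroup.map_iSup]
          apply iSup_le
          intro g
          refine le_trans ?_ (le_iSup (fun g => (Mg g).map K.subtype) (h * g))
          rintro _ ⟨y, hy, rfl⟩
          obtain ⟨m, hm, rfl⟩ := (hmemMg g y).1 hy
          rw [hmemMg]
          refine ⟨m, hm, ?_⟩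
          simp only [MulEquiv.coe_toMonoidHom, MulAut.conj_apply]
          group
        exact h2 h1
      have hBeq : B = A := hAmin B hBn hBA hBne
      rw [← hBeq]; exact hBN

/-- **Wielandt**: a minimal normal subgroup of a finite group normalizes every subnormal
subgroup. -/
theorem wielandt {G : Type u} [Group G] [Finite G] {H A : Subgroup G} (hH : H.IsSubnormal)
    (hA : IsMinNormal A) : A ≤ Subgroup.normalizer (H : Set G) :=
  wielandt_aux (Nat.card G) G le_rfl H A hH hA

end Cfsg.Agent.Lib.Helper63
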