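import Mathlib
import Cfsg.Agent.Lib.Helper63.PLength
import Cfsg.Agent.Lib.Helper63.Wielandt

set_option autoImplicit false

namespace Cfsg.Agent.Lib.Helper63

open Cfsg

universe u

variable {G : Type*} [Group G]

/-- Iterated commutator series of a subgroup, computed in the ambient group. -/
def dsub (K : Subgroup G) : ℕ → Subgroup G
  | 0 => K
  | n + 1 => ⁅dsub K n, dsub K n⁆

theorem dsub_zero (K : Subgroup G) : dsub K 0 = K := rfl

theorem dsub_succ (K : Subgroup G) (n : ℕ) : dsub K (n + 1) = ⁅dsub K n, dsub K n⁆ := rfl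

theorem dsub_mono {K L : Subgroup G} (h : K ≤ L) (n : ℕ) : dsub K n ≤ dsub L n := by
  induction n with
  | zero => exact h
  | succ n ih => rw [dsub_succ, dsub_succ]; exact Subgroup.commutator_mono ih ih

theorem dsub_bot (n : ℕ) : dsub (⊥ : Subgroup G) n = ⊥ := by
  induction n with
  | zero => rfl
  | succ n ih => rw [dsub_succ, ih]; exact Subgroup.commutator_bot_left _

theorem derivedSeries_add (a b : ℕ) : derivedSeries G (a + b) = dsub (derivedSeries G a) b := by
  induction b with
  | zero => rfl
  | succ b ih => rw [← add_assoc, derivedSeries_succ, dsub_succ, ih]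

theorem dsub_map {G' : Type*} [Group G'] (f : G →* G') (K : Subgroup G) (n : ℕ) :
    (dsub K n).map f = dsub (K.map f) n := by
  induction n with
  | zero => rfl
  | succ n ih => rw [dsub_succ, dsub_succ, Subgroup.map_commutator, ih]

theorem dsub_eq_map_derivedSeries (K : Subgroup G) (n : ℕ) :
    dsub K n = (derivedSeries K n).map K.subtype := by
  induction n with
  | zero =>
    rw [dsub_zero, derivedSeries_zero, ← MonoidHom.range_eq_map, Subgroup.range_subtype]
  | succ n ih => rw [dsub_succ, derivedSeries_succ, Subgroup.map_commutator, ih]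

/-- A Sylow `p`-subgroup of the preimage of a `p`-subgroup maps onto it. -/
theorem map_sylow_comap_eq' {G' : Type*} [Group G'] [Finite G] (p : ℕ) [Fact p.Prime] {f : G →* G'}
    (hf : Function.Surjective f)
    (Q' : Subgroup G') (hQ' : IsPGroup p Q') (P : Sylow p (Q'.comap f)) :
    ((P : Subgroup (Q'.comap f)).map (Q'.comap f).subtype).map f = Q' := by
  have hg : Function.Surjective (f.subgroupComap Q') :=
    f.subgroupComap_surjective_of_surjective Q' hf
  have htop : (⊤ : Subgroup Q') = (P.mapSurjective hg : Subgroup Q') :=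
    (P.mapSurjective hg).3 (hQ'.to_subgroup ⊤) le_top
  apply le_antisymm
  · rintro _ ⟨x, ⟨y, _, rfl⟩, rfl⟩
    exact y.2
  · intro x hx
    have : (⟨x, hx⟩ : Q') ∈ (P.mapSurjective hg : Subgroup Q') := by
      rw [← htop]; exact Subgroup.mem_top _
    rw [Sylow.coe_mapSurjective] at this
    obtain ⟨y, hy, hyx⟩ := this
    refine ⟨y, ⟨y, hy, rfl⟩, ?_⟩
    exact congrArg Subtype.val hyx

/-- Every `p`-subgroup of the image of a surjective hom from a finite group is the image of a
`p`-subgroup. -/
theorem exists_pgroup_map_eq' {G' : Type*} [Group G'] [Finite G] (p : ℕ) [Fact p.Prime] {f : G →* G'}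
    (hf : Function.Surjective f)
    (Q' : Subgroup G') (hQ' : IsPGroup p Q') :
    ∃ Q : Subgroup G, IsPGroup p Q ∧ Q.map f = Q' := by
  let P : Sylow p (Q'.comap f) := default
  exact ⟨_, P.2.map _, map_sylow_comap_eq' p hf Q' hQ' P⟩

theorem le_pPrimeCore_of_pPrimeFac_bot [Finite G] {p : ℕ} [Fact p.Prime] {K : Subgroup G}
    (hK : K.Normal) (h : PPrimeFac p ⊥ K) : K ≤ pPrimeCore p G := by
  have hc : (Nat.card K).Coprime p := by
    apply card_coprime_of_forall
    rintro ⟨x, hx⟩
    obtain ⟨n, hn, hxn⟩ := h x hx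
    refine ⟨n, hn, ?_⟩
    apply Subtype.ext
    simpa using hxn
  exact le_sSup (show K ∈ {N : Subgroup G | N.Normal ∧ (Nat.card N).Coprime p} from ⟨hK, hc⟩)

theorem le_pCore_of_pFac_bot {p : ℕ} {K : Subgroup G}
    (hK : K.Normal) (h : PFac p ⊥ K) : K ≤ pCore p G := by
  have hc : IsPGroup p K := by
    rintro ⟨x, hx⟩
    obtain ⟨m, hxm⟩ := h x hx
    refine ⟨m, ?_⟩
    apply Subtype.ext
    simpa using hxm
  exact le_sSup (show K ∈ {N : Subgroup G | N.Normal ∧ IsPGroup p N} from ⟨hK, hc⟩)

theorem card_quotient_lt [Finite G] {K : Subgroup G} [K.Normal] (hK : K ≠ ⊥) :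
    Nat.card (G ⧸ K) < Nat.card G := by
  have h1 : Nat.card G = Nat.card (G ⧸ K) * Nat.card K := Subgroup.card_eq_card_quotient_mul_card_subgroup K
  have h2 : Nat.card K ≠ 1 := fun h => hK (Subgroup.card_eq_one.1 h)
  have h3 : 0 < Nat.card K := Nat.card_pos
  have h4 : 0 < Nat.card (G ⧸ K) := Nat.card_pos
  have h5 : 2 ≤ Nat.card K := by omega
  nlinarith

/-- Hall–Higman type bound on the derived length. -/
theorem dl_aux (n : ℕ) : ∀ (G : Type u) [Group G] [Finite G], Nat.card G ≤ n →
    ∀ (d l : ℕ → ℕ),
    (∀ s : ℕ, s.Prime → s ∣ Nat.card G → ∀ Q : Subgroup G, IsPGroup s Q → dsub Q (d s) = ⊥) →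
    (∀ s : ℕ, s.Prime → s ∣ Nat.card G → PLengthLE s (l s) G) →
    ∀ T : Finset ℕ, (∀ s : ℕ, s.Prime → s ∣ Nat.card G → s ∈ T) →
    derivedSeries G (∑ s ∈ T, d s * l s) = ⊥ := by
  induction n with
  | zero =>
    intro G _ _ hcard
    have : 0 < Nat.card G := Nat.card_pos
    omega
  | succ n ih =>
    intro G _ _ hcard d l hd hl T hT
    classical
    by_contra hX
    -- quotient lemma
    have hquot : ∀ K : Subgroup G, K.Normal → K ≠ ⊥ → ∀ l' : ℕ → ℕ,
        (∀ s : ℕ, s.Prime → s ∣ Nat.card G → ∀ [K.Normal], PLengthLE s (l' s) (G ⧸ K)) →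
        derivedSeries G (∑ s ∈ T, d s * l' s) ≤ K := by
      intro K hKn hK l' hl'
      haveI := hKn
      have hlt : Nat.card (G ⧸ K) ≤ n := by
        have := card_quotient_lt hK
        omega
      have hdvd : Nat.card (G ⧸ K) ∣ Nat.card G := Subgroup.card_quotient_dvd_card K
      have hsurj : Function.Surjective (QuotientGroup.mk' K) := QuotientGroup.mk'_surjective K
      have h1 := ih (G ⧸ K) hlt d l' ?_ ?_ T ?_
      · have h2 := map_derivedSeries_eq (f := QuotientGroup.mk' K) hsurj (∑ s ∈ T, d s * l' s)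
        rw [h1, Subgroup.map_eq_bot_iff, QuotientGroup.ker_mk'] at h2
        exact h2
      · intro s hs hsd Qb hQb
        haveI : Fact s.Prime := ⟨hs⟩
        obtain ⟨Q, hQ, hQmap⟩ := exists_pgroup_map_eq' s hsurj Qb hQb
        rw [← hQmap, ← dsub_map, hd s hs (hsd.trans hdvd) Q hQ, Subgroup.map_bot]
      · intro s hs hsd
        exact hl' s hs (hsd.trans hdvd)
      · intro s hs hsd
        exact hT s hs (hsd.trans hdvd)
    set D := ∑ s ∈ T, d s * l s with hD
    set X := derivedSeries G D with hXdef
    have hXn : X.Normal := derivedSeries_normal G D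
    -- step 1
    have hstep1 : ∀ N : Subgroup G, IsMinNormal N → X ≤ N := by
      intro N hN
      apply hquot N hN.1 hN.2.1 l
      intro s hs hsd _
      haveI : Fact s.Prime := ⟨hs⟩
      exact pLengthLE_quotient (hl s hs hsd) N
    obtain ⟨N, hN, hNX⟩ := exists_isMinNormal_le X hXn hX
    have hXN : X ≤ N := hstep1 N hN
    -- step 3: a prime dividing |N|
    have hNcard : Nat.card N ≠ 1 := fun h => hN.2.1 (Subgroup.card_eq_one.1 h)
    obtain ⟨p, hp, hpN⟩ := Nat.exists_prime_and_dvd hNcard
    haveI : Fact p.Prime := ⟨hp⟩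
    have hpG : p ∣ Nat.card G := hpN.trans (Subgroup.card_subgroup_dvd_card N)
    -- step 4
    have hOp' : pPrimeCore p G = ⊥ := by
      by_contra hne
      obtain ⟨N', hN', hN'le⟩ := exists_isMinNormal_le (pPrimeCore p G) inferInstance hne
      have h1 : N ≤ pPrimeCore p G := (hNX.trans (hstep1 N' hN')).trans hN'le
      have h2 : p ∣ Nat.card (pPrimeCore p G) := hpN.trans (Subgroup.card_dvd_of_le h1)
      have h3 := pPrimeCore_card_coprime' (G := G) p
      have h4 : p ∣ Nat.gcd (Nat.card (pPrimeCore p G)) p := Nat.dvd_gcd h2 dvd_rfl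
      rw [h3] at h4
      exact hp.one_lt.ne' (Nat.dvd_one.1 h4)
    -- step 5
    have hs := isPSeries_ups (G := G) p
    have hUn : ∀ i, ((upperPSeries p G i).1).Normal := fun i => (upperPSeries p G i).2
    have hU1 : (upperPSeries p G 1).1 = ⊥ := by
      rw [eq_bot_iff, ← hOp']
      apply le_pPrimeCore_of_pPrimeFac_bot (hUn 1)
      have := hs.2.2.1 0 (by decide)
      simpa [ups_zero] using this
    have hU2 : (upperPSeries p G 2).1 ≤ pCore p G := by
      apply le_pCore_of_pFac_bot (hUn 2)
      have := hs.2.2.2 1 (by decide)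
      simp only at this
      rwa [hU1] at this
    have hltop : (upperPSeries p G (2 * l p + 1)).1 = ⊤ := hl p hp hpG
    have hGnt : (⊤ : Subgroup G) ≠ ⊥ := by
      intro h
      apply hX
      rw [eq_bot_iff, ← h]; exact le_top
    -- step 6
    have hP0 : pCore p G ≠ ⊥ := by
      intro hP0
      have hall : ∀ i, (upperPSeries p G i).1 = ⊥ := by
        intro i
        induction i with
        | zero => rfl
        | succ i ihi =>
          by_cases he : Even i
          · rw [eq_bot_iff, ← hOp']
            apply le_pPrimeCore_of_pPrimeFac_bot (hUn (i+1))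
            have := hs.2.2.1 i he
            simp only at this
            rwa [ihi] at this
          · rw [eq_bot_iff, ← hP0]
            apply le_pCore_of_pFac_bot (hUn (i+1))
            have := hs.2.2.2 i he
            simp only at this
            rwa [ihi] at this
      rw [hall] at hltop
      exact hGnt hltop.symm
    -- step 7
    have hlp : 1 ≤ l p := by
      by_contra h0
      have : l p = 0 := by omega
      rw [this] at hltop
      simp only [Nat.mul_zero, Nat.zero_add] at hltop
      rw [hU1] at hltop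
      exact hGnt hltop.symm
    -- step 8
    have hsurj : Function.Surjective (QuotientGroup.mk' (pCore p G)) := QuotientGroup.mk'_surjective _
    have hstep8 : PLengthLE p (l p - 1) (G ⧸ pCore p G) := by
      apply pLengthLE_iff.2
      refine ⟨fun i => ((upperPSeries p G (i + 2)).1).map (QuotientGroup.mk' (pCore p G)),
        ⟨?_, ?_, ?_, ?_⟩, ?_⟩
      · simp only [Nat.zero_add]
        rw [Subgroup.map_eq_bot_iff, QuotientGroup.ker_mk']
        exact hU2
      · intro i
        exact (hUn (i+2)).map _ hsurj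
      · rintro i he _ ⟨x, hx, rfl⟩
        have he2 : Even (i + 2) := by
          rcases he with ⟨r, hr⟩; exact ⟨r + 1, by omega⟩
        obtain ⟨m, hm, hxm⟩ := hs.2.2.1 (i + 2) he2 x hx
        exact ⟨m, hm, by rw [← map_pow]; exact Subgroup.mem_map_of_mem _ hxm⟩
      · rintro i ho _ ⟨x, hx, rfl⟩
        have ho2 : ¬ Even (i + 2) := by
          intro he; apply ho
          rcases he with ⟨r, hr⟩; exact ⟨r - 1, by omega⟩
        obtain ⟨m, hxm⟩ := hs.2.2.2 (i + 2) ho2 x hx
        exact ⟨m, by rw [← map_pow]; exact Subgroup.mem_map_of_mem _ hxm⟩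
      · have e : 2 * (l p - 1) + 1 + 2 = 2 * l p + 1 := by omega
        simp only [e, hltop]
        exact Subgroup.map_top_of_surjective _ hsurj
    -- step 9
    have hstep9 := hquot (pCore p G) inferInstance hP0 (Function.update l p (l p - 1)) (by
      intro s hs hsd _
      haveI : Fact s.Prime := ⟨hs⟩
      by_cases hsp : s = p
      · subst hsp
        rw [Function.update_self]
        exact hstep8
      · rw [Function.update_of_ne hsp]
        exact pLengthLE_quotient (hl s hs hsd) _)
    -- step 10
    have hpT : p ∈ T := hT p hp hpG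
    have hsum : D = (∑ s ∈ T, d s * (Function.update l p (l p - 1)) s) + d p := by
      rw [hD, ← Finset.add_sum_erase T _ hpT, ← Finset.add_sum_erase T (fun s => d s * (Function.update l p (l p - 1)) s) hpT]
      have h1 : ∑ s ∈ T.erase p, d s * (Function.update l p (l p - 1)) s = ∑ s ∈ T.erase p, d s * l s := by
        apply Finset.sum_congr rfl
        intro s hs
        rw [Function.update_of_ne (Finset.ne_of_mem_erase hs)]
      rw [h1]
      simp only [Function.update_self]
      have : d p * l p = d p * (l p - 1) + d p := by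
        obtain ⟨r, hr⟩ := Nat.exists_eq_add_of_le hlp
        rw [hr]; simp; ring
      rw [this]; ring
    -- step 11
    apply hX
    rw [hXdef, hsum, derivedSeries_add, eq_bot_iff]
    calc dsub (derivedSeries G (∑ s ∈ T, d s * (Function.update l p (l p - 1)) s)) (d p)
        ≤ dsub (pCore p G) (d p) := dsub_mono hstep9 _
      _ = ⊥ := hd p hp hpG _ (pCore_isPGroup' p G)

end Cfsg.Agent.Lib.Helper63
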