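import Mathlib
import Cfsg.Prelude.Def_Local
import Cfsg.Agent.Lib.Helper76.PSolvable
import Cfsg.Agent.Lib.Helper55.Cores
import Cfsg.Agent.Lib.Helper55.SolvCore

/-!
# The dual of Hall–Higman 1.2.3

In a finite `p`-solvable group with `O_p(G) = 1`, `C_G(O_{p'}(G)) ≤ O_{p'}(G)`.
-/

set_option autoImplicit false

namespace Cfsg.Agent.Lib.Helper63.HH

open Cfsg Cfsg.Agent.Lib.Helper76 Cfsg.Agent.Lib.Helper55

variable {G : Type*} [Group G]

/-- One step of the proof of the dual of Hall–Higman 1.2.3. -/
theorem dual_step [Finite G] {p : ℕ} [hp : Fact p.Prime] (hO : pCore p G = ⊥)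
    {A B : Subgroup G} [hAn : A.Normal] [hBn : B.Normal] (hAB : A ≤ B)
    (hf : PFactor p (A.relIndex B))
    (hA : A ⊓ Subgroup.centralizer (pPrimeCore p G : Set G) ≤ pPrimeCore p G) :
    B ⊓ Subgroup.centralizer (pPrimeCore p G : Set G) ≤ pPrimeCore p G := by
  have hQn : (pPrimeCore p G).Normal := pPrimeCore_normal' p
  set Q := pPrimeCore p G with hQ
  set C := Subgroup.centralizer (Q : Set G) with hC
  have hCn : C.Normal := Subgroup.normal_centralizer
  set D := B ⊓ C with hD
  set Z := A ⊓ C with hZ
  have hDn : D.Normal := Subgroup.normal_inf_normal B C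
  have hZn : Z.Normal := Subgroup.normal_inf_normal A C
  have hZD : Z ≤ D := inf_le_inf_right C hAB
  have hQcop : (Nat.card Q).Coprime p := pPrimeCore_card_coprime p
  have hZcop : (Nat.card Z).Coprime p :=
    Nat.Coprime.coprime_dvd_left (Subgroup.card_dvd_of_le hA) hQcop
  have hfac : PFactor p (Z.relIndex D) := hf.of_dvd (relIndex_inf_dvd A B C)
  have hcard : Nat.card Z * Z.relIndex D = Nat.card D := card_mul_relIndex_eq hZD
  rcases hfac with ⟨m, hm⟩ | hcop
  · -- `D = Z × S` with `S` a normal Sylow `p`-subgroup; then `S ≤ O_p(G) = 1`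
    obtain ⟨S⟩ : Nonempty (Sylow p D) := inferInstance
    have hZ'c : Nat.card (Z.subgroupOf D) = Nat.card Z :=
      Nat.card_congr (Subgroup.subgroupOfEquivOfLe hZD).toEquiv
    have hScard : Nat.card (S : Subgroup D) = p ^ m := by
      rw [Sylow.card_eq_multiplicity, ← hcard, hm]
      congr 1
      rw [Nat.factorization_mul (Nat.card_pos.ne') (pow_ne_zero _ hp.out.ne_zero)]
      simp only [Finsupp.coe_add, Pi.add_apply]
      rw [Nat.factorization_eq_zero_of_not_dvd
        ((Nat.Prime.coprime_iff_not_dvd hp.out).1 hZcop.symm), zero_add,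
        hp.out.factorization_pow, Finsupp.single_eq_same]
    -- `Z' ⊔ S = ⊤`
    have hsup : Z.subgroupOf D ⊔ (S : Subgroup D) = ⊤ := by
      apply (Subgroup.card_eq_iff_eq_top _).1
      apply Nat.dvd_antisymm (Subgroup.card_subgroup_dvd_card _)
      have h1 : Nat.card (Z.subgroupOf D) ∣ Nat.card ↥(Z.subgroupOf D ⊔ (S : Subgroup D)) :=
        Subgroup.card_dvd_of_le le_sup_left
      have h2 : Nat.card (S : Subgroup D) ∣ Nat.card ↥(Z.subgroupOf D ⊔ (S : Subgroup D)) :=
        Subgroup.card_dvd_of_le le_sup_right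
      have hcop' : (Nat.card (Z.subgroupOf D)).Coprime (Nat.card (S : Subgroup D)) := by
        rw [hZ'c, hScard]
        exact Nat.Coprime.pow_right m hZcop
      have := hcop'.mul_dvd_of_dvd_of_dvd h1 h2
      rwa [hZ'c, hScard, ← hm, hcard] at this
    -- `Z'` is central in `D`
    have hcen : Z.subgroupOf D ≤ Subgroup.center D := by
      intro z hz
      rw [Subgroup.mem_subgroupOf] at hz
      rw [Subgroup.mem_center_iff]
      intro d
      have hd : (d : G) ∈ C := d.2.2
      have hzQ : (z : G) ∈ Q := hA hz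
      have := (Subgroup.mem_centralizer_iff.1 hd) (z : G) hzQ
      apply Subtype.ext
      simp only [Subgroup.coe_mul]
      exact this.symm
    have hSn : (S : Subgroup D).Normal := by
      rw [← Subgroup.normalizer_eq_top_iff, eq_top_iff, ← hsup]
      exact sup_le (hcen.trans (Subgroup.center_le_normalizer _)) Subgroup.le_normalizer
    have hSchar : (S : Subgroup D).Characteristic := Sylow.characteristic_of_normal S hSn
    have hS'n : ((S : Subgroup D).map D.subtype).Normal :=
      ConjAct.normal_of_characteristic_of_normal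
    have hS'p : IsPGroup p ((S : Subgroup D).map D.subtype) := S.2.map D.subtype
    have hS'bot : (S : Subgroup D).map D.subtype = ⊥ := by
      have := le_pCore p _ hS'p
      rw [hO] at this
      exact le_bot_iff.mp this
    have hS1 : Nat.card (S : Subgroup D) = 1 := by
      have h1 : Nat.card ((S : Subgroup D).map D.subtype) = Nat.card (S : Subgroup D) :=
        Subgroup.card_map_of_injective D.subtype_injective
      rw [← h1, hS'bot]
      exact Subgroup.card_bot
    have hDZ : D ≤ Z := by
      have h1 : Nat.card Z = Nat.card D := by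
        rw [← hcard, hm, ← hScard, hS1, mul_one]
      have := Subgroup.eq_of_le_of_card_ge hZD (le_of_eq h1.symm)
      rw [this]
    exact hDZ.trans hA
  · -- `D` is a normal `p'`-subgroup
    have : (Nat.card D).Coprime p := by
      rw [← hcard]
      exact Nat.Coprime.mul_left hZcop hcop
    exact le_pPrimeCore p D this

/-- **Dual of Hall–Higman 1.2.3**: in a finite `p`-solvable group with `O_p(G) = 1`,
`C_G(O_{p'}(G)) ≤ O_{p'}(G)`. -/
theorem centralizer_pPrimeCore_le [Finite G] {p : ℕ} [Fact p.Prime]
    (h : IsPSolvable p G) (hO : pCore p G = ⊥) :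
    Subgroup.centralizer (pPrimeCore p G : Set G) ≤ pPrimeCore p G := by
  obtain ⟨n, H, h0, hl, hmono, hnorm, hfac⟩ := isPSolvable_iff.1 h
  have key : ∀ i : Fin (n + 1),
      H i ⊓ Subgroup.centralizer (pPrimeCore p G : Set G) ≤ pPrimeCore p G := by
    intro i
    induction i using Fin.induction with
    | zero => rw [h0, bot_inf_eq]; exact bot_le
    | succ i ih =>
      have := hnorm i.castSucc
      have := hnorm i.succ
      exact dual_step hO (hmono (Fin.castSucc_le_succ i)) (hfac i) ih
  have := key (Fin.last n)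
  rwa [hl, top_inf_eq] at this

end Cfsg.Agent.Lib.Helper63.HH
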