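import Cfsg.Agent.Lib.Helper63.BG14a
import Cfsg.Agent.Lib.Helper19.BG124a
import Cfsg.Agent.Lib.Helper47.BG11e
import Cfsg.Agent.S1417

set_option autoImplicit false
set_option linter.style.haveILetI false
set_option linter.unusedSectionVars false

/-!
# Bender–Glauberman §14, Lemma 14.4 (c): the case `C_G(x) ≰ M`

* `fittingHallOf_eq_sigmaCore`: `M_F = M_σ` when `M_σ` is nilpotent.
* `mem_of_coprime_relIndex`: an element of order prime to the index of a normal subgroup lies in it.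
* `core1375`: the unique maximal subgroup over `C_G(x)`.
* `s1375_of`: the conclusion of S1375, from `SigmaDisj G` and the statement of S1432.
-/

namespace Cfsg.Agent.Lib.Helper63.BG14

open Subgroup Cfsg Cfsg.Agent.Lib.Helper33 Cfsg.Agent.Lib.Helper63
open Cfsg.Agent.Lib.Helper32.BG142 (SigmaDisj)

universe u

variable {G : Type u} [Group G] [Finite G]

/-- `M_F = M_σ` when `M_σ` is nilpotent. -/
theorem fittingHallOf_eq_sigmaCore (hG : IsMinSimpleOddOrder G) {N : Subgroup G} (hN : IsCoatom N)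
    (hnil : Group.IsNilpotent ↥(sigmaCore N)) : fittingHallOf N = sigmaCore N := by
  have hσ := Cfsg.Agent.Lib.Helper47.BG11.sigmaHallIn_of_coatom hG hN
  unfold fittingHallOf sigmaCore
  congr 1
  apply le_antisymm
  · unfold fittingHall
    apply sSup_le
    rintro K ⟨hKn, hKnil, hKcop⟩
    unfold piCore
    apply le_sSup
    refine ⟨hKn, ?_⟩
    intro p hp hpK
    haveI : Fact p.Prime := ⟨hp⟩
    obtain ⟨P⟩ : Nonempty (Sylow p K) := inferInstance
    haveI hPn : (P : Subgroup K).Normal :=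
      Sylow.normal_of_normalizerCondition Group.normalizerCondition_of_isNilpotent P
    haveI hPc : (P : Subgroup K).Characteristic := Sylow.characteristic_of_normal P hPn
    have hQn : ((P : Subgroup K).map K.subtype).Normal := inferInstance
    have hQp : IsPGroup p ((P : Subgroup K).map K.subtype) := P.isPGroup'.map _
    have hQidx : ¬ p ∣ ((P : Subgroup K).map K.subtype).index := by
      rw [Subgroup.index_map_subtype]
      intro h
      rcases (Nat.Prime.dvd_mul hp).mp h with h | h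
      · exact P.not_dvd_index h
      · have hc : Nat.Coprime p K.index :=
          Nat.Coprime.coprime_dvd_left hpK hKcop
        exact (Nat.Prime.coprime_iff_not_dvd hp).mp hc h
    have hP1 : (P : Subgroup K) ≠ ⊥ := P.ne_bot_of_dvd_card hpK
    have hQ1 : ((P : Subgroup K).map K.subtype).map N.subtype ≠ ⊥ := by
      intro h
      rw [Subgroup.map_eq_bot_iff_of_injective _ N.subtype_injective,
        Subgroup.map_eq_bot_iff_of_injective _ K.subtype_injective] at h
      exact hP1 h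
    have hri : ¬ p ∣ (((P : Subgroup K).map K.subtype).map N.subtype).relIndex N := by
      rw [relIndex, subgroupOf, comap_map_eq_self_of_injective N.subtype_injective]
      exact hQidx
    exact Cfsg.Agent.Lib.Helper19.BG124.mem_sigma_of_normal_sylow hG hN (hQp.map _) hQ1
      (map_subtype_le _) hri
      (Cfsg.Agent.Lib.Helper23.le_normalizer_map_subtype_of_normal N _)
  · unfold fittingHall
    apply le_sSup
    refine ⟨inferInstance, ?_, ?_⟩
    · have e : ↥(piCore (sigma N) ↥N) ≃* ↥(sigmaCore N) :=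
        (piCore (sigma N) ↥N).equivMapOfInjective N.subtype N.subtype_injective
      haveI := hnil
      exact Group.nilpotent_of_mulEquiv e.symm
    · apply Nat.coprime_of_dvd
      intro k hk hk1 hk2
      have hc : Nat.card ↥(piCore (sigma N) ↥N) = Nat.card ↥(sigmaCore N) := by
        unfold sigmaCore
        exact (card_map_of_injective N.subtype_injective).symm
      have hkσ : k ∈ sigma N := hσ.2.1 k hk (hc ▸ hk1)
      exact Cfsg.Agent.Lib.Helper47.BG11.not_dvd_index_piCore_sigma hσ hk hkσ hk2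

/-- an element of `H` whose order is prime to the index in `H` of a subgroup `A` normal in `H`
lies in `A`. -/
theorem mem_of_coprime_relIndex {A H : Subgroup G} (hAH : A ≤ H)
    (hn : H ≤ normalizer (A : Set G)) {x : G} (hx : x ∈ H)
    (hc : (orderOf x).Coprime (A.relIndex H)) : x ∈ A := by
  haveI : (A.subgroupOf H).Normal := (normal_subgroupOf_iff_le_normalizer hAH).mpr hn
  have h1 : (⟨x, hx⟩ : H) ^ (A.subgroupOf H).index ∈ A.subgroupOf H :=
    Subgroup.pow_index_mem _ _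
  have ho : orderOf (⟨x, hx⟩ : H) = orderOf x := by
    rw [← Subgroup.orderOf_coe]
  have hc' : ((A.subgroupOf H).index).Coprime (orderOf (⟨x, hx⟩ : H)) := by
    rw [ho]; exact hc.symm
  obtain ⟨m, hm⟩ := exists_pow_eq_self_of_coprime hc'
  have h2 : (⟨x, hx⟩ : H) ∈ A.subgroupOf H := by
    rw [← hm]; exact Subgroup.pow_mem _ h1 m
  exact mem_subgroupOf.mp h2

/-- an element normalizing `A` and `B` normalizes `A ⊔ B`. -/
theorem mem_normalizer_sup {A B : Subgroup G} {g : G} (hA : g ∈ normalizer (A : Set G))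
    (hB : g ∈ normalizer (B : Set G)) : g ∈ normalizer ((A ⊔ B : Subgroup G) : Set G) := by
  rw [← cj_eq_self_iff, cj_sup, cj_eq_self_iff.mpr hA, cj_eq_self_iff.mpr hB]

/-- `κ(N)` and `τ₂(N)` are disjoint. -/
theorem not_kappa_of_tau2 {N : Subgroup G} {p : ℕ} (h2 : p ∈ tau2 N) : p ∉ kappa N := by
  intro hk
  obtain ⟨hp, _, _, hcyc⟩ := hk
  haveI : Fact p.Prime := ⟨hp⟩
  obtain ⟨P⟩ : Nonempty (Sylow p ↥N) := inferInstance
  haveI := (hcyc P).1
  exact h2.2.2.2 (BG10.pRankLE_of_sylow p P (BG13.pRankLE_one_of_isCyclic hp inferInstance))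

/-- the statement of S1432 (BG 14.3) as a `Prop`. -/
def Stmt1432 (G : Type u) [Group G] : Prop :=
  ∀ (M : Subgroup G), IsCoatom M → ∀ (x : G), x ∈ sigmaCore M → x ≠ 1 → ∀ (x' : G),
    x' ∈ M ⊓ centralizer ({x} : Set G) → x' ≠ 1 →
    (∀ p : ℕ, p.Prime → p ∣ orderOf x' → p ∉ sigma M) →
    ((∀ p : ℕ, p.Prime → p ∣ orderOf x' → p ∈ kappa M) ∧ centralizer ({x} : Set G) ≤ M) ∨
      ((∀ p : ℕ, p.Prime → p ∣ orderOf x' → p ∈ tau2 M) ∧
        (∃ L : Subgroup G, IsCoatom L ∧ ∀ p : ℕ, p.Prime → p ∣ orderOf x' → p ∈ sigma L) ∧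
        (centralizer ({x'} : Set G) ≤ M ∧
          ∀ L : Subgroup G, IsCoatom L → centralizer ({x'} : Set G) ≤ L → L = M))

/-- **BG 14.4(c)**, the unique maximal subgroup over `C_G(x)`. -/
theorem core1375 (hG : IsMinSimpleOddOrder G) (h139 : SigmaDisj G) (h32 : Stmt1432 G)
    {M : Subgroup G} (hM : IsCoatom M) {x : G} (hx : x ∈ sigmaCore M) (hx1 : x ≠ 1)
    (hxM : ¬ centralizer ({x} : Set G) ≤ M) :
    ∃ N : Subgroup G, IsCoatom N ∧ centralizer ({x} : Set G) ≤ N ∧
      (∀ L : Subgroup G, IsCoatom L → centralizer ({x} : Set G) ≤ L → L = N) ∧ N ≠ M ∧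
      (∀ g : G, N ≠ cj g M) ∧
      IsComplIn (M ⊓ N) (sigmaCore N) N ∧ sigmaCore N ⊓ M = ⊥ ∧
      (∀ p : ℕ, p.Prime → p ∣ orderOf x → p ∈ tau2 N) ∧
      (∃ p : ℕ, p.Prime ∧ p ∣ orderOf x) ∧
      sigmaCore N ⊓ centralizer ({x} : Set G) ≠ ⊥ := by
  obtain ⟨L, hL, hCL, hLM, ⟨q, hq, hqx, hqσ, hq2⟩, h2, h3⟩ :=
    struct_of_not_le hG h139 hM hx hx1 hxM
  have hLn : L ≤ normalizer ((sigmaCore L : Subgroup G) : Set G) :=
    Cfsg.Agent.Lib.Helper24.BG.le_normalizer_sigmaCore L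
  have hxC : x ∈ centralizer ({x} : Set G) := by
    rw [mem_centralizer_iff]; intro h hh; rw [Set.mem_singleton_iff.mp hh]
  have hxML : x ∈ M ⊓ L := ⟨sigmaCore_le_self M hx, hCL hxC⟩
  -- `R ≠ 1`
  have hR : sigmaCore L ⊓ centralizer ({x} : Set G) ≠ ⊥ := by
    intro hbot
    apply hxM
    intro c hc
    obtain ⟨a, ha, b, hb, hab⟩ := cent_decomp h2 hLn hxML (hCL hc) hc
    rw [hbot] at hb
    rw [hab, mem_bot.mp hb, mul_one]
    exact ha.1.1
  -- `L` is not conjugate to `M`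
  have hnc : ∀ g : G, L ≠ cj g M := by
    intro g hg
    have : q ∈ sigma L := hg ▸ BG13.sigma_cj g hqσ
    exact hq2.2.1 this
  obtain ⟨r, hr1⟩ := (Subgroup.ne_bot_iff_exists_ne_one).mp hR
  have hr' : (r : G) ≠ 1 := fun h => hr1 (Subtype.ext h)
  have hrσ : (r : G) ∈ sigmaCore L := r.2.1
  have hxr0 : x ∈ centralizer ({(r : G)} : Set G) := by
    rw [mem_centralizer_iff]
    intro h hh
    rw [Set.mem_singleton_iff.mp hh]
    exact (mem_centralizer_iff.mp r.2.2 x rfl).symm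
  have hxr : x ∈ L ⊓ centralizer ({(r : G)} : Set G) := mem_inf.mpr ⟨hxML.2, hxr0⟩
  have hσx : ∀ p : ℕ, p.Prime → p ∣ orderOf x → p ∉ sigma L := by
    intro p hp hpx hpL
    have hpM : p ∈ sigma M := Cfsg.Agent.Lib.Helper24.BG.mem_sigma_of_dvd_card_sigmaCore M hp
      (hpx.trans (Subgroup.orderOf_dvd_natCard _ hx))
    obtain ⟨g, hg⟩ := h139 M L hM hL ⟨p, hpM, hpL⟩
    exact hnc g (by rw [cj_def]; exact hg)
  rcases h32 L hL r hrσ hr' x hxr hx1 hσx with ⟨hA, _⟩ | ⟨hB, _, hBC, hBu⟩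
  · exact absurd (hA q hq hqx) (not_kappa_of_tau2 hq2)
  · exact ⟨L, hL, hCL, hBu, hLM, hnc, h2, h3, hB, ⟨q, hq, hqx⟩, hR⟩


/-- the conclusion of **S1375**, from `SigmaDisj G` and the statement of S1432. -/
theorem s1375_of (hG : IsMinSimpleOddOrder G) (h139 : SigmaDisj G) (h32 : Stmt1432 G)
    (M : Subgroup G) (hM : IsCoatom M) (x : G) (hx : x ∈ sigmaCore M) (hx1 : x ≠ 1)
    (hxM : ¬ centralizer ({x} : Set G) ≤ M) :
    ∃ N : Subgroup G, (IsCoatom N ∧ centralizer ({x} : Set G) ≤ N) ∧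
        (∀ L : Subgroup G, IsCoatom L → centralizer ({x} : Set G) ≤ L → L = N) ∧
        sigmaCore N = fittingHallOf N ∧
        centralizer ({x} : Set G) ≤
          normalizer ((sigmaCore N ⊓ centralizer ({x} : Set G) : Subgroup G) : Set G) ∧
        IsComplIn (M ⊓ centralizer ({x} : Set G)) (sigmaCore N ⊓ centralizer ({x} : Set G))
          (centralizer ({x} : Set G)) ∧
        IsComplIn (M ⊓ N) (sigmaCore N) N ∧
        ∀ K' U' : Subgroup G, IsSigmaDecomposition N K' U' →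
          U' ≠ ⊥ ∧ x ∈ sigmaA N U' ∧ x ∉ sigmaCore N := by
  obtain ⟨N, hN, hCN, huniq, hNM, hnc, h2, h3, hτ2, ⟨q, hq, hqx⟩, hR⟩ :=
    core1375 hG h139 h32 hM hx hx1 hxM
  haveI : Fact q.Prime := ⟨hq⟩
  have hq2 : q ∈ tau2 N := hτ2 q hq hqx
  have hNn : N ≤ normalizer ((sigmaCore N : Subgroup G) : Set G) :=
    Cfsg.Agent.Lib.Helper24.BG.le_normalizer_sigmaCore N
  have hxC : x ∈ centralizer ({x} : Set G) := by
    rw [mem_centralizer_iff]; intro h hh; rw [Set.mem_singleton_iff.mp hh]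
  have hxN : x ∈ N := hCN hxC
  have hxMN : x ∈ M ⊓ N := ⟨sigmaCore_le_self M hx, hxN⟩
  obtain ⟨A, hAN, hAe, hAc⟩ := BG10.exists_elemAb_sq_le hq2.2.2.2
  have hnil : Group.IsNilpotent ↥(sigmaCore N) :=
    (Cfsg.Agent.S1417.result hG N hN q hq2 A ⟨hAN, hAe, hAc⟩).1
  refine ⟨N, ⟨hN, hCN⟩, huniq, (fittingHallOf_eq_sigmaCore hG hN hnil).symm,
    cent_le_normalizer_inf (hCN.trans hNn), ⟨inf_le_right, inf_le_right, ?_, ?_⟩, h2, ?_⟩
  · rw [eq_bot_iff, ← h3]
    exact fun z hz => ⟨hz.2.1, hz.1.1⟩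
  · intro m hm
    obtain ⟨a, ha, b, hb, hab⟩ := cent_decomp h2 hNn hxMN (hCN hm) hm
    exact ⟨a, ⟨ha.1.1, ha.2⟩, b, hb, hab⟩
  · intro K' U' hdec
    obtain ⟨_, hhall, hcompl, hnorm⟩ := hdec
    have hxσ : x ∉ sigmaCore N := by
      intro h
      have : x ∈ sigmaCore N ⊓ M := ⟨h, sigmaCore_le_self M hx⟩
      rw [h3] at this
      exact hx1 (mem_bot.mp this)
    have hKσn : K' ≤ normalizer ((sigmaCore N : Subgroup G) : Set G) := hhall.1.trans hNn
    have hcardKS : Nat.card ↥(K' ⊔ sigmaCore N) ∣ Nat.card K' * Nat.card (sigmaCore N) :=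
      Cfsg.Agent.Lib.Helper23.card_sup_dvd_of_le_normalizer K' (sigmaCore N) hKσn
    have hcases : ∀ p : ℕ, p.Prime → p ∈ tau2 N → ¬ p ∣ Nat.card ↥(K' ⊔ sigmaCore N) := by
      intro p hp hp2 hd
      rcases (Nat.Prime.dvd_mul hp).mp (hd.trans hcardKS) with h | h
      · exact not_kappa_of_tau2 hp2 (hhall.2.1 p hp h)
      · exact hp2.2.1 (Cfsg.Agent.Lib.Helper24.BG.mem_sigma_of_dvd_card_sigmaCore N hp h)
    have hU : U' ≠ ⊥ := by
      intro hU
      have hc := Cfsg.Agent.Lib.Helper71.BG142S4.card_mul_card_of_isComplIn_h71 hcompl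
      rw [hU, card_bot, one_mul] at hc
      have hqN : q ∣ Nat.card N := by
        have h1 : Nat.card A ∣ Nat.card N := Subgroup.card_dvd_of_le hAN
        rw [hAc] at h1
        exact (dvd_pow_self q two_ne_zero).trans h1
      exact hcases q hq hq2 (hc ▸ hqN)
    have hT : x ∈ U' ⊔ sigmaCore N := by
      refine mem_of_coprime_relIndex (A := U' ⊔ sigmaCore N) (H := N)
        (sup_le hcompl.1 (sigmaCore_le_self N)) ?_ hxN ?_
      · intro n hn
        obtain ⟨u, hu, b, hb, rfl⟩ := hcompl.2.2.2 n hn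
        have h1 : u ∈ normalizer ((U' ⊔ sigmaCore N : Subgroup G) : Set G) :=
          le_normalizer ((le_sup_left : U' ≤ U' ⊔ sigmaCore N) hu)
        have h2' : K' ⊔ sigmaCore N ≤ normalizer ((U' ⊔ sigmaCore N : Subgroup G) : Set G) := by
          apply sup_le
          · intro k hk
            exact mem_normalizer_sup (hnorm hk) (hKσn hk)
          · exact (le_sup_right : sigmaCore N ≤ U' ⊔ sigmaCore N).trans le_normalizer
        exact mul_mem h1 (h2' hb)
      · apply Nat.coprime_of_dvd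
        intro k hk hk1 hk2
        have h1 : (U' ⊔ sigmaCore N).relIndex N ∣ U'.relIndex N :=
          relIndex_dvd_of_le_left N le_sup_left
        rw [Cfsg.Agent.Lib.Helper71.BG142S4.relIndex_eq_of_isComplIn_h71 hcompl] at h1
        exact hcases k hk (hτ2 k hk hk1) (hk2.trans h1)
    obtain ⟨r, hr1⟩ := (Subgroup.ne_bot_iff_exists_ne_one).mp hR
    have hr' : (r : G) ≠ 1 := fun h => hr1 (Subtype.ext h)
    refine ⟨hU, ⟨⟨hxN, r, r.2.1, hr', ?_⟩, hT⟩, hxσ⟩
    exact mem_centralizer_iff.mp r.2.2 x rfl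

end Cfsg.Agent.Lib.Helper63.BG14
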