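import Mathlib

/-!
# The Frobenius trick

A group `B` acted on fixed-point-freely by the powers `x, …, x^(m-1)` (so `B⟨x⟩` is a Frobenius
group with kernel `B` when `m` is the order of `x`), acting on a finite abelian group `V` of order
prime to `|B|` with `B` acting nontrivially: then the norm `v ↦ ∏_{j<m} x^j • v` of `x` is not
trivial on `V`.  The characteristic of `V` may divide `m`.

The proof is the identity `∑_{g ∈ B} g N g⁻¹ = |B| + (∑_{b∈B} b)(∑_{0<j<m} x^j)` in the group ring.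
-/

set_option autoImplicit false

namespace Cfsg.Agent.Lib.Helper63.Frob

open scoped IsMulCommutative

variable {Γ V : Type*} [Group Γ] [Group V] [IsMulCommutative V]

/-- The norm of `x` (over the first `m` powers). -/
noncomputable def nrm (ρ : Γ →* MulAut V) (x : Γ) (m : ℕ) (v : V) : V :=
  ∏ j ∈ Finset.range m, ρ (x ^ j) v

theorem frob_trick [Finite V] (ρ : Γ →* MulAut V) (B : Subgroup Γ) [Finite B]
    (x : Γ) (m : ℕ) (hm : 0 < m)
    (hxB : ∀ b ∈ B, x * b * x⁻¹ ∈ B)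
    (hfpf : ∀ j, 0 < j → j < m → ∀ b ∈ B, x ^ j * b * (x ^ j)⁻¹ = b → b = 1)
    (hcop : (Nat.card B).Coprime (Nat.card V))
    (hnt : ∃ b ∈ B, ∃ v : V, ρ b v ≠ v) :
    ∃ v : V, nrm ρ x m v ≠ 1 := by
  classical
  have : Fintype B := Fintype.ofFinite B
  by_contra hcon
  push Not at hcon
  obtain ⟨b₀, hb₀, v₀, hv₀⟩ := hnt
  -- powers of `x` normalize `B`
  have hxjB : ∀ j : ℕ, ∀ b ∈ B, x ^ j * b * (x ^ j)⁻¹ ∈ B := by
    intro j
    induction j with
    | zero => intro b hb; simpa using hb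
    | succ j ih =>
      intro b hb
      have := hxB _ (ih b hb)
      have e : x ^ (j + 1) * b * (x ^ (j + 1))⁻¹ = x * (x ^ j * b * (x ^ j)⁻¹) * x⁻¹ := by
        rw [pow_succ']; group
      rw [e]; exact this
  -- the averaging map
  let e : V → V := fun v => ∏ b : B, ρ (b : Γ) v
  have he_mul : ∀ v w : V, e (v * w) = e v * e w := by
    intro v w
    simp only [e, map_mul]
    rw [Finset.prod_mul_distrib]
  have he_inv : ∀ v : V, e v⁻¹ = (e v)⁻¹ := by
    intro v
    simp only [e, map_inv]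
    rw [Finset.prod_inv_distrib]
  have he_B : ∀ b' ∈ B, ∀ v : V, e (ρ b' v) = e v := by
    intro b' hb' v
    simp only [e]
    refine Fintype.prod_equiv (Equiv.mulRight (⟨b', hb'⟩ : B)) _ _ ?_
    intro b
    simp [map_mul]
  set w : V := ρ b₀ v₀ * v₀⁻¹ with hw
  have hw1 : w ≠ 1 := by
    intro h
    apply hv₀
    have : ρ b₀ v₀ = w * v₀ := by rw [hw]; group
    rw [this, h, one_mul]
  have hew : e w = 1 := by
    rw [hw, he_mul, he_inv, he_B b₀ hb₀]
    exact mul_inv_cancel _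
  -- `x^j` commutes with `e`
  have he_x : ∀ j : ℕ, ∀ v : V, e (ρ (x ^ j) v) = ρ (x ^ j) (e v) := by
    intro j v
    simp only [e]
    rw [map_prod]
    let c : B → B := fun b => ⟨x ^ j * b * (x ^ j)⁻¹, hxjB j b b.2⟩
    have hc : Function.Bijective c := by
      rw [← Finite.injective_iff_bijective]
      intro a b hab
      have := congrArg Subtype.val hab
      simp only [c] at this
      apply Subtype.ext
      have h2 : (x ^ j)⁻¹ * (x ^ j * (a : Γ) * (x ^ j)⁻¹) * x ^ j =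
          (x ^ j)⁻¹ * (x ^ j * (b : Γ) * (x ^ j)⁻¹) * x ^ j := by rw [this]
      have ea : (x ^ j)⁻¹ * (x ^ j * (a : Γ) * (x ^ j)⁻¹) * x ^ j = a := by group
      have eb : (x ^ j)⁻¹ * (x ^ j * (b : Γ) * (x ^ j)⁻¹) * x ^ j = b := by group
      rw [ea, eb] at h2
      exact h2
    symm
    refine Fintype.prod_bijective c hc _ _ ?_
    intro b
    simp only [c]
    rw [← MulAut.mul_apply, ← MulAut.mul_apply, ← map_mul, ← map_mul]
    congr 2
    group
  -- the key reindexing for `0 < j < m`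
  have hkey : ∀ j, 0 < j → j < m → ∀ v : V,
      ∏ g : B, ρ ((g : Γ) * x ^ j * (g : Γ)⁻¹) v = e (ρ (x ^ j) v) := by
    intro j hj0 hjm v
    simp only [e]
    let φ : B → B := fun g => ⟨(g : Γ) * (x ^ j * (g : Γ)⁻¹ * (x ^ j)⁻¹),
      B.mul_mem g.2 (hxjB j _ (B.inv_mem g.2))⟩
    have hφ : Function.Bijective φ := by
      rw [← Finite.injective_iff_bijective]
      intro a b hab
      have h1 := congrArg Subtype.val hab
      simp only [φ] at h1
      -- `b⁻¹ a` is fixed by `x^j`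
      have h2 : x ^ j * ((b : Γ)⁻¹ * (a : Γ)) * (x ^ j)⁻¹ = (b : Γ)⁻¹ * (a : Γ) := by
        have e1 : x ^ j * ((b : Γ)⁻¹ * (a : Γ)) * (x ^ j)⁻¹ =
            (x ^ j * (b : Γ)⁻¹ * (x ^ j)⁻¹) * (x ^ j * (a : Γ)⁻¹ * (x ^ j)⁻¹)⁻¹ := by group
        have e2 : x ^ j * (b : Γ)⁻¹ * (x ^ j)⁻¹ =
            (b : Γ)⁻¹ * ((b : Γ) * (x ^ j * (b : Γ)⁻¹ * (x ^ j)⁻¹)) := by group
        rw [e1, e2, ← h1]
        group
      have h3 := hfpf j hj0 hjm _ (B.mul_mem (B.inv_mem b.2) a.2) h2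
      apply Subtype.ext
      have : (a : Γ) = (b : Γ) * ((b : Γ)⁻¹ * (a : Γ)) := by group
      rw [this, h3, mul_one]
    refine Fintype.prod_bijective φ hφ _ _ ?_
    intro g
    simp only [φ]
    rw [← MulAut.mul_apply, ← map_mul]
    congr 2
    group
  -- the double product
  have hT1 : ∏ g : B, ρ (g : Γ) (nrm ρ x m (ρ ((g : Γ)⁻¹) w)) = 1 := by
    apply Finset.prod_eq_one
    intro g _
    rw [hcon, map_one]
  have hT2 : ∏ g : B, ρ (g : Γ) (nrm ρ x m (ρ ((g : Γ)⁻¹) w)) =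
      ∏ j ∈ Finset.range m, ∏ g : B, ρ ((g : Γ) * x ^ j * (g : Γ)⁻¹) w := by
    rw [Finset.prod_comm]
    apply Finset.prod_congr rfl
    intro g _
    unfold nrm
    rw [map_prod]
    apply Finset.prod_congr rfl
    intro j _
    rw [← MulAut.mul_apply, ← MulAut.mul_apply, ← map_mul, ← map_mul]
  obtain ⟨m', rfl⟩ : ∃ m', m = m' + 1 := ⟨m - 1, by omega⟩
  rw [Finset.prod_range_succ'] at hT2
  have hrest : ∏ j ∈ Finset.range m', ∏ g : B, ρ ((g : Γ) * x ^ (j + 1) * (g : Γ)⁻¹) w = 1 := by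
    apply Finset.prod_eq_one
    intro j hj
    rw [Finset.mem_range] at hj
    rw [hkey (j + 1) (by omega) (by omega) w, he_x, hew, map_one]
  have hzero : ∏ g : B, ρ ((g : Γ) * x ^ 0 * (g : Γ)⁻¹) w = w ^ Nat.card B := by
    have : ∀ g : B, ρ ((g : Γ) * x ^ 0 * (g : Γ)⁻¹) w = w := by
      intro g
      have e1 : (g : Γ) * x ^ 0 * (g : Γ)⁻¹ = 1 := by group
      rw [e1, map_one]; rfl
    simp only [this, Finset.prod_const, Finset.card_univ, Nat.card_eq_fintype_card]
  rw [hrest, one_mul, hzero, hT1] at hT2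
  -- `w ^ |B| = 1` with `|B|` prime to `|V|`
  have hord1 : orderOf w ∣ Nat.card B := orderOf_dvd_of_pow_eq_one hT2.symm
  have hord2 : orderOf w ∣ Nat.card V := orderOf_dvd_natCard w
  have hord : orderOf w = 1 := Nat.eq_one_of_dvd_coprimes hcop hord1 hord2
  exact hw1 (orderOf_eq_one_iff.1 hord)

end Cfsg.Agent.Lib.Helper63.Frob
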