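import Mathlib
import Cfsg.Agent.Lib.Helper63.FrobTrick
import Cfsg.Agent.Lib.Helper2.PGroup

/-!
# The conjugation action of `G` (and of `G/N`) on the Frattini quotient `N/Φ(N)` of a normal
`p`-subgroup, and the power formula `(u x)^k = (∏_{j<k} x^j u x^{-j}) x^k`.
-/

set_option autoImplicit false

namespace Cfsg.Agent.Lib.Helper63.Frob

open scoped IsMulCommutative commutatorElement

variable {G : Type*} [Group G] (N : Subgroup G) [hN : N.Normal]

/-- `N / Φ(N)`. -/
abbrev FQ : Type _ := ↥N ⧸ frattini ↥N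

omit hN in
theorem frattini_map_eq (e : ↥N ≃* ↥N) : (frattini ↥N).map (e : ↥N →* ↥N) = frattini ↥N :=
  Subgroup.characteristic_iff_map_eq.1 inferInstance e

/-- Conjugation action of `G` on `N/Φ(N)`. -/
noncomputable def frAct : G →* MulAut (FQ N) :=
  MonoidHom.mk'
    (fun g => QuotientGroup.congr (frattini ↥N) (frattini ↥N) (MulAut.conjNormal g)
      (frattini_map_eq N _))
    (by
      intro a b
      apply MulEquiv.ext
      intro q
      obtain ⟨v, rfl⟩ := QuotientGroup.mk_surjective q
      rw [MulAut.mul_apply]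
      simp only [QuotientGroup.congr_mk, map_mul, MulAut.mul_apply])

theorem frAct_mk (g : G) (v : ↥N) :
    frAct N g (QuotientGroup.mk v) = QuotientGroup.mk (MulAut.conjNormal g v) := by
  unfold frAct
  simp only [MonoidHom.mk'_apply]
  exact QuotientGroup.congr_mk _ _ _ _ v

variable [Finite G] {p : ℕ} [hp : Fact p.Prime]

theorem frAct_eq_one_of_mem (hNp : IsPGroup p N) {u : G} (hu : u ∈ N) : frAct N u = 1 := by
  apply MulEquiv.ext
  intro q
  obtain ⟨v, rfl⟩ := QuotientGroup.mk_surjective q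
  rw [frAct_mk, MulAut.one_apply, eq_comm, QuotientGroup.eq]
  have h1 : v⁻¹ * MulAut.conjNormal u v = ⁅v⁻¹, (⟨u, hu⟩ : ↥N)⁆ := by
    apply Subtype.ext
    rw [commutatorElement_def]
    simp [MulAut.conjNormal_apply, mul_assoc]
  rw [h1]
  have := Cfsg.Agent.Lib.Helper2.commutator_le_frattini (p := p) hNp
  apply this
  rw [commutator_def]
  exact Subgroup.commutator_mem_commutator (Subgroup.mem_top _) (Subgroup.mem_top _)

/-- The induced action of `G/N` on `N/Φ(N)` for a normal `p`-subgroup `N`. -/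
noncomputable def frActQ (hNp : IsPGroup p N) : G ⧸ N →* MulAut (FQ N) :=
  QuotientGroup.lift N (frAct N)
    (fun _ hu => MonoidHom.mem_ker.2 (frAct_eq_one_of_mem N hNp hu))

theorem frActQ_mk (hNp : IsPGroup p N) (g : G) (v : ↥N) :
    frActQ N hNp (QuotientGroup.mk g) (QuotientGroup.mk v) =
      QuotientGroup.mk (MulAut.conjNormal g v) := by
  unfold frActQ
  rw [QuotientGroup.lift_mk, frAct_mk]

omit hN in
theorem isMulCommutative_FQ (hNp : IsPGroup p N) : IsMulCommutative (FQ N) := by
  rw [Subgroup.Normal.quotient_commutative_iff_commutator_le]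
  exact Cfsg.Agent.Lib.Helper2.commutator_le_frattini hNp

omit [Finite G] hN in
/-- Ordered product of the conjugates `x^j u x^{-j}`, `j < k`. -/
def nc (u x : G) : ℕ → G
  | 0 => 1
  | k + 1 => nc u x k * (x ^ k * u * (x ^ k)⁻¹)

omit [Finite G] hN in
theorem mul_pow_eq (u x : G) (k : ℕ) : (u * x) ^ k = nc u x k * x ^ k := by
  induction k with
  | zero => simp [nc]
  | succ k ih =>
    rw [pow_succ, ih, nc, pow_succ]
    group

omit [Finite G] in
theorem nc_mem {u : G} (hu : u ∈ N) (x : G) (k : ℕ) : nc u x k ∈ N := by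
  induction k with
  | zero => exact N.one_mem
  | succ k ih =>
    rw [nc]
    exact N.mul_mem ih (hN.conj_mem u hu (x ^ k))

theorem mk_nc (hNp : IsPGroup p N) {u : G} (hu : u ∈ N) (x : G) (k : ℕ) :
    haveI := isMulCommutative_FQ N hNp
    (QuotientGroup.mk (⟨nc u x k, nc_mem N hu x k⟩ : ↥N) : FQ N) =
      nrm (frActQ N hNp) (QuotientGroup.mk x : G ⧸ N) k (QuotientGroup.mk (⟨u, hu⟩ : ↥N)) := by
  have := isMulCommutative_FQ N hNp
  induction k with
  | zero =>
    unfold nrm
    simp only [Finset.range_zero, Finset.prod_empty]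
    rfl
  | succ k ih =>
    unfold nrm at ih ⊢
    rw [Finset.prod_range_succ, ← ih, ← QuotientGroup.mk_pow, frActQ_mk, ← QuotientGroup.mk_mul]
    congr 1

end Cfsg.Agent.Lib.Helper63.Frob
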