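import Mathlib
import Cfsg.Prelude.Def_Local
import Cfsg.Agent.Lib.Helper63.HHDual
import Cfsg.Agent.Lib.Helper63.FrattiniAct
import Cfsg.Agent.Lib.Helper76.HH125
import Cfsg.Agent.Lib.Helper24.SylowInv
import Cfsg.Agent.Lib.Helper24.CoprimeAbelian
import Cfsg.Agent.Lib.Helper11.Quad
import Cfsg.Agent.Lib.Helper78.CNSolv4

/-!
# Hall–Higman for abelian Sylow `q`-subgroups (`q ≠ p`)

The key step for the bound `p`-length `≤` exponent when the Sylow `q`-subgroups (`q ≠ p`) are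
abelian: if `O_{p'}(G) = 1` and the Sylow `p`-subgroups have exponent dividing `p^(n+1)`,
then `x^(p^n) ∈ O_p(G)` for every `p`-element `x`.
-/

set_option autoImplicit false

namespace Cfsg.Agent.Lib.Helper63.HH

open Cfsg Cfsg.Agent.Lib.Helper76 Cfsg.Agent.Lib.Helper55 Cfsg.Agent.Lib.Helper63.Frob

open scoped commutatorElement

theorem commute_pow_of_commute {Γ : Type*} [Group Γ] {p : ℕ} (hp : p.Prime) {n : ℕ} {x b : Γ}
    (hx : x ^ p ^ (n + 1) = 1) {j : ℕ} (hj0 : 0 < j) (hj : j < p ^ (n + 1))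
    (h : Commute b (x ^ j)) : Commute b (x ^ p ^ n) := by
  have hd : Nat.gcd j (p ^ (n + 1)) ∣ p ^ (n + 1) := Nat.gcd_dvd_right _ _
  obtain ⟨a, ha, hda⟩ := (Nat.dvd_prime_pow hp).1 hd
  have ha' : a ≤ n := by
    by_contra hcon
    have hane : a = n + 1 := by omega
    have h1 : Nat.gcd j (p ^ (n + 1)) = p ^ (n + 1) := by rw [hda, hane]
    have h2 : Nat.gcd j (p ^ (n + 1)) ≤ j := Nat.le_of_dvd hj0 (Nat.gcd_dvd_left _ _)
    omega
  have hbez := Nat.gcd_eq_gcd_ab j (p ^ (n + 1))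
  have h1 : x ^ ((Nat.gcd j (p ^ (n + 1)) : ℕ) : ℤ) = (x ^ j) ^ (Nat.gcdA j (p ^ (n + 1))) := by
    rw [hbez, zpow_add, zpow_mul, zpow_mul, zpow_natCast, zpow_natCast, hx, one_zpow, mul_one]
  have h2 : Commute b (x ^ Nat.gcd j (p ^ (n + 1))) := by
    have := h.zpow_right (Nat.gcdA j (p ^ (n + 1)))
    rw [← h1, zpow_natCast] at this
    exact this
  have h3 : x ^ p ^ n = (x ^ Nat.gcd j (p ^ (n + 1))) ^ (p ^ (n - a)) := by
    rw [hda, ← pow_mul, ← pow_add]
    congr 2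
    omega
  rw [h3]
  exact h2.pow_right _

/-- In a `p`-solvable group `Γ` with `O_p(Γ) = 1` and abelian Sylow `q`-subgroups (`q ≠ p`),
a `p`-element `x` with `y = x^(p^n) ≠ 1`, `x^(p^(n+1)) = 1` normalizes a nontrivial `p'`-subgroup `B`
on which `y` acts fixed-point-freely. -/
theorem exists_frob_kernel {Γ : Type*} [Group Γ] [Finite Γ] {p : ℕ} [hp : Fact p.Prime]
    (hsol : IsPSolvable p Γ) (hO : pCore p Γ = ⊥)
    (hab : ∀ (q : ℕ) [Fact q.Prime], q ≠ p → ∀ Q : Sylow q Γ,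
      ∀ a ∈ (Q : Subgroup Γ), ∀ b ∈ (Q : Subgroup Γ), a * b = b * a)
    {n : ℕ} (x : Γ) (hx : x ^ p ^ (n + 1) = 1) (hy : x ^ p ^ n ≠ 1) :
    ∃ B : Subgroup Γ, B ≠ ⊥ ∧ (Nat.card B).Coprime p ∧ (∀ b ∈ B, x * b * x⁻¹ ∈ B) ∧
      (∀ b ∈ B, Commute b (x ^ p ^ n) → b = 1) := by
  have hQn : (pPrimeCore p Γ).Normal := pPrimeCore_normal' p
  set Q := pPrimeCore p Γ with hQ
  set y := x ^ p ^ n with hydef
  have hQcop : (Nat.card Q).Coprime p := pPrimeCore_card_coprime p
  have hdual := centralizer_pPrimeCore_le hsol hO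
  have hyp : y ^ p = 1 := by
    rw [hydef, ← pow_mul, ← pow_succ]; exact hx
  -- `y ∉ Q`
  have hyQ : y ∉ Q := by
    intro hyQ
    have h1 : orderOf y ∣ Nat.card Q := by
      have := orderOf_dvd_natCard (⟨y, hyQ⟩ : Q)
      rwa [Subgroup.orderOf_mk] at this
    have h2 : orderOf y ∣ p := orderOf_dvd_of_pow_eq_one hyp
    have h3 : orderOf y = 1 := Nat.eq_one_of_dvd_coprimes hQcop h1 h2
    exact hy (orderOf_eq_one_iff.1 h3)
  have hycen : y ∉ Subgroup.centralizer (Q : Set Γ) := fun h => hyQ (hdual h)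
  -- the cyclic group `X = ⟨x⟩`
  set X := Subgroup.zpowers x with hX
  have hXcard : Nat.card X ∣ p ^ (n + 1) := by
    rw [Nat.card_zpowers]; exact orderOf_dvd_of_pow_eq_one hx
  have hXQ : X ≤ Subgroup.normalizer (Q : Set Γ) := by
    rw [Subgroup.normalizer_eq_top]; exact le_top
  have hXcop : (Nat.card X).Coprime (Nat.card Q) :=
    Nat.Coprime.coprime_dvd_left hXcard (Nat.Coprime.pow_left _ hQcop.symm)
  have hXsolv : Group.IsSolvable X := by
    have : IsMulCommutative X := inferInstance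
    infer_instance
  -- some invariant Sylow subgroup of `Q` is not centralized by `y`
  have hex : ∃ (q : ℕ) (_ : Fact q.Prime) (P : Sylow q Q),
      X ≤ Subgroup.normalizer (((P : Subgroup Q).map Q.subtype : Subgroup Γ) : Set Γ) ∧
      ¬ (P : Subgroup Q).map Q.subtype ≤ Subgroup.centralizer ({y} : Set Γ) := by
    by_contra hcon
    push Not at hcon
    apply hycen
    have hdvd : Nat.card Q ∣ Nat.card ↥(Q ⊓ Subgroup.centralizer ({y} : Set Γ)) := by
      rw [← Nat.factorization_prime_le_iff_dvd Nat.card_pos.ne' Nat.card_pos.ne']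
      intro q hq
      have : Fact q.Prime := ⟨hq⟩
      obtain ⟨P, hP⟩ := Cfsg.Agent.Lib.Helper24.exists_invariant_sylow (p := q) X Q hXQ hXcop
        (Or.inl hXsolv)
      have hle : (P : Subgroup Q).map Q.subtype ≤ Q ⊓ Subgroup.centralizer ({y} : Set Γ) :=
        le_inf (Subgroup.map_subtype_le _) (hcon q this P hP)
      have hc : Nat.card ((P : Subgroup Q).map Q.subtype) = q ^ (Nat.card Q).factorization q := by
        rw [Subgroup.card_map_of_injective Q.subtype_injective]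
        exact Sylow.card_eq_multiplicity P
      have h1 := Subgroup.card_dvd_of_le hle
      rw [hc] at h1
      exact (hq.pow_dvd_iff_le_factorization Nat.card_pos.ne').1 h1
    have heq : Q ⊓ Subgroup.centralizer ({y} : Set Γ) = Q :=
      Subgroup.eq_of_le_of_card_ge inf_le_left (Nat.le_of_dvd Nat.card_pos hdvd)
    rw [Subgroup.mem_centralizer_iff]
    intro c hc
    have : c ∈ Q ⊓ Subgroup.centralizer ({y} : Set Γ) := by rw [heq]; exact hc
    have h2 := Subgroup.mem_centralizer_singleton_iff.1 this.2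
    exact h2
  obtain ⟨q, hqf, P, hPX, hPy⟩ := hex
  set R := (P : Subgroup Q).map Q.subtype with hR
  have hRq : IsPGroup q R := P.2.map Q.subtype
  have hRQ : R ≤ Q := Subgroup.map_subtype_le _
  have hRcop : (Nat.card R).Coprime p :=
    Nat.Coprime.coprime_dvd_left (Subgroup.card_dvd_of_le hRQ) hQcop
  have hRne : R ≠ ⊥ := by
    intro h
    apply hPy
    rw [h]; exact bot_le
  have hqp : q ≠ p := by
    intro hqp
    obtain ⟨k, hk⟩ := IsPGroup.iff_card.1 hRq
    have hk0 : k ≠ 0 := by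
      intro h0
      rw [h0, pow_zero] at hk
      exact hRne ((Subgroup.card_eq_one).1 hk)
    rw [hk, hqp] at hRcop
    have : p ∣ p ^ k := dvd_pow_self p hk0
    have h1 := Nat.Coprime.eq_one_of_dvd hRcop.symm this
    exact hp.out.one_lt.ne' h1
  -- `R` is abelian
  obtain ⟨T, hRT⟩ := hRq.exists_le_sylow
  have hRab : IsMulCommutative R := by
    refine ⟨⟨fun a b => ?_⟩⟩
    apply Subtype.ext
    exact hab q hqp T a (hRT a.2) b (hRT b.2)
  -- `Y = ⟨y⟩`
  set Y := Subgroup.zpowers y with hY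
  have hYX : Y ≤ X := by
    rw [hY, Subgroup.zpowers_le]
    exact Subgroup.pow_mem _ (Subgroup.mem_zpowers x) _
  have hYR : Y ≤ Subgroup.normalizer (R : Set Γ) := hYX.trans hPX
  have hYcop : (Nat.card Y).Coprime (Nat.card R) := by
    have h1 : Nat.card Y ∣ p := by
      rw [Nat.card_zpowers]; exact orderOf_dvd_of_pow_eq_one hyp
    exact Nat.Coprime.coprime_dvd_left h1 hRcop.symm
  have hbot := Cfsg.Agent.Lib.Helper24.commutator_inf_centralizer_eq_bot_of_abelian R Y hYR hYcop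
  have hBR : ⁅R, Y⁆ ≤ R := Cfsg.Agent.Lib.Helper24.commutator_le_of_le_normalizer R Y hYR
  refine ⟨⁅R, Y⁆, ?_, ?_, ?_, ?_⟩
  · intro h
    rw [Subgroup.commutator_eq_bot_iff_le_centralizer] at h
    apply hPy
    intro r hr
    have := h hr
    rw [Subgroup.mem_centralizer_iff] at this
    rw [Subgroup.mem_centralizer_singleton_iff]
    exact (this y (Subgroup.mem_zpowers y)).symm
  · exact Nat.Coprime.coprime_dvd_left (Subgroup.card_dvd_of_le hBR) hRcop
  · -- `x` normalizes `[R, Y]`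
    have hle : ⁅R, Y⁆ ≤ (⁅R, Y⁆).comap (MulAut.conj x).toMonoidHom := by
      rw [Subgroup.commutator_le]
      intro r hr z hz
      rw [Subgroup.mem_comap]
      have hxr : x * r * x⁻¹ ∈ R :=
        (Subgroup.mem_normalizer_iff.1 (hPX (Subgroup.mem_zpowers x)) r).1 hr
      have hxz : x * z * x⁻¹ = z := by
        obtain ⟨k, rfl⟩ := Subgroup.mem_zpowers_iff.1 hz
        have hc : Commute x (y ^ k) := ((Commute.refl x).pow_right _).zpow_right k
        rw [hc.eq]; group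
      have : (MulAut.conj x).toMonoidHom ⁅r, z⁆ = ⁅x * r * x⁻¹, x * z * x⁻¹⁆ := by
        simp only [MulEquiv.coe_toMonoidHom, MulAut.conj_apply, commutatorElement_def]
        group
      rw [this, hxz]
      exact Subgroup.commutator_mem_commutator hxr hz
    intro b hb
    have := hle hb
    rw [Subgroup.mem_comap] at this
    simpa [MulAut.conj_apply] using this
  · intro b hb hc
    have : b ∈ ⁅R, Y⁆ ⊓ Subgroup.centralizer (Y : Set Γ) := by
      refine ⟨hb, ?_⟩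
      show b ∈ Subgroup.centralizer (Y : Set Γ)
      rw [Subgroup.mem_centralizer_iff]
      intro z hz
      obtain ⟨k, rfl⟩ := Subgroup.mem_zpowers_iff.1 hz
      exact ((hc.zpow_right k).eq).symm
    rw [hbot, Subgroup.mem_bot] at this
    exact this

/-- **Key step**: `O_{p'}(G) = 1`, abelian Sylow `q`-subgroups for `q ≠ p`, Sylow `p`-subgroups of
exponent dividing `p^(n+1)`: then `x^(p^n) ∈ O_p(G)` for every `p`-element `x`. -/
theorem pow_mem_pCore {G : Type*} [Group G] [Finite G] {p : ℕ} [hp : Fact p.Prime]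
    (hsol : IsPSolvable p G) (hO : pPrimeCore p G = ⊥)
    (hab : ∀ (q : ℕ) [Fact q.Prime], q ≠ p → ∀ Q : Sylow q G,
      ∀ a ∈ (Q : Subgroup G), ∀ b ∈ (Q : Subgroup G), a * b = b * a)
    {n : ℕ} (hexp : ∀ S : Sylow p G, ∀ x ∈ (S : Subgroup G), x ^ p ^ (n + 1) = 1)
    (S : Sylow p G) (x : G) (hxS : x ∈ (S : Subgroup G)) : x ^ p ^ n ∈ pCore p G := by
  by_contra hcon
  have hP₀n : (pCore p G).Normal := pCore_normal' p
  have hP₀p : IsPGroup p (pCore p G) := pCore_isPGroup p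
  have hπ : Function.Surjective (QuotientGroup.mk' (pCore p G)) :=
    QuotientGroup.mk'_surjective _
  have hΓsol : IsPSolvable p (G ⧸ pCore p G) := isPSolvable_quotient _ hsol
  have hΓO : pCore p (G ⧸ pCore p G) = ⊥ := Cfsg.Agent.Lib.Helper78.pCore_quotient_pCore_eq_bot
  have hΓab : ∀ (q : ℕ) [Fact q.Prime], q ≠ p → ∀ Q : Sylow q (G ⧸ pCore p G),
      ∀ a ∈ (Q : Subgroup (G ⧸ pCore p G)), ∀ b ∈ (Q : Subgroup (G ⧸ pCore p G)),
        a * b = b * a := by
    intro q _ hq Q a ha b hb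
    obtain ⟨Q₀, rfl⟩ := Sylow.mapSurjective_surjective hπ q Q
    rw [Sylow.coe_mapSurjective] at ha hb
    obtain ⟨a₀, ha₀, rfl⟩ := ha
    obtain ⟨b₀, hb₀, rfl⟩ := hb
    rw [← map_mul, ← map_mul, hab q hq Q₀ a₀ ha₀ b₀ hb₀]
  have hxm : x ^ p ^ (n + 1) = 1 := hexp S x hxS
  have hx1 : ((QuotientGroup.mk x : G ⧸ pCore p G)) ^ p ^ (n + 1) = 1 := by
    rw [← QuotientGroup.mk_pow, hxm]; rfl
  have hx2 : ((QuotientGroup.mk x : G ⧸ pCore p G)) ^ p ^ n ≠ 1 := by
    rw [← QuotientGroup.mk_pow]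
    intro h
    exact hcon ((QuotientGroup.eq_one_iff _).1 h)
  obtain ⟨B, hBne, hBcop, hBx, hBfpf⟩ := exists_frob_kernel hΓsol hΓO hΓab _ hx1 hx2
  have hVcomm : IsMulCommutative (FQ (pCore p G)) := isMulCommutative_FQ _ hP₀p
  have hVp : IsPGroup p (FQ (pCore p G)) := hP₀p.to_quotient _
  obtain ⟨k, hk⟩ := IsPGroup.iff_card.1 hVp
  have hfpf : ∀ j, 0 < j → j < p ^ (n + 1) → ∀ b ∈ B,
      (QuotientGroup.mk x : G ⧸ pCore p G) ^ j * b *
        ((QuotientGroup.mk x : G ⧸ pCore p G) ^ j)⁻¹ = b → b = 1 := by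
    intro j hj0 hj b hb h
    apply hBfpf b hb
    apply commute_pow_of_commute hp.out hx1 hj0 hj
    have : (QuotientGroup.mk x : G ⧸ pCore p G) ^ j * b =
        b * (QuotientGroup.mk x : G ⧸ pCore p G) ^ j := by
      have h2 := congrArg (· * (QuotientGroup.mk x : G ⧸ pCore p G) ^ j) h
      simpa using h2
    exact this.symm
  have hnt : ∃ b ∈ B, ∃ v : FQ (pCore p G), frActQ (pCore p G) hP₀p b v ≠ v := by
    obtain ⟨⟨bq, hbq⟩, hne⟩ := (Subgroup.ne_bot_iff_exists_ne_one).1 hBne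
    have hbq1 : bq ≠ 1 := fun h => hne (Subtype.ext h)
    obtain ⟨b, rfl⟩ := QuotientGroup.mk_surjective bq
    have hbP : b ∉ pCore p G := fun h => hbq1 ((QuotientGroup.eq_one_iff _).2 h)
    have h125 := hallHigman_125 hsol hO b
    have hnot : ¬ ∀ u ∈ pCore p G, b * u * b⁻¹ * u⁻¹ ∈
        (frattini ↥(pCore p G)).map (pCore p G).subtype := fun h => hbP (h125.1 h)
    push Not at hnot
    obtain ⟨u, hu, hun⟩ := hnot
    refine ⟨_, hbq, QuotientGroup.mk (⟨u, hu⟩ : ↥(pCore p G)), ?_⟩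
    rw [frActQ_mk]
    intro h
    apply hun
    have h2 := (QuotientGroup.eq).1 h.symm
    have h3 := (frattini ↥(pCore p G)).normal_of_characteristic.conj_mem _ h2 ⟨u, hu⟩
    refine ⟨_, h3, ?_⟩
    simp [MulAut.conjNormal_apply, mul_assoc]
  obtain ⟨v, hv⟩ := frob_trick (frActQ (pCore p G) hP₀p) B (QuotientGroup.mk x) (p ^ (n + 1))
    (pow_pos hp.out.pos _) hBx hfpf (by rw [hk]; exact Nat.Coprime.pow_right k hBcop) hnt
  obtain ⟨⟨u, hu⟩, rfl⟩ := QuotientGroup.mk_surjective v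
  have h1 := mk_nc (pCore p G) hP₀p hu x (p ^ (n + 1))
  have hnc : nc u x (p ^ (n + 1)) ≠ 1 := by
    intro h
    apply hv
    rw [← h1]
    have : (⟨nc u x (p ^ (n + 1)), nc_mem (pCore p G) hu x (p ^ (n + 1))⟩ : ↥(pCore p G)) = 1 :=
      Subtype.ext h
    rw [this]; rfl
  have h2 := mul_pow_eq u x (p ^ (n + 1))
  rw [hxm, mul_one] at h2
  have huS : u ∈ (S : Subgroup G) := Cfsg.Agent.Lib.Helper11.pCore_le_sylow S hu
  have h3 := hexp S (u * x) (mul_mem huS hxS)
  rw [h2] at h3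
  exact hnc h3

end Cfsg.Agent.Lib.Helper63.HH
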