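import Cfsg.Agent.Lib.Helper6.Ls.Defs

set_option autoImplicit false

/-!
# Ls hive, leaf LS-ARITH: closed forms of the Landazuri–Seitz recursion `T`.
-/

namespace Cfsg.Agent.Lib.Helper6.Ls

/-- the remainder term: `1` for even `n`, `q` for odd `n`. -/
theorem arith_key (q : ℕ) (hq : 1 ≤ q) : ∀ n : ℕ,
    (q + 1) * T q n + (if n % 2 = 0 then 1 else q) = q ^ n
  | 0 => by simp [T]
  | 1 => by simp [T]
  | (n + 2) => by
    have ih := arith_key q hq n
    have hmod : (n + 2) % 2 = n % 2 := by omega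
    rw [hmod]
    have hT : T q (n + 2) = (q - 1) * q ^ n + T q n := rfl
    rw [hT]
    obtain ⟨r, rfl⟩ : ∃ r, q = r + 1 := ⟨q - 1, by omega⟩
    have h1 : r + 1 - 1 = r := by omega
    rw [h1] at *
    have : (r + 1) ^ (n + 2) = (r + 1) ^ n * ((r + 1) * (r + 1)) := by ring
    rw [this, ← ih]
    ring

/-- ARITH (1) -/
theorem T_odd (q : ℕ) (hq : 2 ≤ q) (n : ℕ) (hn : Odd n) : T q n = (q ^ n - q) / (q + 1) := by
  have h := arith_key q (by omega) n
  have hmod : n % 2 ≠ 0 := by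
    rcases hn with ⟨k, rfl⟩
    omega
  rw [if_neg hmod] at h
  have h2 : q ^ n - q = (q + 1) * T q n := by omega
  rw [h2, Nat.mul_div_cancel_left _ (by omega : 0 < q + 1)]

/-- ARITH (2) -/
theorem T_even (q : ℕ) (hq : 2 ≤ q) (n : ℕ) (hn : Even n) : T q n = (q ^ n - 1) / (q + 1) := by
  have h := arith_key q (by omega) n
  have hmod : n % 2 = 0 := by
    rcases hn with ⟨k, rfl⟩
    omega
  rw [if_pos hmod] at h
  have h2 : q ^ n - 1 = (q + 1) * T q n := by omega
  rw [h2, Nat.mul_div_cancel_left _ (by omega : 0 < q + 1)]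

end Cfsg.Agent.Lib.Helper6.Ls
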