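import Cfsg.Agent.Lib.Helper6.Ls.Defs

set_option autoImplicit false

/-!
# Ls hive, leaf LS-C-FIXR: a third point of the line independent of two given ones.
-/

namespace Cfsg.Agent.Lib.Helper6.Ls

/-! The skeleton's `LinePt F` is the abbreviation `{v : F × F // v ≠ 0}`; it is written out here so that
this file declares no definition (no clash with whichever shared file finally declares `LinePt`). -/

variable {F : Type*} [Field F]

theorem cfixr_aux (a b c d : F) (hab : (a, b) ≠ (0 : F × F)) (hcd : (c, d) ≠ (0 : F × F)) :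
    ∃ x y : F, a * y - b * x ≠ 0 ∧ x * d - y * c ≠ 0 := by
  -- `w1` with `φ w1 ≠ 0`
  have h1 : ∃ x y : F, a * y - b * x ≠ 0 := by
    by_cases ha : a = 0
    · have hb : b ≠ 0 := by
        rintro rfl
        exact hab (by rw [ha]; rfl)
      exact ⟨1, 0, by simpa using hb⟩
    · exact ⟨0, 1, by simpa using ha⟩
  have h2 : ∃ x y : F, x * d - y * c ≠ 0 := by
    by_cases hd : d = 0
    · have hc : c ≠ 0 := by
        rintro rfl
        exact hcd (by rw [hd]; rfl)
      exact ⟨0, 1, by simpa using hc⟩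
    · exact ⟨1, 0, by simpa using hd⟩
  obtain ⟨x1, y1, hφ1⟩ := h1
  obtain ⟨x2, y2, hψ2⟩ := h2
  by_cases hψ1 : x1 * d - y1 * c = 0
  · by_cases hφ2 : a * y2 - b * x2 = 0
    · refine ⟨x1 + x2, y1 + y2, ?_, ?_⟩
      · have : a * (y1 + y2) - b * (x1 + x2) = (a * y1 - b * x1) + (a * y2 - b * x2) := by ring
        rw [this, hφ2, add_zero]
        exact hφ1
      · have : (x1 + x2) * d - (y1 + y2) * c = (x1 * d - y1 * c) + (x2 * d - y2 * c) := by ring
        rw [this, hψ1, zero_add]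
        exact hψ2
    · exact ⟨x2, y2, hφ2, hψ2⟩
  · exact ⟨x1, y1, hφ1, hψ1⟩

/-- C-FIXR -/
theorem exists_linePt_indep [Fintype F] {q : ℕ} (hF : Fintype.card F = q ^ 2) (v v' : {v : F × F // v ≠ 0}) :
    ∃ v'' : {v : F × F // v ≠ 0}, v.1.1 * v''.1.2 - v.1.2 * v''.1.1 ≠ 0 ∧ v''.1.1 * v'.1.2 - v''.1.2 * v'.1.1 ≠ 0 := by
  obtain ⟨x, y, h1, h2⟩ := cfixr_aux v.1.1 v.1.2 v'.1.1 v'.1.2 v.2 v'.2
  refine ⟨⟨(x, y), ?_⟩, h1, h2⟩
  intro h
  have hx : x = 0 := congrArg Prod.fst h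
  have hy : y = 0 := congrArg Prod.snd h
  apply h1
  rw [hx, hy]
  ring

end Cfsg.Agent.Lib.Helper6.Ls
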