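import Cfsg.Agent.Lib.Helper70.BG14Glue
import Cfsg.Agent.Lib.Helper63.BG13a
import Cfsg.Agent.Lib.Helper71.BG142S4
import Cfsg.Agent.S1350
import Cfsg.Agent.S1404

set_option autoImplicit false
set_option linter.style.haveILetI false
set_option linter.unusedSectionVars false

/-!
# Bender–Glauberman §14, Lemma 14.4 (a), (b): the structure of `C_G(x)` for `x ∈ M_σ#`

Everything is relative to the hypothesis `SigmaDisj G` (second clause of BG 13.9 = S1378).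

* `cent_decomp`: centralizers in a semidirect decomposition.
* `struct_of_not_le`: if `C_G(x) ≰ M` there is a maximal `L ≥ C_G(x)` with `q ∈ τ₂(L)` for a prime
  `q ∣ o(x)`, `M ∩ L` a complement of `L_σ` in `L` and `L_σ ∩ M = 1`.
* `struct`: the normal complement `R` of `C_M(x)` in `C_G(x)`.
* `fusion`: `x ∈ gMg⁻¹` implies `g ∈ C_G(x) M`.
* `s1374_of`: the conclusion of S1374.
-/

namespace Cfsg.Agent.Lib.Helper63.BG14

open Subgroup Cfsg Cfsg.Agent.Lib.Helper33 Cfsg.Agent.Lib.Helper63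
open Cfsg.Agent.Lib.Helper32.BG142 (SigmaDisj)

universe u

variable {G : Type u} [Group G] [Finite G]

theorem sigmaCore_le_self (M : Subgroup G) : sigmaCore M ≤ M := by
  unfold sigmaCore
  exact map_subtype_le _

/-- centralizers of an element of the complement `F` in `L = F B`, `B` normal. -/
theorem cent_decomp {L F B : Subgroup G} (hc : IsComplIn F B L)
    (hBn : L ≤ normalizer (B : Set G)) {x : G} (hxF : x ∈ F) {c : G} (hcL : c ∈ L)
    (hcx : c ∈ centralizer ({x} : Set G)) :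
    ∃ a ∈ F ⊓ centralizer ({x} : Set G), ∃ b ∈ B ⊓ centralizer ({x} : Set G), c = a * b := by
  obtain ⟨hFL, hBL, hFB, hprod⟩ := hc
  obtain ⟨a, ha, b, hb, rfl⟩ := hprod c hcL
  have hx' : x * (a * b) = a * b * x := mem_centralizer_iff.mp hcx x rfl
  have h1 : x * a * x⁻¹ * (x * b * x⁻¹) = a * b := by
    calc x * a * x⁻¹ * (x * b * x⁻¹) = x * (a * b) * x⁻¹ := by group
      _ = a * b * x * x⁻¹ := by rw [hx']
      _ = a * b := by group
  have key : a⁻¹ * (x * a * x⁻¹) = b * (x * b * x⁻¹)⁻¹ := by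
    calc a⁻¹ * (x * a * x⁻¹) = a⁻¹ * (x * a * x⁻¹ * (x * b * x⁻¹)) * (x * b * x⁻¹)⁻¹ := by group
      _ = a⁻¹ * (a * b) * (x * b * x⁻¹)⁻¹ := by rw [h1]
      _ = b * (x * b * x⁻¹)⁻¹ := by group
  have hvB : x * b * x⁻¹ ∈ B := (mem_normalizer_iff.mp (hBn (hFL hxF)) b).mp hb
  have hmF : a⁻¹ * (x * a * x⁻¹) ∈ F :=
    F.mul_mem (F.inv_mem ha) (F.mul_mem (F.mul_mem hxF ha) (F.inv_mem hxF))
  have hmB : a⁻¹ * (x * a * x⁻¹) ∈ B := by
    rw [key]; exact B.mul_mem hb (B.inv_mem hvB)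
  have h0 : a⁻¹ * (x * a * x⁻¹) = 1 := by
    have : a⁻¹ * (x * a * x⁻¹) ∈ F ⊓ B := ⟨hmF, hmB⟩
    rw [hFB] at this
    exact mem_bot.mp this
  have hxa : x * a = a * x := by
    have h2 : x * a * x⁻¹ = a := by
      calc x * a * x⁻¹ = a * (a⁻¹ * (x * a * x⁻¹)) := by group
        _ = a := by rw [h0, mul_one]
    calc x * a = x * a * x⁻¹ * x := by group
      _ = a * x := by rw [h2]
  have hxb : x * b = b * x := by
    have h3 : x * b * x⁻¹ = b := by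
      have h4 : b * (x * b * x⁻¹)⁻¹ = 1 := by rw [← key, h0]
      calc x * b * x⁻¹ = (b * (x * b * x⁻¹)⁻¹)⁻¹ * b := by group
        _ = b := by rw [h4, inv_one, one_mul]
    calc x * b = x * b * x⁻¹ * x := by group
      _ = b * x := by rw [h3]
  have haC : a ∈ centralizer ({x} : Set G) := by
    rw [mem_centralizer_iff]; intro h hh; rw [Set.mem_singleton_iff.mp hh]; exact hxa
  have hbC : b ∈ centralizer ({x} : Set G) := by
    rw [mem_centralizer_iff]; intro h hh; rw [Set.mem_singleton_iff.mp hh]; exact hxb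
  exact ⟨a, ⟨ha, haC⟩, b, ⟨hb, hbC⟩, rfl⟩

/-- the centralizer of `x` normalizes `B ⊓ C(x)` whenever it normalizes `B`. -/
theorem cent_le_normalizer_inf {B : Subgroup G} {x : G}
    (h : centralizer ({x} : Set G) ≤ normalizer (B : Set G)) :
    centralizer ({x} : Set G) ≤ normalizer ((B ⊓ centralizer ({x} : Set G) : Subgroup G) : Set G) := by
  intro c hc
  rw [mem_normalizer_iff]
  intro n
  have hcinv : c⁻¹ ∈ centralizer ({x} : Set G) := inv_mem hc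
  constructor
  · rintro ⟨hnB, hnC⟩
    exact ⟨(mem_normalizer_iff.mp (h hc) n).mp hnB, mul_mem (mul_mem hc hnC) hcinv⟩
  · rintro ⟨hnB, hnC⟩
    refine ⟨(mem_normalizer_iff.mp (h hc) n).mpr hnB, ?_⟩
    have : c⁻¹ * (c * n * c⁻¹) * c ∈ centralizer ({x} : Set G) := mul_mem (mul_mem hcinv hnC) hc
    have e : c⁻¹ * (c * n * c⁻¹) * c = n := by group
    rwa [e] at this

/-- **BG 14.4, first step**: if `C_G(x) ≰ M` for `x ∈ M_σ#` then `C_G(x)` lies in a maximal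
subgroup `L` in which `M ∩ L` is a complement of `L_σ`. -/
theorem struct_of_not_le (hG : IsMinSimpleOddOrder G) (h139 : SigmaDisj G) {M : Subgroup G}
    (hM : IsCoatom M) {x : G} (hx : x ∈ sigmaCore M) (hx1 : x ≠ 1)
    (hxM : ¬ centralizer ({x} : Set G) ≤ M) :
    ∃ L : Subgroup G, IsCoatom L ∧ centralizer ({x} : Set G) ≤ L ∧ L ≠ M ∧
      (∃ q : ℕ, q.Prime ∧ q ∣ orderOf x ∧ q ∈ sigma M ∧ q ∈ tau2 L) ∧
      IsComplIn (M ⊓ L) (sigmaCore L) L ∧ sigmaCore L ⊓ M = ⊥ := by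
  have ho1 : orderOf x ≠ 1 := by rwa [Ne, orderOf_eq_one_iff]
  obtain ⟨q, hq, hqx⟩ := Nat.exists_prime_and_dvd ho1
  haveI : Fact q.Prime := ⟨hq⟩
  have ho0 : orderOf x ≠ 0 := (orderOf_pos x).ne'
  have hyo : orderOf (x ^ (orderOf x / q)) = q := orderOf_pow_orderOf_div ho0 hqx
  have hXc : Nat.card (zpowers (x ^ (orderOf x / q))) = q := by rw [Nat.card_zpowers, hyo]
  have hXq : IsPGroup q (zpowers (x ^ (orderOf x / q))) :=
    IsPGroup.of_card (n := 1) (by rw [hXc, pow_one])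
  have hX1 : zpowers (x ^ (orderOf x / q)) ≠ ⊥ := by
    intro h
    rw [h, card_bot] at hXc
    exact hq.one_lt.ne hXc
  have hxM' : x ∈ M := sigmaCore_le_self M hx
  have hXM : zpowers (x ^ (orderOf x / q)) ≤ M := by
    rw [zpowers_le]; exact M.pow_mem hxM' _
  have hqσ : q ∈ sigma M := Cfsg.Agent.Lib.Helper24.BG.mem_sigma_of_dvd_card_sigmaCore M hq
    (hqx.trans (Subgroup.orderOf_dvd_natCard _ hx))
  have hXtop : zpowers (x ^ (orderOf x / q)) ≠ ⊤ := fun h => hM.1 (top_le_iff.mp (h ▸ hXM))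
  obtain ⟨L, hL, hNL⟩ :=
    Cfsg.Agent.Lib.Helper47.exists_le_coatom (BG10.normalizer_ne_top hG hX1 hXtop)
  have hCC : centralizer ({x} : Set G) ≤
      centralizer ((zpowers (x ^ (orderOf x / q)) : Subgroup G) : Set G) := by
    intro c hc
    have hcx : Commute x c := mem_centralizer_iff.mp hc x rfl
    rw [mem_centralizer_iff]
    intro h hh
    obtain ⟨n, rfl⟩ := mem_zpowers_iff.mp hh
    exact ((hcx.pow_left _).zpow_left n)
  have hCL : centralizer ({x} : Set G) ≤ L :=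
    (hCC.trans (centralizer_le_normalizer _)).trans hNL
  have hLM : L ≠ M := fun h => hxM (h ▸ hCL)
  obtain ⟨h1, h2, h3⟩ := Cfsg.Agent.Lib.Helper70.BG14.inf_isComplIn_of_normalizer_le hG h139 hM hL
    hLM hqσ hXq hX1 hXM hNL
  exact ⟨L, hL, hCL, hLM, ⟨q, hq, hqx, hqσ, h1⟩, h2, h3⟩


theorem isComplIn_swap {A B D : Subgroup G} (h : IsComplIn A B D) : IsComplIn B A D := by
  obtain ⟨hA, hB, hAB, hprod⟩ := h
  refine ⟨hB, hA, by rw [inf_comm]; exact hAB, ?_⟩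
  intro m hm
  obtain ⟨a, ha, b, hb, hab⟩ := hprod m⁻¹ (D.inv_mem hm)
  refine ⟨b⁻¹, B.inv_mem hb, a⁻¹, A.inv_mem ha, ?_⟩
  have : m = (m⁻¹)⁻¹ := (inv_inv m).symm
  rw [this, hab, mul_inv_rev]

/-- the order of a complement of `M_σ` in `M` is prime to `|M_σ|`. -/
theorem coprime_of_isComplIn_sigmaCore (hG : IsMinSimpleOddOrder G) {L F : Subgroup G}
    (hL : IsCoatom L) (hc : IsComplIn F (sigmaCore L) L) :
    (Nat.card F).Coprime (Nat.card (sigmaCore L)) := by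
  obtain ⟨_, hπ, hidx⟩ := (Cfsg.Agent.S1350.result hG L hL).1
  have hri : (sigmaCore L).relIndex L = Nat.card F :=
    Cfsg.Agent.Lib.Helper71.BG142S4.relIndex_eq_of_isComplIn_h71 (isComplIn_swap hc)
  apply Nat.Coprime.symm
  apply Nat.coprime_of_dvd
  intro k hk hk1 hk2
  exact hidx k hk (hπ k hk hk1) (hri ▸ hk2)

/-- **BG 14.4(a),(b)**: the normal complement `R` of `C_M(x)` in `C_G(x)`. -/
theorem struct (hG : IsMinSimpleOddOrder G) (h139 : SigmaDisj G) {M : Subgroup G}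
    (hM : IsCoatom M) {x : G} (hx : x ∈ sigmaCore M) (hx1 : x ≠ 1) :
    ∃ R : Subgroup G, centralizer ({x} : Set G) ≤ normalizer (R : Set G) ∧
      IsComplIn (M ⊓ centralizer ({x} : Set G)) R (centralizer ({x} : Set G)) ∧
      (Nat.card ↥(M ⊓ centralizer ({x} : Set G))).Coprime (Nat.card R) := by
  by_cases hxM : centralizer ({x} : Set G) ≤ M
  · refine ⟨⊥, ?_, ⟨inf_le_right, bot_le, inf_bot_eq _, ?_⟩, ?_⟩
    · intro c _
      rw [mem_normalizer_iff]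
      intro n
      simp only [mem_bot]
      constructor
      · intro h; rw [h]; group
      · intro h
        have : n = c⁻¹ * (c * n * c⁻¹) * c := by group
        rw [this, h]; group
    · intro m hm
      exact ⟨m, ⟨hxM hm, hm⟩, 1, one_mem _, (mul_one m).symm⟩
    · rw [card_bot]; exact Nat.coprime_one_right _
  · obtain ⟨L, hL, hCL, hLM, _, h2, h3⟩ := struct_of_not_le hG h139 hM hx hx1 hxM
    have hLn : L ≤ normalizer ((sigmaCore L : Subgroup G) : Set G) :=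
      Cfsg.Agent.Lib.Helper24.BG.le_normalizer_sigmaCore L
    have hxC : x ∈ centralizer ({x} : Set G) := by
      rw [mem_centralizer_iff]; intro h hh; rw [Set.mem_singleton_iff.mp hh]
    have hxML : x ∈ M ⊓ L := ⟨sigmaCore_le_self M hx, hCL hxC⟩
    refine ⟨sigmaCore L ⊓ centralizer ({x} : Set G), cent_le_normalizer_inf (hCL.trans hLn),
      ⟨inf_le_right, inf_le_right, ?_, ?_⟩, ?_⟩
    · rw [eq_bot_iff, ← h3]
      exact fun z hz => ⟨hz.2.1, hz.1.1⟩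
    · intro m hm
      obtain ⟨a, ha, b, hb, hab⟩ := cent_decomp h2 hLn hxML (hCL hm) hm
      exact ⟨a, ⟨ha.1.1, ha.2⟩, b, hb, hab⟩
    · have hcop := coprime_of_isComplIn_sigmaCore hG hL h2
      have hd1 : Nat.card ↥(M ⊓ centralizer ({x} : Set G)) ∣ Nat.card ↥(M ⊓ L) :=
        Subgroup.card_dvd_of_le (inf_le_inf_left M hCL)
      have hd2 : Nat.card ↥(sigmaCore L ⊓ centralizer ({x} : Set G)) ∣ Nat.card (sigmaCore L) :=
        Subgroup.card_dvd_of_le inf_le_left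
      exact Nat.Coprime.coprime_dvd_left hd1 (Nat.Coprime.coprime_dvd_right hd2 hcop)

/-- **fusion control**: if `x ∈ M_σ#` lies in `gMg⁻¹` then `g ∈ C_G(x) M`. -/
theorem fusion (hG : IsMinSimpleOddOrder G) (h139 : SigmaDisj G) {M : Subgroup G}
    (hM : IsCoatom M) {x : G} (hx : x ∈ sigmaCore M) (hx1 : x ≠ 1) {g : G}
    (hg : x ∈ M.map (MulAut.conj g).toMonoidHom) :
    ∃ c ∈ centralizer ({x} : Set G), ∃ m ∈ M, g = c * m := by
  have hgM : g⁻¹ * x * g ∈ M := by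
    rw [← cj_def] at hg; exact mem_cj.mp hg
  have ho1 : orderOf x ≠ 1 := by rwa [Ne, orderOf_eq_one_iff]
  obtain ⟨q, hq, hqx⟩ := Nat.exists_prime_and_dvd ho1
  haveI : Fact q.Prime := ⟨hq⟩
  have ho0 : orderOf x ≠ 0 := (orderOf_pos x).ne'
  have hyo : orderOf (x ^ (orderOf x / q)) = q := orderOf_pow_orderOf_div ho0 hqx
  have hXc : Nat.card (zpowers (x ^ (orderOf x / q))) = q := by rw [Nat.card_zpowers, hyo]
  have hXq : IsPGroup q (zpowers (x ^ (orderOf x / q))) :=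
    IsPGroup.of_card (n := 1) (by rw [hXc, pow_one])
  have hX1 : zpowers (x ^ (orderOf x / q)) ≠ ⊥ := by
    intro h
    rw [h, card_bot] at hXc
    exact hq.one_lt.ne hXc
  have hxM' : x ∈ M := sigmaCore_le_self M hx
  have hXM : zpowers (x ^ (orderOf x / q)) ≤ M := by
    rw [zpowers_le]; exact M.pow_mem hxM' _
  have hqσ : q ∈ sigma M := Cfsg.Agent.Lib.Helper24.BG.mem_sigma_of_dvd_card_sigmaCore M hq
    (hqx.trans (Subgroup.orderOf_dvd_natCard _ hx))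
  have hy1 : x ^ (orderOf x / q) ≠ 1 := by
    intro h
    rw [h, orderOf_one] at hyo
    exact hq.one_lt.ne hyo
  have hyσ : x ^ (orderOf x / q) ∈ sigmaCore M := (sigmaCore M).pow_mem hx _
  -- the conjugate of `Y` under `g⁻¹` lies in `M`
  have hconj : (zpowers (x ^ (orderOf x / q))).map (MulAut.conj g⁻¹).toMonoidHom ≤ M := by
    rintro _ ⟨z, hz, rfl⟩
    obtain ⟨n, rfl⟩ := mem_zpowers_iff.mp hz
    have e : (MulAut.conj g⁻¹).toMonoidHom ((x ^ (orderOf x / q)) ^ n) =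
        ((g⁻¹ * x * g) ^ (orderOf x / q)) ^ n := by
      have h : g⁻¹ * x * g = g⁻¹ * x * (g⁻¹)⁻¹ := by rw [inv_inv]
      rw [h, conj_pow, conj_zpow]
      simp only [MulEquiv.toMonoidHom_eq_coe, MonoidHom.coe_coe, MulAut.conj_apply]
    rw [e]
    exact M.zpow_mem (M.pow_mem hgM _) _
  obtain ⟨m, hm, c, hc, hgmc⟩ :=
    (Cfsg.Agent.S1404.result hG M hM q hqσ _ hXq hX1 hXM).1 g⁻¹ hconj
  -- `g = c⁻¹ m⁻¹`
  have hg' : g = c⁻¹ * m⁻¹ := by
    have : g = (g⁻¹)⁻¹ := (inv_inv g).symm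
    rw [this, hgmc, mul_inv_rev]
  have hcy : c⁻¹ ∈ centralizer ({x ^ (orderOf x / q)} : Set G) := by
    apply inv_mem
    rw [mem_centralizer_iff]
    intro h hh
    rw [Set.mem_singleton_iff.mp hh]
    exact mem_centralizer_iff.mp hc _ (mem_zpowers _)
  obtain ⟨R, hRn, ⟨_, hRC, hDR, hprod⟩, _⟩ := struct hG h139 hM hyσ hy1
  obtain ⟨a, ha, b, hb, hab⟩ := hprod c⁻¹ hcy
  -- `x` centralizes `y`
  have hxy : x ∈ centralizer ({x ^ (orderOf x / q)} : Set G) := by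
    rw [mem_centralizer_iff]
    intro h hh
    rw [Set.mem_singleton_iff.mp hh]
    exact ((Commute.refl x).pow_left _).eq
  have hbC := hRC hb
  -- `c⁻¹⁻¹ x c⁻¹ ∈ M`
  have h1 : (c⁻¹)⁻¹ * x * c⁻¹ ∈ M := by
    have e : (c⁻¹)⁻¹ * x * c⁻¹ = m⁻¹ * (g⁻¹ * x * g) * (m⁻¹)⁻¹ := by
      rw [hg']; group
    rw [e]
    exact M.mul_mem (M.mul_mem (M.inv_mem hm) hgM) (M.inv_mem (M.inv_mem hm))
  -- `x₁ = a⁻¹ x a`
  have hx₁M : a⁻¹ * x * a ∈ M := M.mul_mem (M.mul_mem (M.inv_mem ha.1) hxM') ha.1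
  have hx₁C : a⁻¹ * x * a ∈ centralizer ({x ^ (orderOf x / q)} : Set G) :=
    mul_mem (mul_mem (inv_mem ha.2) hxy) ha.2
  have h2 : b⁻¹ * (a⁻¹ * x * a) * b ∈ M := by
    have e : b⁻¹ * (a⁻¹ * x * a) * b = (c⁻¹)⁻¹ * x * c⁻¹ := by
      rw [hab]; group
    rw [e]; exact h1
  have h2C : b⁻¹ * (a⁻¹ * x * a) * b ∈ centralizer ({x ^ (orderOf x / q)} : Set G) :=
    mul_mem (mul_mem (inv_mem hbC) hx₁C) hbC
  have h3 : (a⁻¹ * x * a)⁻¹ * (b⁻¹ * (a⁻¹ * x * a) * b) ∈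
      M ⊓ centralizer ({x ^ (orderOf x / q)} : Set G) :=
    mem_inf.mpr ⟨M.mul_mem (M.inv_mem hx₁M) h2, mul_mem (inv_mem hx₁C) h2C⟩
  have h4 : (a⁻¹ * x * a)⁻¹ * (b⁻¹ * (a⁻¹ * x * a) * b) ∈ R := by
    have e : (a⁻¹ * x * a)⁻¹ * (b⁻¹ * (a⁻¹ * x * a) * b) =
        ((a⁻¹ * x * a)⁻¹ * b⁻¹ * ((a⁻¹ * x * a)⁻¹)⁻¹) * b := by group
    rw [e]
    exact R.mul_mem ((mem_normalizer_iff.mp (hRn (inv_mem hx₁C)) b⁻¹).mp (R.inv_mem hb)) hb
  have h5 : (a⁻¹ * x * a)⁻¹ * (b⁻¹ * (a⁻¹ * x * a) * b) = 1 := by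
    have : (a⁻¹ * x * a)⁻¹ * (b⁻¹ * (a⁻¹ * x * a) * b) ∈
        (M ⊓ centralizer ({x ^ (orderOf x / q)} : Set G)) ⊓ R := ⟨h3, h4⟩
    rw [hDR] at this
    exact mem_bot.mp this
  -- so `b` commutes with `x₁`
  have h6 : b⁻¹ * (a⁻¹ * x * a) * b = a⁻¹ * x * a := by
    calc b⁻¹ * (a⁻¹ * x * a) * b
        = (a⁻¹ * x * a) * ((a⁻¹ * x * a)⁻¹ * (b⁻¹ * (a⁻¹ * x * a) * b)) := by group
      _ = a⁻¹ * x * a := by rw [h5, mul_one]
  have h7 : x * (a * b * a⁻¹) = a * b * a⁻¹ * x := by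
    calc x * (a * b * a⁻¹) = a * b * (b⁻¹ * (a⁻¹ * x * a) * b) * a⁻¹ := by group
      _ = a * b * (a⁻¹ * x * a) * a⁻¹ := by rw [h6]
      _ = a * b * a⁻¹ * x := by group
  refine ⟨a * b * a⁻¹, ?_, a * m⁻¹, M.mul_mem ha.1 (M.inv_mem hm), ?_⟩
  · rw [mem_centralizer_iff]; intro h hh; rw [Set.mem_singleton_iff.mp hh]; exact h7
  · rw [hg', hab]; group

/-- the conclusion of **S1374**, from `SigmaDisj G`. -/
theorem s1374_of (hG : IsMinSimpleOddOrder G) (h139 : SigmaDisj G) (M : Subgroup G)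
    (hM : IsCoatom M) (x : G) (hx : x ∈ sigmaCore M) (hx1 : x ≠ 1) :
    (Nat.card ↥(M ⊓ centralizer ({x} : Set G))).Coprime
        ((M ⊓ centralizer ({x} : Set G)).relIndex (centralizer ({x} : Set G))) ∧
      ∃ R : Subgroup G, centralizer ({x} : Set G) ≤ normalizer (R : Set G) ∧
        IsComplIn (M ⊓ centralizer ({x} : Set G)) R (centralizer ({x} : Set G)) ∧
        ∀ g : G, x ∈ M.map (MulAut.conj g).toMonoidHom →
          ∃! r : G, r ∈ R ∧ M.map (MulAut.conj r).toMonoidHom = M.map (MulAut.conj g).toMonoidHom := by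
  obtain ⟨R, hRn, hc, hcop⟩ := struct hG h139 hM hx hx1
  refine ⟨?_, R, hRn, hc, ?_⟩
  · rw [Cfsg.Agent.Lib.Helper71.BG142S4.relIndex_eq_of_isComplIn_h71 hc]; exact hcop
  · intro g hg
    obtain ⟨_, hRC, hDR, hprod⟩ := hc
    obtain ⟨c, hcC, m, hm, hgcm⟩ := fusion hG h139 hM hx hx1 hg
    obtain ⟨a, ha, b, hb, hab⟩ := hprod c hcC
    have hMbot : M ≠ ⊥ := by
      intro h
      have : x ∈ (⊥ : Subgroup G) := h ▸ sigmaCore_le_self M hx
      exact hx1 (mem_bot.mp this)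
    have hNM : normalizer (M : Set G) = M :=
      Cfsg.Agent.Lib.Helper23.normalizer_eq_of_isCoatom hG hM hMbot le_rfl le_normalizer
    have hr : a * b * a⁻¹ ∈ R := (mem_normalizer_iff.mp (hRn ha.2) b).mp hb
    have hgr : cj g M = cj (a * b * a⁻¹) M := by
      have e : g = (a * b * a⁻¹) * (a * m) := by rw [hgcm, hab]; group
      rw [e, cj_mul (a * b * a⁻¹) (a * m) M, cj_eq_self_of_mem (M.mul_mem ha.1 hm)]
    refine ⟨a * b * a⁻¹, ⟨hr, ?_⟩, ?_⟩
    · rw [← cj_def, ← cj_def]; exact hgr.symm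
    · rintro r' ⟨hr', hr'M⟩
      have e1 : cj (r'⁻¹ * (a * b * a⁻¹)) M = M := by
        have h1 : cj r' M = cj (a * b * a⁻¹) M := by
          rw [cj_def, hr'M, ← cj_def]; exact hgr
        rw [cj_mul, ← h1, cj_inv_cj]
      have h2 : r'⁻¹ * (a * b * a⁻¹) ∈ M := by
        have := cj_eq_self_iff.mp e1
        rwa [hNM] at this
      have h3 : r'⁻¹ * (a * b * a⁻¹) ∈ (M ⊓ centralizer ({x} : Set G)) ⊓ R :=
        mem_inf.mpr ⟨mem_inf.mpr ⟨h2, mul_mem (inv_mem (hRC hr')) (hRC hr)⟩,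
          R.mul_mem (R.inv_mem hr') hr⟩
      rw [hDR] at h3
      have h4 : r'⁻¹ * (a * b * a⁻¹) = 1 := mem_bot.mp h3
      calc r' = r' * (r'⁻¹ * (a * b * a⁻¹)) := by rw [h4, mul_one]
        _ = a * b * a⁻¹ := by group

end Cfsg.Agent.Lib.Helper63.BG14
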