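import Mathlib
import Cfsg.Agent.Lib.Helper63.ProdCard

set_option autoImplicit false

/-!
Groups with an abelian subgroup of 2-power index are solvable, *given* Burnside's theorem on
conjugacy classes of prime power size (taken as a hypothesis `BurnsideClass`).
-/

namespace Cfsg.Agent.Lib.Helper63

universe u

open scoped Pointwise

/-- Burnside's class-size statement in universe `u`, as a proposition. -/
def BurnsideClass : Prop :=
  ∀ (G : Type u) [Group G] [Finite G] [IsSimpleGroup G] (p k : ℕ), p.Prime → ∀ g : G, g ≠ 1 →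
    (Subgroup.centralizer ({g} : Set G)).index = p ^ k → (Nat.card G).Prime

/-- `|N : A ∩ N|` divides `|G : A|` when `N` is normal. -/
theorem relIndex_dvd_index_of_normal_right {G : Type*} [Group G] [Finite G] (A N : Subgroup G)
    [N.Normal] : A.relIndex N ∣ A.index := by
  have h1 : A.relIndex (A ⊔ N) ∣ A.index := Subgroup.relIndex_dvd_index_of_le le_sup_left
  have h2 : A.relIndex (A ⊔ N) = A.relIndex N := by
    have hc := card_prodSet_mul_card_inf A N
    have hset : ((A : Set G) * (N : Set G) : Set G) = ((A ⊔ N : Subgroup G) : Set G) :=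
      (Subgroup.mul_normal A N).symm
    rw [hset] at hc
    -- |A ⊔ N| = |A| * relIndex
    have h3 : A.relIndex (A ⊔ N) * Nat.card A = Nat.card ↥(A ⊔ N) := by
      have := Subgroup.relIndex_mul_relIndex ⊥ A (A ⊔ N) bot_le le_sup_left
      rw [Subgroup.relIndex_bot_left, Subgroup.relIndex_bot_left] at this
      rw [mul_comm]; exact this
    have h4 : A.relIndex N * Nat.card ↥(A ⊓ N) = Nat.card N := by
      have := Subgroup.relIndex_mul_relIndex ⊥ (A ⊓ N) N bot_le inf_le_right
      rw [Subgroup.relIndex_bot_left, Subgroup.relIndex_bot_left, Subgroup.inf_relIndex_right] at this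
      rw [mul_comm]; exact this
    have hApos : 0 < Nat.card A := Nat.card_pos
    have hIpos : 0 < Nat.card ↥(A ⊓ N) := Nat.card_pos
    have : A.relIndex (A ⊔ N) * (Nat.card A * Nat.card ↥(A ⊓ N)) =
        A.relIndex N * (Nat.card A * Nat.card ↥(A ⊓ N)) := by
      calc A.relIndex (A ⊔ N) * (Nat.card A * Nat.card ↥(A ⊓ N))
          = (A.relIndex (A ⊔ N) * Nat.card A) * Nat.card ↥(A ⊓ N) := by ring
        _ = Nat.card ↥(A ⊔ N) * Nat.card ↥(A ⊓ N) := by rw [h3]
        _ = Nat.card A * Nat.card N := hc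
        _ = Nat.card A * (A.relIndex N * Nat.card ↥(A ⊓ N)) := by rw [h4]
        _ = A.relIndex N * (Nat.card A * Nat.card ↥(A ⊓ N)) := by ring
    exact Nat.eq_of_mul_eq_mul_right (Nat.mul_pos hApos hIpos) this
  rw [← h2]; exact h1

theorem solvable_of_abelian_two_power_index_aux (hB : BurnsideClass.{u}) :
    ∀ (n : ℕ) (G : Type u) [Group G] [Finite G], Nat.card G = n → ∀ (A : Subgroup G),
      IsMulCommutative A → (∃ k : ℕ, A.index = 2 ^ k) → Group.IsSolvable G := by
  intro n
  induction n using Nat.strong_induction_on with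
  | _ n ih =>
  intro G _ _ hn A hA ⟨k, hk⟩
  by_cases hAbot : A = ⊥
  · -- G is a 2-group
    subst hAbot
    rw [Subgroup.index_bot] at hk
    have : Fact (Nat.Prime 2) := ⟨Nat.prime_two⟩
    have hP : IsPGroup 2 G := IsPGroup.of_card hk
    have := hP.isNilpotent
    infer_instance
  -- pick a nontrivial element of A
  obtain ⟨a, haA, ha1⟩ : ∃ a ∈ A, a ≠ 1 := by
    by_contra hcon
    apply hAbot
    rw [eq_bot_iff]
    intro x hx
    by_contra hx1
    exact hcon ⟨x, hx, hx1⟩
  have hAle : A ≤ Subgroup.centralizer ({a} : Set G) := by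
    intro x hx
    rw [Subgroup.mem_centralizer_iff]
    intro y hy
    rw [Set.mem_singleton_iff] at hy
    subst hy
    have := hA.is_comm.comm (⟨y, haA⟩ : A) ⟨x, hx⟩
    exact congrArg Subtype.val this
  have hCidx : ∃ j : ℕ, (Subgroup.centralizer ({a} : Set G)).index = 2 ^ j := by
    have hd : (Subgroup.centralizer ({a} : Set G)).index ∣ 2 ^ k := by
      rw [← hk]; exact Subgroup.index_dvd_of_le hAle
    obtain ⟨j, _, hj⟩ := (Nat.dvd_prime_pow Nat.prime_two).1 hd
    exact ⟨j, hj⟩
  have : Nontrivial G := ⟨⟨a, 1, ha1⟩⟩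
  by_cases hsimple : IsSimpleGroup G
  · obtain ⟨j, hj⟩ := hCidx
    have hprime := hB G 2 j Nat.prime_two a ha1 hj
    have : Fact (Nat.card G).Prime := ⟨hprime⟩
    have : IsCyclic G := isCyclic_of_prime_card rfl
    let _ : CommGroup G := IsCyclic.commGroup
    exact Group.isSolvable_of_comm (fun a b => mul_comm a b)
  · -- there is a proper nontrivial normal subgroup
    obtain ⟨N, hNn, hNbot, hNtop⟩ : ∃ N : Subgroup G, N.Normal ∧ N ≠ ⊥ ∧ N ≠ ⊤ := by
      by_contra hcon
      apply hsimple
      refine ⟨fun N hN => ?_⟩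
      by_contra hne
      rw [not_or] at hne
      exact hcon ⟨N, hN, hne.1, hne.2⟩
    have := hNn
    -- N is solvable
    have hNcard : Nat.card N < n := by
      rw [← hn]
      have hlt : N < ⊤ := lt_top_iff_ne_top.2 hNtop
      have h1 : Nat.card N ∣ Nat.card G := Subgroup.card_subgroup_dvd_card N
      have h2 : Nat.card N ≠ Nat.card G := by
        intro h
        exact hNtop ((Subgroup.card_eq_iff_eq_top N).1 h)
      exact lt_of_le_of_ne (Nat.le_of_dvd Nat.card_pos h1) h2
    have hNsolv : Group.IsSolvable N := by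
      refine ih _ hNcard N rfl (A.subgroupOf N) ?_ ?_
      · refine ⟨⟨fun x y => ?_⟩⟩
        have := hA.is_comm.comm (⟨x.1.1, x.2⟩ : A) ⟨y.1.1, y.2⟩
        have h2 : (x.1.1 : G) * y.1.1 = y.1.1 * x.1.1 := congrArg Subtype.val this
        apply Subtype.ext
        apply Subtype.ext
        exact h2
      · have hd : A.relIndex N ∣ 2 ^ k := by
          rw [← hk]; exact relIndex_dvd_index_of_normal_right A N
        obtain ⟨j, _, hj⟩ := (Nat.dvd_prime_pow Nat.prime_two).1 hd
        exact ⟨j, hj⟩
    -- G ⧸ N is solvable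
    have hQcard : Nat.card (G ⧸ N) < n := by
      rw [← hn, ← Subgroup.index_eq_card, ← Subgroup.card_mul_index N]
      have h1 : 1 < Nat.card N := by
        rw [Nat.one_lt_iff_ne_zero_and_ne_one]
        refine ⟨Nat.card_pos.ne', fun h => hNbot ?_⟩
        exact (Subgroup.card_eq_one).1 h
      have h2 : 0 < N.index := Nat.pos_of_ne_zero Subgroup.index_ne_zero_of_finite
      nlinarith
    have hQsolv : Group.IsSolvable (G ⧸ N) := by
      refine ih _ hQcard (G ⧸ N) rfl (A.map (QuotientGroup.mk' N)) ?_ ?_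
      · refine ⟨⟨fun x y => ?_⟩⟩
        obtain ⟨x, hx⟩ := x
        obtain ⟨y, hy⟩ := y
        obtain ⟨x', hx', rfl⟩ := hx
        obtain ⟨y', hy', rfl⟩ := hy
        apply Subtype.ext
        have := hA.is_comm.comm (⟨x', hx'⟩ : A) ⟨y', hy'⟩
        have h2 : x' * y' = y' * x' := congrArg Subtype.val this
        change QuotientGroup.mk' N x' * QuotientGroup.mk' N y' =
          QuotientGroup.mk' N y' * QuotientGroup.mk' N x'
        rw [← map_mul, ← map_mul, h2]
      · have hd : (A.map (QuotientGroup.mk' N)).index ∣ 2 ^ k := by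
          rw [← hk]; exact Subgroup.index_map_dvd A (QuotientGroup.mk'_surjective N)
        obtain ⟨j, _, hj⟩ := (Nat.dvd_prime_pow Nat.prime_two).1 hd
        exact ⟨j, hj⟩
    have := hNsolv
    have := hQsolv
    refine Group.isSolvable_of_ker_le_range N.subtype (QuotientGroup.mk' N) ?_
    rw [QuotientGroup.ker_mk', Subgroup.range_subtype]

theorem solvable_of_abelian_two_power_index (hB : BurnsideClass.{u}) {G : Type u} [Group G]
    [Finite G] (A : Subgroup G) (hA : IsMulCommutative A) (hidx : ∃ k : ℕ, A.index = 2 ^ k) :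
    Group.IsSolvable G :=
  solvable_of_abelian_two_power_index_aux hB _ G rfl A hA hidx

end Cfsg.Agent.Lib.Helper63
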