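import Cfsg.Agent.Lib.Helper63.BG13b
import Cfsg.Agent.Lib.Helper70.BG134c
import Cfsg.Agent.Lib.Helper68.BG1215a
import Cfsg.Agent.Lib.Helper96.BG103
import Cfsg.Agent.S1405
import Cfsg.Agent.S1422

set_option autoImplicit false
set_option linter.style.haveILetI false
set_option linter.unusedSectionVars false

/-!
# Bender–Glauberman Theorem 13.4: assembly

The theorem is assembled from the statements of its pieces (`CaseAStmt`, `CaseBStmt`, `Tau2Stmt`,
`F4Stmt`, `F2Stmt`), which are proved in other files.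
-/

namespace Cfsg.Agent.Lib.Helper63.BG13

open Subgroup Cfsg Cfsg.Agent.Lib.Helper33 Cfsg.Agent.Lib.Helper24 Cfsg.Agent.Lib.Helper24.BG
open Cfsg.Agent.Lib.Helper47.BG11 Cfsg.Agent.Lib.Helper63

universe u

open scoped commutatorElement

variable {G : Type u} [Group G] [Finite G]

/-! ### the pieces, as statements -/

/-- CASE A: the bad prime `q` lies in `τ₃(H)` -/
def CaseAStmt (G : Type u) [Group G] : Prop :=
  ∀ (M : Subgroup G), IsCoatom M → ∀ (E : Subgroup G), IsComplIn E (sigmaCore M) M →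
  ∀ (p : ℕ), p ∈ tau1 M → ∀ (P : Subgroup G), P ≤ E → Nat.card P = p →
  ∀ (R : Subgroup G), R ≤ E ⊓ centralizer (P : Set G) → (Nat.card R).Prime → Nat.card R ≠ p →
  ∀ (H : Subgroup G), IsCoatom H → sigmaCore M ⊓ centralizer (P : Set G) ≤ H → P ≤ H → R ≤ H →
  p ∈ sigma H → Nat.card R ∈ tau1 H →
  ∀ (q : ℕ) [Fact q.Prime], q ∈ tau3 H → ∀ (Q₀ : Subgroup G), IsPGroup q Q₀ →
  Q₀ ≤ sigmaCore M ⊓ centralizer (P : Set G) → R ≤ normalizer (Q₀ : Set G) →
  ¬ Q₀ ≤ centralizer (R : Set G) → False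

/-- CASE B, mechanism form -/
def CaseBStmt (G : Type u) [Group G] : Prop :=
  ∀ (M H : Subgroup G), IsCoatom M → IsCoatom H → H ≠ M →
  ∀ (r q : ℕ) [Fact r.Prime] [Fact q.Prime], r ∈ tau1 M → r ∈ tau1 H → q ∉ alpha M → q ∉ alpha H →
  ∀ (P R Q₂ : Subgroup G), Nat.card R = r → R ≤ M → R ≤ H → IsPGroup q Q₂ → Q₂ ≠ ⊥ → Q₂ ≤ M →
  Q₂ ≤ H → R ≤ normalizer (Q₂ : Set G) → Q₂ ⊓ centralizer (R : Set G) = ⊥ → Q₂ ≤ ⁅Q₂, R⁆ →
  P ≠ ⊥ → P ≤ alphaCore H → P ≤ centralizer (Q₂ : Set G) → P ≤ centralizer (R : Set G) →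
  alphaCore M ≠ ⊥ → alphaCore M ⊓ centralizer (P : Set G) ≤ centralizer (R : Set G) →
  alphaCore M ⊓ centralizer (R : Set G) ≤ centralizer (P : Set G) → False

/-- no prime of `C_{M_σ}(P)` lies in `τ₂(H)` -/
def Tau2Stmt (G : Type u) [Group G] : Prop :=
  ∀ (M H : Subgroup G), IsCoatom M → IsCoatom H → H ≠ M → ∀ (p q : ℕ) [Fact p.Prime]
  [Fact q.Prime], p ∈ sigma H → q ∈ sigma M → q ∈ tau2 H → ∀ (P X : Subgroup G), IsPGroup p P →
  P ≠ ⊥ → P ≤ M → P ≤ H → Nat.card X = q → X ≤ M → X ≤ H → P ≤ centralizer (X : Set G) → False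

/-- BG 12.14(d2), conjugation invariant form -/
def F4Stmt (G : Type u) [Group G] [Finite G] : Prop :=
  ∀ (M N : Subgroup G), IsCoatom M → IsCoatom N → (∀ g : G, N ≠ cj g M) → ∀ (q : ℕ),
  q ∈ sigma M → q ∈ sigma N → tau1 N ⊆ tau1 M ∪ alpha M

/-- BG 12.14(d3), conjugation invariant form -/
def F2Stmt (G : Type u) [Group G] [Finite G] : Prop :=
  ∀ (M N : Subgroup G), IsCoatom M → IsCoatom N → (∀ g : G, N ≠ cj g M) → ∀ (q : ℕ),
  q ∈ sigma M → q ∈ sigma N → alphaCore M ≠ ⊥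

/-! ### the bad prime -/

theorem commutator_ne_bot_of_not_le_centralizer {Q R : Subgroup G}
    (h : ¬ Q ≤ centralizer (R : Set G)) : ⁅Q, R⁆ ≠ ⊥ := by
  intro hb
  apply h
  intro x hx
  rw [mem_centralizer_iff]
  intro y hy
  have h1 : ⁅x, y⁆ ∈ ⁅Q, R⁆ := Subgroup.commutator_mem_commutator hx hy
  rw [hb, Subgroup.mem_bot] at h1
  have h2 := commutatorElement_eq_one_iff_mul_comm.mp h1
  exact h2.symm

/-- the position of a bad prime `q` with respect to `H`: `q ∈ σ(H)` or `q ∈ τ₃(H)` -/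
theorem bad_prime_cases (hG : IsMinSimpleOddOrder G) (h2 : Tau2Stmt G) {M H : Subgroup G}
    (hM : IsCoatom M) (hH : IsCoatom H) (hne : H ≠ M) {p q : ℕ} [hp : Fact p.Prime]
    [hq : Fact q.Prime] (hpH : p ∈ sigma H) (hqM : q ∈ sigma M) {P R Q₀ : Subgroup G}
    (hP : IsPGroup p P) (hP1 : P ≠ ⊥) (hPM : P ≤ M) (hPH : P ≤ H) (hRH : R ≤ H)
    (hQq : IsPGroup q Q₀) (hQM : Q₀ ≤ M) (hQH : Q₀ ≤ H) (hPQ : P ≤ centralizer (Q₀ : Set G))
    (hRQ : R ≤ normalizer (Q₀ : Set G)) (hnot : ¬ Q₀ ≤ centralizer (R : Set G)) :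
    q ∈ sigma H ∨ q ∈ tau3 H := by
  by_cases hqσ : q ∈ sigma H
  · exact Or.inl hqσ
  right
  have hU := uniqStmt hG
  have hqp : q.Prime := hq.out
  have hcne := commutator_ne_bot_of_not_le_centralizer hnot
  have hcle : ⁅Q₀, R⁆ ≤ Q₀ := Cfsg.Agent.Lib.Helper24.commutator_le_of_le_normalizer Q₀ R hRQ
  have hcH : ⁅Q₀, R⁆ ≤ ⁅H, H⁆ := Subgroup.commutator_mono hQH hRH
  have hdvd' : q ∣ Nat.card ↥⁅Q₀, R⁆ := by
    rcases (hQq.to_le hcle).card_eq_or_dvd with h | h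
    · exact absurd (Subgroup.card_eq_one.mp h) hcne
    · exact h
  have hdvd : q ∣ Nat.card ↥⁅H, H⁆ := hdvd'.trans (Subgroup.card_dvd_of_le hcH)
  have hr2 : PRankLE q 2 ↥H := by
    by_contra h
    exact hqσ (Cfsg.Agent.Lib.Helper23.alpha_subset_sigma hG hU hH ⟨hqp, h⟩)
  have hr1 : PRankLE q 1 ↥H := by
    by_contra h
    have hτ : q ∈ tau2 H := ⟨hqp, hqσ, hr2, h⟩
    -- a subgroup of order `q` of `Q₀`
    have hQ1 : Q₀ ≠ ⊥ := by
      intro hb
      apply hnot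
      rw [hb]; exact bot_le
    obtain ⟨y, hy, hyq, hy1⟩ := Cfsg.Agent.Lib.Helper47.BG12.exists_order_prime hQq hQ1
    have hoy : orderOf y = q := orderOf_eq_prime hyq hy1
    set X := zpowers y with hX
    have hXc : Nat.card X = q := by rw [hX, Nat.card_zpowers, hoy]
    have hXQ : X ≤ Q₀ := zpowers_le.mpr hy
    exact h2 M H hM hH hne p q hpH hqM hτ P X hP hP1 hPM hPH hXc (hXQ.trans hQM) (hXQ.trans hQH)
      (hPQ.trans (centralizer_le (SetLike.coe_subset_coe.mpr hXQ)))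
  exact ⟨hqp, hqσ, hdvd, hr1⟩


/-! ### Theorem α -/

/-- **Theorem α**: `C_{M_α}(P) ≤ C(R)`, from CASE A alone. -/
theorem alpha_claim (hG : IsMinSimpleOddOrder G) (hA : CaseAStmt G) (h2 : Tau2Stmt G)
    {M : Subgroup G} (hM : IsCoatom M) {E : Subgroup G} (hE : IsComplIn E (sigmaCore M) M) {p : ℕ}
    (hp : p ∈ tau1 M) {P : Subgroup G} (hPE : P ≤ E) (hP : Nat.card P = p) {R : Subgroup G}
    (hRE : R ≤ E ⊓ centralizer (P : Set G)) (hR : (Nat.card R).Prime) (hrp : Nat.card R ≠ p) :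
    alphaCore M ⊓ centralizer (P : Set G) ≤ centralizer (R : Set G) := by
  by_contra hbadα
  have hU := uniqStmt hG
  have hHall := hallStmt hG
  have hpp : p.Prime := hp.1
  haveI : Fact p.Prime := ⟨hpp⟩
  have h5 := Cfsg.Agent.S1405.result hG M hM
  have hαHall : IsPiHallOf (alpha M) (alphaCore M) M := h5.1
  have hασ : alphaCore M ≤ sigmaCore M := h5.2.2.1
  have hEM : E ≤ M := hE.1
  have hPM : P ≤ M := hPE.trans hEM
  have hRM : R ≤ M := (hRE.trans inf_le_left).trans hEM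
  have hRP : R ≤ centralizer (P : Set G) := hRE.trans inf_le_right
  have hpσ : p ∉ sigma M := hp.2.1
  have hrE : Nat.card R ∣ Nat.card E := Subgroup.card_dvd_of_le (hRE.trans inf_le_left)
  have hrσ : Nat.card R ∉ sigma M :=
    Cfsg.Agent.Lib.Helper96.BG127.not_mem_sigma_of_dvd_card_compl (hHall M hM) hE hR hrE
  have hYC : alphaCore M ⊓ centralizer (P : Set G) ≤ sigmaCore M ⊓ centralizer (P : Set G) :=
    inf_le_inf_right _ hασ
  have hbad : ¬ sigmaCore M ⊓ centralizer (P : Set G) ≤ centralizer (R : Set G) :=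
    fun h => hbadα (hYC.trans h)
  obtain ⟨H, hH, hCH, hPH, hRH, hpH, hrH⟩ := exists_H hG hM hE hp hPE hP hRE hR hrp hbad
  have hRY : R ≤ normalizer ((alphaCore M ⊓ centralizer (P : Set G) : Subgroup G) : Set G) :=
    le_normalizer_inf (hRM.trans (Cfsg.Agent.Lib.Helper96.BG103.le_normalizer_alphaCore M))
      (hRP.trans le_normalizer)
  have hcop : (Nat.card R).Coprime (Nat.card ↥(alphaCore M ⊓ centralizer (P : Set G))) := by
    rw [Nat.Prime.coprime_iff_not_dvd hR]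
    intro h
    have h1 : Nat.card R ∈ alpha M :=
      hαHall.2.1 _ hR (h.trans (Subgroup.card_dvd_of_le inf_le_left))
    exact hrσ (Cfsg.Agent.Lib.Helper23.alpha_subset_sigma hG hU hM h1)
  have hRtop : R ≠ ⊤ := fun h => hM.1 (top_le_iff.mp (h ▸ hRM))
  have hsolvR : Group.IsSolvable ↥R := Cfsg.Agent.Lib.Helper23.isSolvable_of_ne_top hG hRtop
  obtain ⟨q, hqF, Q₀, hQY, hQq, hRQ, hnot⟩ :=
    Cfsg.Agent.Lib.Helper70.BG134.exists_bad_sylow hRY hcop (Or.inr hsolvR) hbadα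
  haveI := hqF
  have hqp : q.Prime := hqF.out
  have hQ1 : Q₀ ≠ ⊥ := by
    intro hb
    apply hnot
    rw [hb]; exact bot_le
  have hqQ : q ∣ Nat.card Q₀ := by
    rcases hQq.card_eq_or_dvd with h | h
    · exact absurd (Subgroup.card_eq_one.mp h) hQ1
    · exact h
  have hqα : q ∈ alpha M :=
    hαHall.2.1 q hqp (hqQ.trans (Subgroup.card_dvd_of_le (hQY.trans inf_le_left)))
  have hqσM : q ∈ sigma M := Cfsg.Agent.Lib.Helper23.alpha_subset_sigma hG hU hM hqα
  have hnc : ∀ g : G, H ≠ cj g M := by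
    intro g hg
    apply hpσ
    have h1 : p ∈ sigma (cj g M) := hg ▸ hpH
    have h2 := sigma_cj g⁻¹ h1
    rwa [cj_inv_cj] at h2
  have hne : H ≠ M := fun h => hpσ (h ▸ hpH)
  have hqσH : q ∉ sigma H := by
    intro h
    obtain ⟨g, hg⟩ := conj_of_sigma_alpha hU hM hH h hqα
    apply hnc g⁻¹
    rw [hg, cj_inv_cj]
  have hPp : IsPGroup p P := IsPGroup.of_card (n := 1) (by rw [hP, pow_one])
  have hP1 : P ≠ ⊥ := by
    intro h
    rw [h, Subgroup.card_bot] at hP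
    exact hpp.one_lt.ne hP
  have hQC : Q₀ ≤ sigmaCore M ⊓ centralizer (P : Set G) := hQY.trans hYC
  have hPQ : P ≤ centralizer (Q₀ : Set G) := by
    intro x hx
    rw [mem_centralizer_iff]
    intro y hy
    have := (mem_centralizer_iff.mp ((hQC.trans inf_le_right) hy)) x hx
    exact this.symm
  rcases bad_prime_cases hG h2 hM hH hne hpH hqσM hPp hP1 hPM hPH hRH hQq
      ((hQC.trans inf_le_left).trans (sigmaCore_le M)) (hQC.trans hCH) hPQ hRQ hnot with h | h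
  · exact hqσH h
  · exact hA M hM E hE p hp P hPE hP R hRE hR hrp H hH hCH hPH hRH hpH hrH q h Q₀ hQq hQC hRQ hnot

/-! ### Theorem 13.4 -/

/-- **BG Theorem 13.4**, from its pieces. -/
theorem bg13_4 (hG : IsMinSimpleOddOrder G) (hA : CaseAStmt G) (hB : CaseBStmt G)
    (h2 : Tau2Stmt G) (hF4 : F4Stmt G) (hF2 : F2Stmt G)
    {M : Subgroup G} (hM : IsCoatom M) {E : Subgroup G} (hE : IsComplIn E (sigmaCore M) M) {p : ℕ}
    (hp : p ∈ tau1 M) {P : Subgroup G} (hPE : P ≤ E) (hP : Nat.card P = p) {R : Subgroup G}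
    (hRE : R ≤ E ⊓ centralizer (P : Set G)) (hR : (Nat.card R).Prime) :
    sigmaCore M ⊓ centralizer (P : Set G) ≤ sigmaCore M ⊓ centralizer (R : Set G) := by
  refine le_inf inf_le_left ?_
  have hU := uniqStmt hG
  have hHall := hallStmt hG
  have hpp : p.Prime := hp.1
  haveI : Fact p.Prime := ⟨hpp⟩
  have hEM : E ≤ M := hE.1
  have hPM : P ≤ M := hPE.trans hEM
  have hRM : R ≤ M := (hRE.trans inf_le_left).trans hEM
  have hRP : R ≤ centralizer (P : Set G) := hRE.trans inf_le_right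
  have hPR : P ≤ centralizer (R : Set G) := by
    intro x hx
    rw [mem_centralizer_iff]
    intro y hy
    have := (mem_centralizer_iff.mp (hRP hy)) x hx
    exact this.symm
  have hpσ : p ∉ sigma M := hp.2.1
  have hr1M : PRankLE p 1 ↥M := hp.2.2.2.2
  have hPp : IsPGroup p P := IsPGroup.of_card (n := 1) (by rw [hP, pow_one])
  have hP1 : P ≠ ⊥ := by
    intro h
    rw [h, Subgroup.card_bot] at hP
    exact hpp.one_lt.ne hP
  by_cases hrp : Nat.card R = p
  · -- `R = P`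
    have hp2 : p ≠ 2 := ne_two_of_dvd_card hG
      ((hP ▸ Subgroup.card_subgroup_dvd_card P : p ∣ Nat.card G))
    have hRp : IsPGroup p R := IsPGroup.of_card (n := 1) (by rw [hrp, pow_one])
    have hPRn : P ≤ normalizer (R : Set G) := hPR.trans (centralizer_le_normalizer _)
    have hsup : IsPGroup p ↥(P ⊔ R) := by
      have hd := Cfsg.Agent.Lib.Helper23.card_sup_dvd_of_le_normalizer P R hPRn
      rw [hP, hrp] at hd
      have hd2 : Nat.card ↥(P ⊔ R) ∣ p ^ 2 := by rw [pow_two]; exact hd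
      obtain ⟨k, -, hk⟩ := (Nat.dvd_prime_pow hpp).mp hd2
      exact IsPGroup.of_card hk
    have hcyc := isCyclic_of_le_of_pRankLE_one hp2 hsup (sup_le hPM hRM) hr1M
    have : R = P := eq_of_card_prime_of_le_isCyclic hcyc hrp hP le_sup_right le_sup_left
    rw [this]
    exact inf_le_right
  by_contra hbad
  have hrE : Nat.card R ∣ Nat.card E := Subgroup.card_dvd_of_le (hRE.trans inf_le_left)
  have hrσ : Nat.card R ∉ sigma M :=
    Cfsg.Agent.Lib.Helper96.BG127.not_mem_sigma_of_dvd_card_compl (hHall M hM) hE hR hrE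
  obtain ⟨H, hH, hCH, hPH, hRH, hpH, hrH⟩ := exists_H hG hM hE hp hPE hP hRE hR hrp hbad
  have hRC : R ≤ normalizer ((sigmaCore M ⊓ centralizer (P : Set G) : Subgroup G) : Set G) :=
    le_normalizer_inf (hRM.trans (le_normalizer_sigmaCore M)) (hRP.trans le_normalizer)
  have hcop : (Nat.card R).Coprime (Nat.card ↥(sigmaCore M ⊓ centralizer (P : Set G))) := by
    rw [Nat.Prime.coprime_iff_not_dvd hR]
    intro h
    exact hrσ (mem_sigma_of_dvd_card_le inf_le_left hR h)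
  have hRtop : R ≠ ⊤ := fun h => hM.1 (top_le_iff.mp (h ▸ hRM))
  have hsolvR : Group.IsSolvable ↥R := Cfsg.Agent.Lib.Helper23.isSolvable_of_ne_top hG hRtop
  obtain ⟨q, hqF, Q₀, hQC, hQq, hRQ, hnot⟩ :=
    Cfsg.Agent.Lib.Helper70.BG134.exists_bad_sylow hRC hcop (Or.inr hsolvR) hbad
  haveI := hqF
  have hqp : q.Prime := hqF.out
  have hQ1 : Q₀ ≠ ⊥ := by
    intro hb
    apply hnot
    rw [hb]; exact bot_le
  have hqQ : q ∣ Nat.card Q₀ := by
    rcases hQq.card_eq_or_dvd with h | h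
    · exact absurd (Subgroup.card_eq_one.mp h) hQ1
    · exact h
  have hqσM : q ∈ sigma M := mem_sigma_of_dvd_card_le (hQC.trans inf_le_left) hqp hqQ
  have hnc : ∀ g : G, H ≠ cj g M := by
    intro g hg
    apply hpσ
    have h1 : p ∈ sigma (cj g M) := hg ▸ hpH
    have h2 := sigma_cj g⁻¹ h1
    rwa [cj_inv_cj] at h2
  have hnc' : ∀ g : G, M ≠ cj g H := by
    intro g hg
    apply hnc g⁻¹
    rw [hg, cj_inv_cj]
  have hne : H ≠ M := fun h => hpσ (h ▸ hpH)
  have hQM : Q₀ ≤ M := (hQC.trans inf_le_left).trans (sigmaCore_le M)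
  have hQH : Q₀ ≤ H := hQC.trans hCH
  have hPQ : P ≤ centralizer (Q₀ : Set G) := by
    intro x hx
    rw [mem_centralizer_iff]
    intro y hy
    have := (mem_centralizer_iff.mp ((hQC.trans inf_le_right) hy)) x hx
    exact this.symm
  rcases bad_prime_cases hG h2 hM hH hne hpH hqσM hPp hP1 hPM hPH hRH hQq hQM hQH hPQ hRQ hnot
    with hqσH | hqτ
  · -- CASE B
    set r := Nat.card R with hr
    haveI : Fact r.Prime := ⟨hR⟩
    have hrM : r ∈ tau1 M := by
      rcases hF4 M H hM hH hnc q hqσM hqσH hrH with h | h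
      · exact h
      · exact absurd (Cfsg.Agent.Lib.Helper23.alpha_subset_sigma hG hU hM h) hrσ
    have hpαH : p ∈ alpha H := by
      rcases hF4 H M hH hM hnc' q hqσH hqσM hp with h | h
      · exact absurd hpH h.2.1
      · exact h
    have hαM1 : alphaCore M ≠ ⊥ := hF2 M H hM hH hnc q hqσM hqσH
    have hqαM : q ∉ alpha M := by
      intro h
      obtain ⟨g, hg⟩ := conj_of_sigma_alpha hU hM hH hqσH h
      exact hnc' g hg
    have hqαH : q ∉ alpha H := by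
      intro h
      obtain ⟨g, hg⟩ := conj_of_sigma_alpha hU hH hM hqσM h
      exact hnc g hg
    have h5H := Cfsg.Agent.S1405.result hG H hH
    have hPα : P ≤ alphaCore H :=
      Cfsg.Agent.Lib.Helper68.BG1215.le_of_isPGroup_of_not_dvd h5H.1.1
        (Cfsg.Agent.Lib.Helper96.BG103.le_normalizer_alphaCore H) hPH hPp
        (h5H.1.2.2 p hpp hpαH)
    -- `Q₀` is abelian
    have hQab : IsMulCommutative ↥Q₀ := by
      by_contra hna
      obtain ⟨M₀, -, huniq⟩ := Cfsg.Agent.S1422.result hG q Q₀ hQq hna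
      exact hne ((huniq H ⟨hH, hQH⟩).trans (huniq M ⟨hM, hQM⟩).symm)
    haveI := hQab
    have hcopQ : (Nat.card R).Coprime (Nat.card Q₀) := by
      rw [Nat.Prime.coprime_iff_not_dvd hR]
      intro h
      exact hrσ (mem_sigma_of_dvd_card_le (hQC.trans inf_le_left) hR h)
    set Q₂ := ⁅Q₀, R⁆ with hQ₂
    have hQ₂le : Q₂ ≤ Q₀ := Cfsg.Agent.Lib.Helper24.commutator_le_of_le_normalizer Q₀ R hRQ
    have hQ₂1 : Q₂ ≠ ⊥ := commutator_ne_bot_of_not_le_centralizer hnot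
    have hQ₂R : R ≤ normalizer (Q₂ : Set G) :=
      Cfsg.Agent.Lib.Helper24.le_normalizer_commutator_right Q₀ R hRQ
    have hQ₂fix : Q₂ ⊓ centralizer (R : Set G) = ⊥ :=
      Cfsg.Agent.Lib.Helper24.commutator_inf_centralizer_eq_bot_of_abelian Q₀ R hRQ hcopQ
    have hQ₂comm : Q₂ ≤ ⁅Q₂, R⁆ :=
      le_of_eq (Cfsg.Agent.Lib.Helper24.commutator_commutator_eq R Q₀ hRQ hcopQ
        (Or.inl hsolvR)).symm
    have hα1 := alpha_claim hG hA h2 hM hE hp hPE hP hRE hR hrp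
    have hPE' : P ≤ E ⊓ centralizer (R : Set G) := le_inf hPE hPR
    have hPprime : (Nat.card P).Prime := hP ▸ hpp
    have hα2 := alpha_claim hG hA h2 hM hE hrM (hRE.trans inf_le_left) rfl hPE' hPprime
      (by rw [hP]; exact fun h => hrp h.symm)
    exact hB M H hM hH hne r q hrM hrH hqαM hqαH P R Q₂ rfl hRM hRH (hQq.to_le hQ₂le) hQ₂1
      (hQ₂le.trans hQM) (hQ₂le.trans hQH) hQ₂R hQ₂fix hQ₂comm hP1 hPα
      (hPQ.trans (centralizer_le (SetLike.coe_subset_coe.mpr hQ₂le))) hPR hαM1 hα1 hα2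
  · exact hA M hM E hE p hp P hPE hP R hRE hR hrp H hH hCH hPH hRH hpH hrH q hqτ Q₀ hQq hQC hRQ hnot

end Cfsg.Agent.Lib.Helper63.BG13
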