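import Cfsg.Agent.S1375
import Cfsg.Agent.S1420
import Cfsg.Agent.Lib.Helper19.BG117H
import Cfsg.Agent.Lib.Helper32.RankGen
import Cfsg.Agent.Lib.Helper59.SigmaNeBot
import Cfsg.Agent.Lib.Helper47.BG11e
import Cfsg.Agent.Lib.Helper70.BG1216b

set_option autoImplicit false
set_option linter.style.haveILetI false

/-!
# BG157 leaf L2 (`exists_D`)

For `x ≠ 1` in `M_σ` with `C_G(x) ⊄ M`: with `N` the maximal subgroup over `C_G(x)` (S1375),
`D := M ⊓ N` is a complement of `N_σ` in `N`; its nilpotent subgroups are abelian (S1420(1) for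
`N`), and every `E_{q²} ≤ D` contains some `b ≠ 1` with `C_G(b) ≤ N` (S1420(4) for `N`).
-/

namespace Cfsg.Agent.Lib.Helper91.BG157

open Subgroup Cfsg

universe u

variable {G : Type u} [Group G] [Finite G]

/-- primes dividing the order of a subgroup of a complement of `N_σ` are not in `σ(N)`. -/
theorem l2_not_mem_sigma {N E Y : Subgroup G} (hσ : IsPiHallOf (sigma N) (sigmaCore N) N)
    (hE : IsComplIn E (sigmaCore N) N) (hY : Y ≤ E) {p : ℕ} (hp : p.Prime)
    (hpY : p ∣ Nat.card Y) : p ∉ sigma N := by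
  intro hpσ
  have hcop := Cfsg.Agent.Lib.Helper70.BG1216.coprime_card_compl hσ hE
  have hpE : p ∣ Nat.card E := hpY.trans (Subgroup.card_dvd_of_le hY)
  -- `p ∣ |N_σ|` since `N_σ` is a Hall `σ(N)`-subgroup and `p ∣ |N|`
  have hpN : p ∣ Nat.card N := hpE.trans (Subgroup.card_dvd_of_le hE.1)
  have hnd : ¬ p ∣ (sigmaCore N).relIndex N := hσ.2.2 p hp hpσ
  have hmul : (sigmaCore N).relIndex N * Nat.card (sigmaCore N) = Nat.card N := by
    have h1 := Subgroup.card_mul_index ((sigmaCore N).subgroupOf N)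
    have hc : Nat.card ((sigmaCore N).subgroupOf N) = Nat.card (sigmaCore N) :=
      Nat.card_congr (Subgroup.subgroupOfEquivOfLe hσ.1).toEquiv
    rw [hc] at h1
    rw [mul_comm]
    exact h1
  have hpσc : p ∣ Nat.card (sigmaCore N) := by
    rw [← hmul] at hpN
    rcases (Nat.Prime.dvd_mul hp).mp hpN with h | h
    · exact absurd h hnd
    · exact h
  have h1 : p ∣ Nat.gcd (Nat.card E) (Nat.card (sigmaCore N)) := Nat.dvd_gcd hpE hpσc
  rw [hcop] at h1
  exact hp.one_lt.ne' (Nat.dvd_one.mp h1)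

theorem exists_D (hG : IsMinSimpleOddOrder G) {M : Subgroup G} (hM : IsCoatom M) (x : G)
    (hx : x ∈ sigmaCore M) (hx1 : x ≠ 1) (hxM : ¬ centralizer ({x} : Set G) ≤ M) :
    ∃ D : Subgroup G, D ≤ M ∧ M ⊓ centralizer ({x} : Set G) ≤ D ∧
      (∀ Y : Subgroup G, Y ≤ D → Group.IsNilpotent ↥Y → IsMulCommutative ↥Y) ∧
      ∀ (q : ℕ) (B : Subgroup G), q.Prime → B ≤ D → IsElementaryAbelian q B → Nat.card B = q ^ 2 →
        ∃ b ∈ B, b ≠ 1 ∧ M ⊓ centralizer ({b} : Set G) ≤ D := by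
  obtain ⟨N, ⟨hN, hxN⟩, _, _, _, _, hD, _⟩ := Cfsg.Agent.S1375.result hG M hM x hx hx1 hxM
  have hσN : IsPiHallOf (sigma N) (sigmaCore N) N :=
    Cfsg.Agent.Lib.Helper47.BG11.sigmaHallIn_of_coatom hG hN
  have h20 := Cfsg.Agent.S1420.result hG N hN (M ⊓ N) hD
  refine ⟨M ⊓ N, inf_le_left, inf_le_inf_left M hxN, ?_, ?_⟩
  · intro Y hY hnil
    exact h20.1 Y (hY.trans inf_le_right) hnil
      (fun p hp hpY => l2_not_mem_sigma hσN hD hY hp hpY)
  · intro q B hq hBD hBe hBc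
    haveI : Fact q.Prime := ⟨hq⟩
    have hBN : B ≤ N := hBD.trans inf_le_right
    have hqσ : q ∉ sigma N :=
      l2_not_mem_sigma hσN hD hBD hq (by rw [hBc]; exact dvd_pow_self q two_ne_zero)
    have hr2 : PRankLE q 2 N :=
      Cfsg.Agent.Lib.Helper19.BG117.pRankLE_two_of_not_sigma hG hN hq hqσ
    have hcomm : ∀ a ∈ B, ∀ b ∈ B, a * b = b * a := by
      intro a ha b hb
      have := hBe.1.is_comm.comm (⟨a, ha⟩ : B) ⟨b, hb⟩
      exact congrArg Subtype.val this
    have hr1 : ¬ PRankLE q 1 N := by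
      intro h
      have hle := h (B.subgroupOf N)
        ⟨⟨fun a b => Subtype.ext (Subtype.ext (hcomm _ a.2 _ b.2))⟩⟩
        (fun a ha => Subtype.ext (by simpa using hBe.2 _ ha))
      have hc : Nat.card (B.subgroupOf N) = Nat.card B :=
        Nat.card_congr (Subgroup.subgroupOfEquivOfLe hBN).toEquiv
      rw [hc, hBc, pow_one] at hle
      have : q < q ^ 2 := by
        calc q = q ^ 1 := (pow_one q).symm
          _ < q ^ 2 := Nat.pow_lt_pow_right hq.one_lt (by norm_num)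
      omega
    have hqτ : q ∈ tau2 N := ⟨hq, hqσ, hr2, hr1⟩
    have hBexp : Cfsg.Agent.Lib.Helper32.IsExpAb q B := ⟨hcomm, hBe.2⟩
    have hne := Cfsg.Agent.Lib.Helper59.BG.sigmaCore_ne_bot hG hN
    have hNn : N ≤ normalizer ((sigmaCore N : Subgroup G) : Set G) :=
      Cfsg.Agent.Lib.Helper24.BG.le_normalizer_sigmaCore N
    have hqc : ¬ q ∣ Nat.card (sigmaCore N) := by
      intro h
      have hqN : q ∣ Nat.card N := h.trans (Subgroup.card_dvd_of_le hσN.1)
      exact hqσ (hσN.2.1 q hq h)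
    obtain ⟨b, hbB, hb1, hcb⟩ := hBexp.exists_centralizer_ne_bot
      (by rw [hBc]; calc q = q ^ 1 := (pow_one q).symm
            _ < q ^ 2 := Nat.pow_lt_pow_right hq.one_lt (by norm_num))
      (sigmaCore N) (hBN.trans hNn) hqc hne
    refine ⟨b, hbB, hb1, ?_⟩
    obtain ⟨y, hy⟩ := (Subgroup.ne_bot_iff_exists_ne_one).mp hcb
    have hyσ : (y : G) ∈ sigmaCore N := y.2.1
    have hyc : (y : G) ∈ centralizer ({b} : Set G) := y.2.2
    have hy1 : (y : G) ≠ 1 := fun h => hy (Subtype.ext h)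
    have hbN : b ∈ N := hBN hbB
    have hord : ∀ p : ℕ, p.Prime → p ∣ orderOf b → p ∈ tau2 N := by
      intro p hp hpb
      have h1 : orderOf b ∣ q := orderOf_dvd_of_pow_eq_one (hBe.2 b hbB)
      have h2 : p ∣ q := hpb.trans h1
      rw [(Nat.prime_dvd_prime_iff_eq hp hq).mp h2]
      exact hqτ
    have hhat : b ∈ sigmaHat N := by
      refine ⟨hbN, y, hyσ, hy1, ?_⟩
      rw [mem_centralizer_iff] at hyc
      exact (hyc b rfl)
    have h := (h20.2.2.2 b hbN hb1 hord hhat).1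
    exact inf_le_inf_left M h

end Cfsg.Agent.Lib.Helper91.BG157
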