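import Mathlib
import Cfsg.Agent.Lib.Helper15.GlaubCyc
import Cfsg.Agent.Lib.Helper15.Gallagher
import Cfsg.Agent.Lib.Helper15.IrrCrit
import Cfsg.Agent.Lib.Helper3.HHCount
import Cfsg.Agent.Lib.Helper3.CharBasic
import Cfsg.Agent.Lib.Helper3.CharOps
import Cfsg.Agent.Lib.Helper38.AbelianRestrict
import Cfsg.Agent.Lib.Helper80.DegreesOneP
import Cfsg.Agent.Lib.Helper80.IrrApi
import Cfsg.Agent.Lib.Helper79.PG3
import Cfsg.Agent.Lib.Helper79.Abelian
import Cfsg.Agent.Lib.Helper32.PGroupCenter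
import Cfsg.Agent.Lib.Helper32.Burnside

set_option autoImplicit false
set_option linter.unusedSectionVars false
set_option linter.unusedVariables false

/-!
# A cyclic group acting on an extraspecial group with all fixed points in the centre

If `K` is an abelian `p'`-group acting on an extraspecial group `N` of order `p ^ (2 n + 1)` so
that `C_N(x) = Z(N)` for every nonidentity `x` of `K`, then `|K|` divides `p ^ n + 1` or
`p ^ n - 1`.
-/

namespace Cfsg.Agent.Lib.Helper63.ExtraCyc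

open Cfsg
open scoped ComplexConjugate

universe u

/-- The arithmetic core: natural numbers `m i`, indexed by a set with `h` elements, with sum `d`
and `h * ∑ m i ^ 2 ≤ d ^ 2 + h - 1`. -/
theorem arith_core {ι : Type*} [Fintype ι] (m : ι → ℕ) (d h : ℕ) (hh : Fintype.card ι = h)
    (hpos : 0 < h) (hsum : ∑ i, m i = d) (hsq : h * ∑ i, (m i) ^ 2 + 1 ≤ d ^ 2 + h) :
    h ∣ d ∨ h ∣ d - 1 ∨ h ∣ d + 1 := by
  obtain ⟨a, b, hd, hb⟩ : ∃ a b : ℕ, d = a * h + b ∧ b < h :=
    ⟨d / h, d % h, by rw [mul_comm]; exact (Nat.div_add_mod d h).symm, Nat.mod_lt _ hpos⟩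
  have key : ∑ i, ((m i : ℤ) - a) ≤ ∑ i, ((m i : ℤ) - a) ^ 2 :=
    Finset.sum_le_sum (fun i _ => Int.le_self_sq _)
  have hsumZ : ∑ i, (m i : ℤ) = d := by exact_mod_cast hsum
  have e1 : ∑ i, ((m i : ℤ) - a) = (d : ℤ) - h * a := by
    rw [Finset.sum_sub_distrib, hsumZ, Finset.sum_const, Finset.card_univ, hh, nsmul_eq_mul]
  have e2 : ∑ i, ((m i : ℤ) - a) ^ 2 = ∑ i, (m i : ℤ) ^ 2 - 2 * a * d + h * (a : ℤ) ^ 2 := by
    have : ∀ i, ((m i : ℤ) - a) ^ 2 = (m i : ℤ) ^ 2 - 2 * a * (m i : ℤ) + (a : ℤ) ^ 2 := by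
      intro i; ring
    rw [Finset.sum_congr rfl (fun i _ => this i), Finset.sum_add_distrib, Finset.sum_sub_distrib,
      ← Finset.mul_sum, hsumZ, Finset.sum_const, Finset.card_univ, hh, nsmul_eq_mul]
  rw [e1, e2] at key
  have hsqZ : (h : ℤ) * ∑ i, (m i : ℤ) ^ 2 + 1 ≤ (d : ℤ) ^ 2 + h := by exact_mod_cast hsq
  have hdZ : (d : ℤ) = a * h + b := by exact_mod_cast hd
  have hh0 : (0 : ℤ) < h := by exact_mod_cast hpos
  -- `(b - 1) * (h - 1 - b) ≤ 0`
  have hmain : ((b : ℤ) - 1) * ((h : ℤ) - 1 - b) ≤ 0 := by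
    have h1 : (h : ℤ) * ((d : ℤ) - h * a) ≤
        h * (∑ i, (m i : ℤ) ^ 2 - 2 * a * d + h * (a : ℤ) ^ 2) :=
      mul_le_mul_of_nonneg_left key hh0.le
    have h2 : (h : ℤ) * ((d : ℤ) - h * a) + 2 * a * d * h - (h : ℤ) ^ 2 * (a : ℤ) ^ 2 + 1 ≤
        (d : ℤ) ^ 2 + h := by
      have : (h : ℤ) * (∑ i, (m i : ℤ) ^ 2 - 2 * a * d + h * (a : ℤ) ^ 2) =
          (h : ℤ) * ∑ i, (m i : ℤ) ^ 2 - 2 * a * d * h + (h : ℤ) ^ 2 * (a : ℤ) ^ 2 := by ring
      rw [this] at h1
      linarith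
    rw [hdZ] at h2
    have : ((b : ℤ) - 1) * ((h : ℤ) - 1 - b) =
        (h : ℤ) * (((a : ℤ) * h + b) - h * a) + 2 * a * ((a : ℤ) * h + b) * h
          - (h : ℤ) ^ 2 * (a : ℤ) ^ 2 + 1 - (((a : ℤ) * h + b) ^ 2 + h) := by ring
    rw [this]
    linarith
  have hbcases : b = 0 ∨ b = 1 ∨ b + 1 = h := by
    by_contra hcon
    push Not at hcon
    obtain ⟨h0, h1, h2⟩ := hcon
    have hb2 : (2 : ℤ) ≤ b := by
      have : 2 ≤ b := by omega
      exact_mod_cast this
    have hb3 : (b : ℤ) + 2 ≤ h := by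
      have : b + 2 ≤ h := by omega
      exact_mod_cast this
    have : (0 : ℤ) < ((b : ℤ) - 1) * ((h : ℤ) - 1 - b) :=
      mul_pos (by linarith) (by linarith)
    linarith
  rcases hbcases with rfl | rfl | hb1
  · left
    rw [hd, add_zero]
    exact Dvd.intro_left a rfl
  · right; left
    rw [hd, Nat.add_sub_cancel]
    exact Dvd.intro_left a rfl
  · right; right
    rw [hd, add_assoc, hb1]
    exact ⟨a + 1, by ring⟩

/-- A character `f` of a finite abelian group `K` with `∑ |f k|² ≤ f(1)² + |K| - 1`. -/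
theorem abelian_char_dvd {K : Type u} [Group K] [Fintype K] [IsMulCommutative K] {f : K → ℂ}
    (hf : IsCharacter K f) (d : ℕ) (hd : f 1 = d)
    (hbound : ∑ k : K, Complex.normSq (f k) + 1 ≤ (d : ℝ) ^ 2 + (Fintype.card K : ℝ)) :
    Fintype.card K ∣ d ∨ Fintype.card K ∣ d - 1 ∨ Fintype.card K ∣ d + 1 := by
  classical
  have : Fintype (IrrCharacter K) := Fintype.ofFinite _
  obtain ⟨m, hm, hdec⟩ := Cfsg.Agent.Lib.Helper15.exists_nat_decomp hf
  have hsum : ∑ ψ, m ψ = d := by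
    have h1 : f 1 = ∑ ψ : IrrCharacter K, (m ψ : ℂ) := by
      conv_lhs => rw [hdec]
      rw [Finset.sum_apply]
      apply Finset.sum_congr rfl
      intro ψ _
      rw [Pi.smul_apply, Cfsg.Agent.Lib.Helper79.irr_one_eq_one_of_comm ψ, smul_eq_mul, mul_one]
    rw [hd] at h1
    have : ((∑ ψ, m ψ : ℕ) : ℂ) = (d : ℂ) := by push_cast; exact h1.symm
    exact_mod_cast this
  have hnorm : classInner f f = ∑ ψ, ((m ψ : ℂ)) ^ 2 := by
    conv_lhs => arg 1; rw [hdec]
    rw [Cfsg.Agent.Lib.Helper3.classInner_sum_left]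
    apply Finset.sum_congr rfl
    intro ψ _
    rw [Cfsg.Agent.Lib.Helper3.classInner_smul_left, Cfsg.Agent.Lib.Helper3.classInner_conj_symm,
      hm, Complex.conj_natCast]
    ring
  have h2 := Cfsg.Agent.Lib.Helper3.sum_normSq_eq_card_mul_classInner f
  rw [hnorm, Nat.card_eq_fintype_card] at h2
  have h3 : (∑ k, Complex.normSq (f k) : ℝ) = (Fintype.card K : ℝ) * ∑ ψ, ((m ψ : ℝ)) ^ 2 := by
    have : ((∑ k, Complex.normSq (f k) : ℝ) : ℂ) =
        (((Fintype.card K : ℝ) * ∑ ψ, ((m ψ : ℝ)) ^ 2 : ℝ) : ℂ) := by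
      rw [h2]; push_cast; rfl
    exact_mod_cast this
  have hcard : Fintype.card (IrrCharacter K) = Fintype.card K := by
    exact_mod_cast Cfsg.Agent.Lib.Helper38.card_irr_abelian (A := K)
  apply arith_core m d (Fintype.card K) hcard Fintype.card_pos hsum
  have : ((Fintype.card K * ∑ ψ, (m ψ) ^ 2 + 1 : ℕ) : ℝ) ≤ ((d ^ 2 + Fintype.card K : ℕ) : ℝ) := by
    push_cast
    rw [← h3]
    exact hbound
  exact_mod_cast this

/-- Summing over the fibres of a map all of whose fibres inject into a type with `c` elements. -/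
theorem fiber_sum_le {α β γ : Type*} [Fintype α] [Fintype β] [Fintype γ] [DecidableEq β]
    (φ : α → β) (hfib : ∀ b, ∃ f : α → γ, Set.InjOn f {a | φ a = b}) (F : β → ℝ)
    (hF : ∀ b, 0 ≤ F b) :
    ∑ a, F (φ a) ≤ (Fintype.card γ : ℝ) * ∑ b, F b := by
  classical
  rw [← Finset.sum_fiberwise Finset.univ φ (fun a => F (φ a)), Finset.mul_sum]
  apply Finset.sum_le_sum
  intro b _
  have h1 : ∑ a ∈ Finset.univ.filter (fun a => φ a = b), F (φ a) =
      ((Finset.univ.filter (fun a => φ a = b)).card : ℝ) * F b := by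
    rw [Finset.sum_congr rfl (fun a ha => by rw [(Finset.mem_filter.mp ha).2]),
      Finset.sum_const, nsmul_eq_mul]
  rw [h1]
  apply mul_le_mul_of_nonneg_right _ (hF b)
  obtain ⟨f, hf⟩ := hfib b
  have : (Finset.univ.filter (fun a => φ a = b)).card ≤ (Finset.univ : Finset γ).card := by
    apply Finset.card_le_card_of_injOn f
    · intro a _; exact Finset.mem_coe.mpr (Finset.mem_univ _)
    · intro a ha a' ha' h
      apply hf _ _ h
      · simpa using ha
      · simpa using ha'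
  rw [Finset.card_univ] at this
  exact_mod_cast this

section LemmaA

variable {Γ : Type u} [Group Γ] [Fintype Γ]

/-- If `χ ∈ Irr(Γ)` restricts irreducibly to the normal subgroup `N`, `Z ≤ N` is central in `Γ`,
and `C_N(x) ≤ Z` for an element `x` whose order is prime to the orders of the elements of `Z`,
then `|χ(x)| ≤ 1`. -/
theorem normSq_le_one_of_centralizer_le (N : Subgroup Γ) [hN : N.Normal] [Fintype N]
    (Z : Subgroup Γ) [Fintype Z] (hZN : Z ≤ N) (hZc : Z ≤ Subgroup.center Γ)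
    {χ : Γ → ℂ} (hχ : IsIrrCharacter Γ χ) (hχN : IsIrrCharacter N (fun n : N => χ n))
    (x : Γ) (m : ℕ) (hxm : x ^ m = 1) (hZm : ∀ z ∈ Z, z ^ m = 1 → z = 1)
    (hcent : ∀ g ∈ N, g * x = x * g → g ∈ Z) :
    Complex.normSq (χ x) ≤ 1 := by
  classical
  have hcl : IsClassFunction Γ χ := Cfsg.Agent.Lib.Helper3.IsCharacter.isClassFunction
    (Cfsg.Agent.Lib.Helper3.IsIrrCharacter.isCharacter hχ)
  -- the map `(g, z) ↦ [g, x] z`
  let φ : N × Z → N := fun a =>
    ⟨(a.1 : Γ) * x * (a.1 : Γ)⁻¹ * x⁻¹ * (a.2 : Γ), by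
      have h1 : x * (a.1 : Γ)⁻¹ * x⁻¹ ∈ N := hN.conj_mem _ (N.inv_mem a.1.2) x
      have h2 : (a.1 : Γ) * (x * (a.1 : Γ)⁻¹ * x⁻¹) * (a.2 : Γ) ∈ N :=
        N.mul_mem (N.mul_mem a.1.2 h1) (hZN a.2.2)
      have : (a.1 : Γ) * x * (a.1 : Γ)⁻¹ * x⁻¹ * (a.2 : Γ) =
          (a.1 : Γ) * (x * (a.1 : Γ)⁻¹ * x⁻¹) * (a.2 : Γ) := by group
      rw [this]; exact h2⟩
  let F : N → ℝ := fun n => Complex.normSq (χ ((n : Γ) * x))
  -- values along the map
  have hval : ∀ a : N × Z, F (φ a) = Complex.normSq (χ x) := by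
    intro a
    have hz : (a.2 : Γ) ∈ Subgroup.center Γ := hZc a.2.2
    have h1 : ((φ a : N) : Γ) * x = (a.2 : Γ) * ((a.1 : Γ) * x * (a.1 : Γ)⁻¹) := by
      show (a.1 : Γ) * x * (a.1 : Γ)⁻¹ * x⁻¹ * (a.2 : Γ) * x = _
      rw [Subgroup.mem_center_iff.mp hz ((a.1 : Γ) * x * (a.1 : Γ)⁻¹ * x⁻¹)]
      group
    show Complex.normSq (χ (((φ a : N) : Γ) * x)) = _
    rw [h1, Cfsg.Agent.Lib.Helper3.irr_normSq_center_mul hχ hz, hcl]
  -- the fibres
  have hfib : ∀ b : N, ∃ f : N × Z → Z, Set.InjOn f {a | φ a = b} := by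
    intro b
    by_cases hne : ∃ a₀, φ a₀ = b
    · obtain ⟨a₀, ha₀⟩ := hne
      have hkey : ∀ a, φ a = b → a.2 = a₀.2 ∧ (a₀.1 : Γ)⁻¹ * (a.1 : Γ) ∈ Z := by
        intro a ha
        have heq : (a.1 : Γ) * x * (a.1 : Γ)⁻¹ * x⁻¹ * (a.2 : Γ) =
            (a₀.1 : Γ) * x * (a₀.1 : Γ)⁻¹ * x⁻¹ * (a₀.2 : Γ) := by
          have := congrArg (fun n : N => (n : Γ)) (ha.trans ha₀.symm)
          exact this
        set k : Γ := (a₀.1 : Γ)⁻¹ * (a.1 : Γ) with hk
        set w : Γ := (a₀.2 : Γ) * (a.2 : Γ)⁻¹ with hw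
        have hwZ : w ∈ Z := Z.mul_mem a₀.2.2 (Z.inv_mem a.2.2)
        have hwc : w ∈ Subgroup.center Γ := hZc hwZ
        have hz0 : (a₀.2 : Γ) ∈ Subgroup.center Γ := hZc a₀.2.2
        have hz : (a.2 : Γ) ∈ Subgroup.center Γ := hZc a.2.2
        have hkx : k * x * k⁻¹ = x * w := by
          have e1 : k * x * k⁻¹ = (a₀.1 : Γ)⁻¹ *
              ((a.1 : Γ) * x * (a.1 : Γ)⁻¹ * x⁻¹ * (a.2 : Γ)) * (a.2 : Γ)⁻¹ * x * (a₀.1 : Γ) := by
            rw [hk]; group
          rw [e1, heq]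
          have e2 : (a₀.1 : Γ)⁻¹ * ((a₀.1 : Γ) * x * (a₀.1 : Γ)⁻¹ * x⁻¹ * (a₀.2 : Γ)) *
              (a.2 : Γ)⁻¹ * x * (a₀.1 : Γ) = x * (a₀.1 : Γ)⁻¹ * x⁻¹ * w * x * (a₀.1 : Γ) := by
            rw [hw]; group
          rw [e2, Subgroup.mem_center_iff.mp hwc (x * (a₀.1 : Γ)⁻¹ * x⁻¹),
            Subgroup.mem_center_iff.mp hwc x]
          group
        have hwm : w ^ m = 1 := by
          have h1 : (k * x * k⁻¹) ^ m = 1 := by
            rw [conj_pow, hxm, mul_one, mul_inv_cancel]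
          rw [hkx] at h1
          have hcomm : Commute x w := (Subgroup.mem_center_iff.mp hwc x)
          rw [hcomm.mul_pow, hxm, one_mul] at h1
          exact h1
        have hw1 : w = 1 := hZm w hwZ hwm
        have hzz : (a.2 : Γ) = (a₀.2 : Γ) := by
          have : (a₀.2 : Γ) * (a.2 : Γ)⁻¹ = 1 := hw1
          exact (mul_inv_eq_one.mp this).symm
        refine ⟨Subtype.ext hzz, ?_⟩
        apply hcent k (N.mul_mem (N.inv_mem a₀.1.2) a.1.2)
        rw [hw1, mul_one] at hkx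
        calc k * x = k * x * k⁻¹ * k := by group
          _ = x * k := by rw [hkx]
      refine ⟨fun a => if h : (a₀.1 : Γ)⁻¹ * (a.1 : Γ) ∈ Z then ⟨_, h⟩ else 1, ?_⟩
      intro a ha a' ha' hff
      obtain ⟨h1, h2⟩ := hkey a ha
      obtain ⟨h1', h2'⟩ := hkey a' ha'
      simp only [dif_pos h2, dif_pos h2'] at hff
      have h3 : (a₀.1 : Γ)⁻¹ * (a.1 : Γ) = (a₀.1 : Γ)⁻¹ * (a'.1 : Γ) :=
        congrArg (fun z : Z => (z : Γ)) hff
      have h4 : (a.1 : Γ) = (a'.1 : Γ) := mul_left_cancel h3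
      exact Prod.ext (Subtype.ext h4) (h1.trans h1'.symm)
    · refine ⟨fun _ => 1, ?_⟩
      intro a ha
      exact absurd ⟨a, ha⟩ hne
  have hle := fiber_sum_le φ hfib F (fun n => Complex.normSq_nonneg _)
  -- the left side
  have hL : ∑ a : N × Z, F (φ a) =
      (Fintype.card N : ℝ) * (Fintype.card Z : ℝ) * Complex.normSq (χ x) := by
    rw [Finset.sum_congr rfl (fun a _ => hval a), Finset.sum_const, Finset.card_univ,
      Fintype.card_prod, nsmul_eq_mul]
    push_cast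
    ring
  -- the right side
  have hR : ∑ n : N, F n = (Fintype.card N : ℝ) := by
    have h := Cfsg.Agent.Lib.Helper15.coset_sum_norm N hχ hχN x
    have h' : ((∑ n : N, F n : ℝ) : ℂ) = ((Fintype.card N : ℝ) : ℂ) := by
      push_cast
      rw [← Nat.card_eq_fintype_card, ← h]
      apply Finset.sum_congr rfl
      intro n _
      rw [Complex.mul_conj]
    exact_mod_cast h'
  rw [hL, hR] at hle
  have hNpos : (0 : ℝ) < Fintype.card N := by exact_mod_cast Fintype.card_pos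
  have hZpos : (0 : ℝ) < Fintype.card Z := by exact_mod_cast Fintype.card_pos
  have hpos : (0 : ℝ) < (Fintype.card N : ℝ) * (Fintype.card Z : ℝ) := mul_pos hNpos hZpos
  have : (Fintype.card N : ℝ) * (Fintype.card Z : ℝ) * Complex.normSq (χ x) ≤
      (Fintype.card N : ℝ) * (Fintype.card Z : ℝ) * 1 := by
    rw [mul_one]; linarith
  exact le_of_mul_le_mul_left this hpos

end LemmaA

section Main

variable {Γ : Type u} [Group Γ] [Fintype Γ]

/-- The main theorem inside a group `Γ = N K`: `N` normal, "extraspecial" of order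
`p ^ (2 n + 1)`, `K` an abelian `p'`-subgroup with `C_N(x) = Z(N)` for all `x ∈ K` other than `1`.
-/
theorem card_dvd_of_extraspecial_action {p n : ℕ} [Fact p.Prime] (N K : Subgroup Γ)
    [hN : N.Normal] (hpN : IsPGroup p N) (hcomm : commutator N = Subgroup.center N)
    (hZcard : Nat.card (Subgroup.center N) = p) (hNcard : Nat.card N = p ^ (2 * n + 1))
    (hKcomm : ∀ a ∈ K, ∀ b ∈ K, a * b = b * a)
    (hcop : (Nat.card K).Coprime p) (htop : N ⊔ K = ⊤)
    (hfix : ∀ x ∈ K, x ≠ 1 → ∀ g ∈ N, g * x = x * g → ∀ g' ∈ N, g' * g = g * g')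
    (hfix2 : ∀ x ∈ K, ∀ z ∈ N, (∀ g' ∈ N, g' * z = z * g') → x * z = z * x) :
    Nat.card K ∣ p ^ n + 1 ∨ Nat.card K ∣ p ^ n - 1 := by
  classical
  have hp : p.Prime := Fact.out
  have : Fintype N := Fintype.ofFinite _
  have : Fintype K := Fintype.ofFinite _
  -- the centre of `N` as a subgroup of `Γ`
  let Z : Subgroup Γ := (Subgroup.center N).map N.subtype
  have : Fintype Z := Fintype.ofFinite _
  have hZN : Z ≤ N := Subgroup.map_subtype_le _
  have hmemZ : ∀ z : Γ, z ∈ Z ↔ z ∈ N ∧ ∀ g' ∈ N, g' * z = z * g' := by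
    intro z
    constructor
    · rintro ⟨w, hw, rfl⟩
      refine ⟨w.2, fun g' hg' => ?_⟩
      have := Subgroup.mem_center_iff.mp hw ⟨g', hg'⟩
      exact congrArg Subtype.val this
    · rintro ⟨hzN, hz⟩
      refine ⟨⟨z, hzN⟩, ?_, rfl⟩
      apply Subgroup.mem_center_iff.mpr
      intro g
      exact Subtype.ext (hz g g.2)
  have hZc : Z ≤ Subgroup.center Γ := by
    intro z hz
    obtain ⟨hzN, hzc⟩ := (hmemZ z).mp hz
    have h1 : N ≤ Subgroup.centralizer {z} := by
      intro g hg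
      rw [Subgroup.mem_centralizer_singleton_iff]
      exact hzc g hg
    have h2 : K ≤ Subgroup.centralizer {z} := by
      intro g hg
      rw [Subgroup.mem_centralizer_singleton_iff]
      exact hfix2 g hg z hzN hzc
    have h3 : (⊤ : Subgroup Γ) ≤ Subgroup.centralizer {z} := by
      rw [← htop]; exact sup_le h1 h2
    apply Subgroup.mem_center_iff.mpr
    intro g
    have := h3 (Subgroup.mem_top g)
    rwa [Subgroup.mem_centralizer_singleton_iff] at this
  -- a nonlinear irreducible character of `N`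
  have hcen : Subgroup.center N ≠ ⊥ := by
    intro h
    rw [h, Subgroup.card_bot] at hZcard
    exact hp.one_lt.ne hZcard
  have hmin : ∀ M : Subgroup N, M.Normal → M ≠ ⊥ → commutator N ≤ M := by
    intro M hMn hM
    obtain ⟨x, hxM, hxZ, hx1⟩ :=
      Cfsg.Agent.Lib.Helper32.exists_ne_one_mem_normal_inf_center hpN M hM
    have htopZ : Subgroup.zpowers (⟨x, hxZ⟩ : Subgroup.center N) = ⊤ :=
      zpowers_eq_top_of_prime_card hZcard (fun h => hx1 (congrArg Subtype.val h))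
    rw [hcomm]
    intro c hc
    have : (⟨c, hc⟩ : Subgroup.center N) ∈ Subgroup.zpowers (⟨x, hxZ⟩ : Subgroup.center N) := by
      rw [htopZ]; trivial
    obtain ⟨k, hk⟩ := this
    have hk' : x ^ k = c := by
      have := congrArg Subtype.val hk
      simpa using this
    rw [← hk']
    exact M.zpow_mem hxM k
  obtain ⟨n₀, ρ, hρ, hn₀⟩ := Cfsg.Agent.Lib.Helper79.exists_nonlinear_irr (G := N)
    (by rw [hcomm]; exact hcen)
  set θ : N → ℂ := ρ.character with hθdef
  have hθ : IsIrrCharacter N θ := ⟨n₀, ρ, hρ, rfl⟩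
  have hθ1 : θ 1 = (n₀ : ℂ) := by
    rw [hθdef, Representation.char_one, Module.finrank_fin_fun]
  have hθne : θ 1 ≠ 1 := by
    rw [hθ1]
    exact_mod_cast hn₀
  obtain ⟨hvan0, hdeg0⟩ := Cfsg.Agent.Lib.Helper80.vanish_off_center_of_commutator_le hmin hcen
    (⟨θ, hθ⟩ : IrrCharacter N) hθne
  have hvan : ∀ g : N, g ∉ Subgroup.center N → θ g = 0 := hvan0
  have hdeg : (charDegree θ) ^ 2 = (Subgroup.center N).index := hdeg0
  -- the degree is `p ^ n`
  have hn₀' : n₀ = p ^ n := by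
    have h1 : charDegree θ = n₀ := by
      unfold charDegree
      rw [hθ1, Complex.natCast_re, Nat.floor_natCast]
    have h2 : Nat.card (Subgroup.center N) * (Subgroup.center N).index = Nat.card N :=
      Subgroup.card_mul_index _
    rw [hZcard, hNcard] at h2
    have h3 : (Subgroup.center N).index = (p ^ n) ^ 2 := by
      have : p * (Subgroup.center N).index = p * (p ^ n) ^ 2 := by rw [h2]; ring
      exact Nat.eq_of_mul_eq_mul_left hp.pos this
    have h4 : n₀ ^ 2 = (p ^ n) ^ 2 := by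
      rw [← h1, ← h3]; exact hdeg
    exact Nat.pow_left_injective (by norm_num : 2 ≠ 0) h4
  -- `θ` is `Γ`-invariant
  have hinv : ∀ (g : Γ) (n' : N), θ ⟨g * n' * g⁻¹, hN.conj_mem (n' : Γ) n'.2 g⟩ = θ n' := by
    intro g n'
    by_cases hn' : n' ∈ Subgroup.center N
    · have hnZ : (n' : Γ) ∈ Z := ⟨n', hn', rfl⟩
      have hnc := Subgroup.mem_center_iff.mp (hZc hnZ) g
      congr 1
      apply Subtype.ext
      show g * (n' : Γ) * g⁻¹ = (n' : Γ)
      rw [hnc, mul_assoc, mul_inv_cancel, mul_one]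
    · rw [hvan n' hn']
      apply hvan
      intro hcon
      apply hn'
      have hnZ : g * (n' : Γ) * g⁻¹ ∈ Z := ⟨_, hcon, rfl⟩
      have hnc := Subgroup.mem_center_iff.mp (hZc hnZ) g
      have heq : (n' : Γ) = g * (n' : Γ) * g⁻¹ := by
        have h1 : g * (g * (n' : Γ) * g⁻¹) = g * (n' : Γ) * g⁻¹ * g := hnc
        have h2 : g * (g * (n' : Γ) * g⁻¹) = g * (n' : Γ) := by
          rw [h1]; group
        exact (mul_left_cancel h2).symm
      have : n' = ⟨g * n' * g⁻¹, hN.conj_mem (n' : Γ) n'.2 g⟩ := Subtype.ext heq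
      rw [this]; exact hcon
  -- the index of `N`
  have hidx : N.index ∣ Nat.card K := by
    have hKN : K ≤ Subgroup.normalizer (N : Set Γ) := by
      rw [Subgroup.normalizer_eq_top]; exact le_top
    have h1 := Cfsg.Agent.Lib.Helper32.relIndex_sup_right_of_le_normalizer hKN
    rw [sup_comm, htop, Subgroup.relIndex_top_right] at h1
    rw [h1]
    exact Subgroup.index_dvd_card _
  have hcopI : (Nat.card N).Coprime N.index := by
    rw [hNcard]
    apply Nat.Coprime.pow_left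
    exact (Nat.Coprime.coprime_dvd_left hidx hcop).symm
  obtain ⟨χ, hcan, hχθ⟩ := Cfsg.Agent.Lib.Helper15.exists_canon hcopI hθ hinv
  have hχirr := hcan.irr
  have hχres := hcan.res
  -- the values on `K`
  have hle : ∀ x ∈ K, x ≠ 1 → Complex.normSq (χ x) ≤ 1 := by
    intro x hx hx1
    apply normSq_le_one_of_centralizer_le N Z hZN hZc hχirr hχres x (Nat.card K)
    · have := pow_card_eq_one' (G := K) (x := ⟨x, hx⟩)
      exact congrArg Subtype.val this
    · rintro z ⟨w, hw, rfl⟩ hzm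
      obtain ⟨k, hk⟩ := hpN w
      have hk' : ((w : N) : Γ) ^ p ^ k = 1 := by
        have := congrArg Subtype.val hk
        simpa using this
      have h1 : orderOf ((w : N) : Γ) ∣ p ^ k := orderOf_dvd_of_pow_eq_one hk'
      have h2 : orderOf ((w : N) : Γ) ∣ Nat.card K := orderOf_dvd_of_pow_eq_one hzm
      have h3 : orderOf ((w : N) : Γ) ∣ Nat.gcd (p ^ k) (Nat.card K) := Nat.dvd_gcd h1 h2
      have h4 : Nat.gcd (p ^ k) (Nat.card K) = 1 := (Nat.Coprime.pow_left k hcop.symm)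
      rw [h4, Nat.dvd_one] at h3
      exact orderOf_eq_one_iff.mp h3
    · intro g hg hgx
      exact (hmemZ g).mpr ⟨hg, hfix x hx hx1 g hg hgx⟩
  -- the restriction to `K`
  have : IsMulCommutative K := ⟨⟨fun a b => Subtype.ext (hKcomm a a.2 b b.2)⟩⟩
  set f : K → ℂ := fun k => χ k with hfdef
  have hf : IsCharacter K f := Cfsg.Agent.Lib.Helper3.IsCharacter.restrict
    (Cfsg.Agent.Lib.Helper3.IsIrrCharacter.isCharacter hχirr) K
  have hf1 : f 1 = ((p ^ n : ℕ) : ℂ) := by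
    have := hχθ 1
    rw [hθ1, hn₀'] at this
    exact this
  have hbound : ∑ k : K, Complex.normSq (f k) + 1 ≤
      ((p ^ n : ℕ) : ℝ) ^ 2 + (Fintype.card K : ℝ) := by
    rw [← Finset.add_sum_erase Finset.univ _ (Finset.mem_univ (1 : K))]
    have h1 : Complex.normSq (f 1) = ((p ^ n : ℕ) : ℝ) ^ 2 := by
      rw [hf1, Complex.normSq_natCast, sq]
    have h2 : ∑ k ∈ (Finset.univ : Finset K).erase 1, Complex.normSq (f k) ≤
        ((Finset.univ : Finset K).erase 1).card • (1 : ℝ) := by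
      apply Finset.sum_le_card_nsmul
      intro k hk
      apply hle k k.2
      intro h
      exact (Finset.mem_erase.mp hk).1 (Subtype.ext h)
    rw [Finset.card_erase_of_mem (Finset.mem_univ _), Finset.card_univ, nsmul_eq_mul, mul_one,
      Nat.cast_pred Fintype.card_pos] at h2
    rw [h1]
    linarith
  have hres := abelian_char_dvd hf (p ^ n) hf1 hbound
  rw [← Nat.card_eq_fintype_card] at hres
  rcases hres with h | h | h
  · have : Nat.card K = 1 := Nat.Coprime.eq_one_of_dvd (Nat.Coprime.pow_right n hcop) h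
    rw [this]
    left; exact one_dvd _
  · right; exact h
  · left; exact h

end Main

end Cfsg.Agent.Lib.Helper63.ExtraCyc
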