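import Mathlib

set_option autoImplicit false

/-!
The Heisenberg group `Heis F n` over a commutative ring `F`: triples `(a, b, c)` with
`a b : Fin n → F`, `c : F` and product `(a, b, c) (a', b', c') = (a + a', b + b', c + c' + a ⬝ b')`,
together with its faithful linear action on `F × (Fin n → F) × F`.
-/

namespace Cfsg.Agent.Lib.Helper63

open scoped commutatorElement

/-- the Heisenberg group of degree `n` over `F` -/
@[ext]
structure Heis (F : Type*) (n : ℕ) where
  a : Fin n → F
  b : Fin n → F
  c : F

namespace Heis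

variable {F : Type*} [CommRing F] {n : ℕ}

instance : Mul (Heis F n) := ⟨fun x y => ⟨x.a + y.a, x.b + y.b, x.c + y.c + x.a ⬝ᵥ y.b⟩⟩
instance : One (Heis F n) := ⟨⟨0, 0, 0⟩⟩
instance : Inv (Heis F n) := ⟨fun x => ⟨-x.a, -x.b, -x.c + x.a ⬝ᵥ x.b⟩⟩

@[simp] theorem mul_a (x y : Heis F n) : (x * y).a = x.a + y.a := rfl
@[simp] theorem mul_b (x y : Heis F n) : (x * y).b = x.b + y.b := rfl
@[simp] theorem mul_c (x y : Heis F n) : (x * y).c = x.c + y.c + x.a ⬝ᵥ y.b := rfl
@[simp] theorem one_a : (1 : Heis F n).a = 0 := rfl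
@[simp] theorem one_b : (1 : Heis F n).b = 0 := rfl
@[simp] theorem one_c : (1 : Heis F n).c = 0 := rfl
@[simp] theorem inv_a (x : Heis F n) : (x⁻¹).a = -x.a := rfl
@[simp] theorem inv_b (x : Heis F n) : (x⁻¹).b = -x.b := rfl
@[simp] theorem inv_c (x : Heis F n) : (x⁻¹).c = -x.c + x.a ⬝ᵥ x.b := rfl

instance : Group (Heis F n) :=
  Group.ofLeftAxioms
    (by
      intro x y z
      ext
      · simp [add_assoc]
      · simp [add_assoc]
      · simp only [mul_c, mul_a, mul_b, add_dotProduct, dotProduct_add]; ring)
    (by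
      intro x
      ext <;> simp)
    (by
      intro x
      ext
      · simp
      · simp
      · simp only [mul_c, inv_c, inv_a, neg_dotProduct, one_c]; ring)

/-- the underlying triple -/
def equivProd : Heis F n ≃ (Fin n → F) × (Fin n → F) × F where
  toFun x := (x.a, x.b, x.c)
  invFun t := ⟨t.1, t.2.1, t.2.2⟩
  left_inv _ := rfl
  right_inv _ := rfl

instance [Finite F] : Finite (Heis F n) := Finite.of_equiv _ equivProd.symm

omit [CommRing F] in
theorem card_eq [Finite F] : Nat.card (Heis F n) = Nat.card F ^ (1 + 2 * n) := by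
  rw [Nat.card_congr equivProd, Nat.card_prod, Nat.card_prod, Nat.card_fun]
  simp only [Nat.card_eq_fintype_card, Fintype.card_fin]
  ring

/-- commutators are central elements `(0, 0, a ⬝ b' - a' ⬝ b)` -/
theorem commutator_eq (x y : Heis F n) :
    ⁅x, y⁆ = ⟨0, 0, x.a ⬝ᵥ y.b - y.a ⬝ᵥ x.b⟩ := by
  rw [commutatorElement_def]
  ext
  · simp
  · simp
  · simp only [mul_c, mul_a, inv_c, inv_a, inv_b, add_dotProduct,
      neg_dotProduct, dotProduct_neg]
    ring

theorem mem_center_iff' [Nontrivial F] (x : Heis F n) :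
    x ∈ Subgroup.center (Heis F n) ↔ x.a = 0 ∧ x.b = 0 := by
  classical
  rw [Subgroup.mem_center_iff]
  constructor
  · intro h
    constructor
    · funext i
      have := congrArg Heis.c (h ⟨0, Pi.single i 1, 0⟩)
      simp only [mul_c, dotProduct_single, zero_dotProduct, mul_one] at this
      simpa using this.symm
    · funext i
      have := congrArg Heis.c (h ⟨Pi.single i 1, 0, 0⟩)
      simp only [mul_c, single_dotProduct, dotProduct_zero, one_mul] at this
      simpa using this
  · rintro ⟨ha, hb⟩ g
    ext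
    · simp [add_comm]
    · simp [add_comm]
    · simp only [mul_c, ha, hb, zero_dotProduct, dotProduct_zero]; ring

/-- the centre is in bijection with `F` -/
def centerEquiv [Nontrivial F] : Subgroup.center (Heis F n) ≃ F where
  toFun z := z.1.c
  invFun c := ⟨⟨0, 0, c⟩, (mem_center_iff' _).2 ⟨rfl, rfl⟩⟩
  left_inv z := by
    obtain ⟨ha, hb⟩ := (mem_center_iff' z.1).1 z.2
    apply Subtype.ext
    ext
    · simp [ha]
    · simp [hb]
    · rfl
  right_inv _ := rfl

theorem card_center [Nontrivial F] : Nat.card (Subgroup.center (Heis F n)) = Nat.card F :=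
  Nat.card_congr centerEquiv

theorem commutator_eq_center [Nontrivial F] (hn : 1 ≤ n) :
    commutator (Heis F n) = Subgroup.center (Heis F n) := by
  classical
  apply le_antisymm
  · rw [commutator_def, Subgroup.commutator_le]
    intro x _ y _
    rw [commutator_eq, mem_center_iff']
    exact ⟨rfl, rfl⟩
  · intro z hz
    obtain ⟨ha, hb⟩ := (mem_center_iff' z).1 hz
    have h : z = ⁅(⟨Pi.single ⟨0, hn⟩ z.c, 0, 0⟩ : Heis F n), ⟨0, Pi.single ⟨0, hn⟩ 1, 0⟩⁆ := by
      rw [commutator_eq]
      ext
      · simp [ha]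
      · simp [hb]
      · simp
    rw [h, commutator_def]
    exact Subgroup.commutator_mem_commutator (Subgroup.mem_top _) (Subgroup.mem_top _)

theorem pow_a (x : Heis F n) (k : ℕ) : (x ^ k).a = k • x.a := by
  induction k with
  | zero => simp
  | succ k ih => rw [pow_succ, mul_a, ih, succ_nsmul]

theorem pow_b (x : Heis F n) (k : ℕ) : (x ^ k).b = k • x.b := by
  induction k with
  | zero => simp
  | succ k ih => rw [pow_succ, mul_b, ih, succ_nsmul]

theorem two_mul_pow_c (x : Heis F n) (k : ℕ) :
    2 * (x ^ k).c = 2 * (k : F) * x.c + (k : F) * ((k : F) - 1) * (x.a ⬝ᵥ x.b) := by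
  induction k with
  | zero => simp
  | succ k ih =>
    rw [pow_succ, mul_c, mul_add, mul_add, ih, pow_a, smul_dotProduct]
    simp only [nsmul_eq_mul, Nat.cast_add, Nat.cast_one]
    ring

/-- in odd characteristic `p` the Heisenberg group has exponent `p` -/
theorem pow_char_eq_one (p : ℕ) [CharP F p] (h2 : IsUnit (2 : F)) (x : Heis F n) : x ^ p = 1 := by
  ext i
  · rw [pow_a]
    simp
  · rw [pow_b]
    simp
  · have := two_mul_pow_c x p
    rw [CharP.cast_eq_zero F p] at this
    simp only [mul_zero, zero_mul, add_zero] at this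
    rw [one_c]
    exact (h2.mul_right_eq_zero).1 this

/-- the linear action of a Heisenberg element on `F × (Fin n → F) × F` -/
def toEnd (x : Heis F n) : Module.End F (F × (Fin n → F) × F) where
  toFun v := (v.1 + x.a ⬝ᵥ v.2.1 + x.c * v.2.2, v.2.1 + v.2.2 • x.b, v.2.2)
  map_add' v w := by
    refine Prod.ext ?_ (Prod.ext ?_ ?_)
    · simp only [Prod.fst_add, Prod.snd_add, dotProduct_add]; ring
    · simp only [Prod.fst_add, Prod.snd_add, add_smul]; abel
    · rfl
  map_smul' r v := by
    refine Prod.ext ?_ (Prod.ext ?_ ?_)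
    · simp only [Prod.smul_fst, Prod.smul_snd, dotProduct_smul, smul_eq_mul, RingHom.id_apply]; ring
    · simp only [Prod.smul_fst, Prod.smul_snd, smul_eq_mul, RingHom.id_apply, smul_add, mul_smul]
    · rfl

theorem toEnd_apply (x : Heis F n) (v : F × (Fin n → F) × F) :
    toEnd x v = (v.1 + x.a ⬝ᵥ v.2.1 + x.c * v.2.2, v.2.1 + v.2.2 • x.b, v.2.2) := rfl

/-- the action as a monoid homomorphism -/
def toEndHom : Heis F n →* Module.End F (F × (Fin n → F) × F) where
  toFun := toEnd
  map_one' := by
    apply LinearMap.ext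
    intro v
    rw [toEnd_apply]
    simp
  map_mul' x y := by
    apply LinearMap.ext
    intro v
    rw [Module.End.mul_apply, toEnd_apply, toEnd_apply, toEnd_apply]
    refine Prod.ext ?_ (Prod.ext ?_ ?_)
    · simp only [mul_a, mul_c, add_dotProduct, dotProduct_add, dotProduct_smul, smul_eq_mul]; ring
    · simp only [mul_b, smul_add]; abel
    · rfl

theorem toEndHom_injective : Function.Injective (toEndHom : Heis F n →* _) := by
  classical
  intro x y h
  have h1 := congrArg (fun f : Module.End F (F × (Fin n → F) × F) => f (0, 0, 1)) h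
  change toEnd x (0, 0, 1) = toEnd y (0, 0, 1) at h1
  rw [toEnd_apply, toEnd_apply] at h1
  simp only [dotProduct_zero, mul_one, zero_add, one_smul, Prod.mk.injEq, and_true] at h1
  ext i
  · have h2 := congrArg (fun f : Module.End F (F × (Fin n → F) × F) => f (0, Pi.single i 1, 0)) h
    change toEnd x (0, Pi.single i 1, 0) = toEnd y (0, Pi.single i 1, 0) at h2
    rw [toEnd_apply, toEnd_apply] at h2
    simp only [dotProduct_single, mul_one, mul_zero, zero_add, add_zero, Prod.mk.injEq] at h2
    exact h2.1
  · rw [h1.2]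
  · exact h1.1

end Heis

section field

variable (F : Type*) [Field F] (n : ℕ)

theorem finrank_heisSpace : Module.finrank F (F × (Fin n → F) × F) = n + 2 := by
  rw [Module.finrank_prod, Module.finrank_prod, Module.finrank_self, Module.finrank_fin_fun]
  ring

/-- a faithful representation of the Heisenberg group in `GL (n + 2)` -/
noncomputable def Heis.toGL : Heis F n →* Matrix.GeneralLinearGroup (Fin (n + 2)) F :=
  (Units.map (LinearMap.toMatrixAlgEquiv
    (Module.finBasisOfFinrankEq F (F × (Fin n → F) × F) (finrank_heisSpace F n))).toMonoidHom).comp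
    (Heis.toEndHom (F := F) (n := n)).toHomUnits

theorem Heis.toGL_injective : Function.Injective (Heis.toGL F n) := by
  unfold Heis.toGL
  rw [MonoidHom.coe_comp]
  apply Function.Injective.comp
  · apply Units.map_injective
    exact (LinearMap.toMatrixAlgEquiv _).injective
  · intro x y h
    apply Heis.toEndHom_injective
    have h' := congrArg (fun u : (Module.End F (F × (Fin n → F) × F))ˣ =>
      (u : Module.End F (F × (Fin n → F) × F))) h
    simp only [MonoidHom.coe_toHomUnits] at h'
    exact h'

end field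

end Cfsg.Agent.Lib.Helper63
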