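import Mathlib

set_option autoImplicit false

/-!
Iterated commutators with the whole group, a three subgroups lemma for normal subgroups, and the
inequality `⁅X, γ_{k+1}(G)⁆ ≤ [X, G, …, G]` (`k + 1` copies of `G`).
-/

namespace Cfsg.Agent.Lib.Helper63

open scoped commutatorElement
open Subgroup

variable {G : Type*} [Group G]

/-- `[X, G, …, G]` with `j` copies of `G` -/
def iterTop (X : Subgroup G) : ℕ → Subgroup G
  | 0 => X
  | j + 1 => ⁅iterTop X j, ⊤⁆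

@[simp] theorem iterTop_zero (X : Subgroup G) : iterTop X 0 = X := rfl

theorem iterTop_succ (X : Subgroup G) (j : ℕ) : iterTop X (j + 1) = ⁅iterTop X j, ⊤⁆ := rfl

instance iterTop_normal (X : Subgroup G) [hX : X.Normal] (j : ℕ) : (iterTop X j).Normal := by
  induction j with
  | zero => exact hX
  | succ j ih =>
    rw [iterTop_succ]
    exact Subgroup.commutator_normal _ _

theorem iterTop_succ_le (X : Subgroup G) [X.Normal] (j : ℕ) : iterTop X (j + 1) ≤ iterTop X j := by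
  rw [iterTop_succ]
  exact Subgroup.commutator_le_left _ _

theorem iterTop_antitone (X : Subgroup G) [X.Normal] : Antitone (iterTop X) :=
  antitone_nat_of_succ_le (iterTop_succ_le X)

theorem iterTop_mono {X Y : Subgroup G} (h : X ≤ Y) (j : ℕ) : iterTop X j ≤ iterTop Y j := by
  induction j with
  | zero => exact h
  | succ j ih =>
    rw [iterTop_succ, iterTop_succ]
    exact Subgroup.commutator_mono ih le_rfl

theorem iterTop_shift (X : Subgroup G) (j : ℕ) : iterTop ⁅X, ⊤⁆ j = iterTop X (j + 1) := by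
  induction j with
  | zero => rfl
  | succ j ih => rw [iterTop_succ, ih, ← iterTop_succ]

/-- three subgroups lemma modulo a normal subgroup -/
theorem commutator_commutator_le_of_rotate {H₁ H₂ H₃ L : Subgroup G} [hL : L.Normal]
    (h1 : ⁅⁅H₂, H₃⁆, H₁⁆ ≤ L) (h2 : ⁅⁅H₃, H₁⁆, H₂⁆ ≤ L) : ⁅⁅H₁, H₂⁆, H₃⁆ ≤ L := by
  have key : ∀ A B C : Subgroup G, ⁅⁅A, B⁆, C⁆ ≤ L ↔
      ⁅⁅A.map (QuotientGroup.mk' L), B.map (QuotientGroup.mk' L)⁆, C.map (QuotientGroup.mk' L)⁆ = ⊥ := by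
    intro A B C
    rw [← Subgroup.map_commutator, ← Subgroup.map_commutator, Subgroup.map_eq_bot_iff,
      QuotientGroup.ker_mk']
  rw [key] at h1 h2 ⊢
  exact Subgroup.commutator_commutator_eq_bot_of_rotate h1 h2

/-- `⁅X, γ_{k+1}(G)⁆ ≤ [X, G, …, G]` (`k + 1` copies) for normal `X` -/
theorem commutator_lcs_le_iterTop (k : ℕ) : ∀ (X : Subgroup G) [X.Normal],
    ⁅X, (⊤ : Subgroup G).lowerCentralSeries k⁆ ≤ iterTop X (k + 1) := by
  induction k with
  | zero =>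
    intro X _
    rw [Subgroup.lowerCentralSeries_zero, iterTop_succ, iterTop_zero]
  | succ k ih =>
    intro X hX
    rw [Subgroup.lowerCentralSeries_succ, Subgroup.commutator_comm X]
    -- ⁅⁅Γ_k, ⊤⁆, X⁆ ≤ iterTop X (k + 2)
    apply commutator_commutator_le_of_rotate
    · -- ⁅⁅⊤, X⁆, Γ_k⁆ ≤ L
      rw [Subgroup.commutator_comm ⊤ X]
      have := ih ⁅X, ⊤⁆
      rwa [iterTop_shift] at this
    · -- ⁅⁅X, Γ_k⁆, ⊤⁆ ≤ L
      rw [iterTop_succ X (k + 1)]
      exact Subgroup.commutator_mono (ih X) le_rfl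

/-- `⁅A ⊔ K, ⊤⁆ ≤ ⁅A, ⊤⁆ ⊔ K` for normal `K` -/
theorem commutator_sup_top_le (A K : Subgroup G) [hK : K.Normal] :
    ⁅A ⊔ K, (⊤ : Subgroup G)⁆ ≤ ⁅A, ⊤⁆ ⊔ K := by
  rw [Subgroup.commutator_le]
  intro x hx g _
  obtain ⟨a, ha, k, hk, rfl⟩ := Subgroup.mem_sup_of_normal_right.1 hx
  have e : ⁅a * k, g⁆ = (a * ⁅k, g⁆ * a⁻¹) * ⁅a, g⁆ := by
    simp only [commutatorElement_def]; group
  rw [e]
  have h1 : ⁅k, g⁆ ∈ K := by
    rw [commutatorElement_def]
    have : k * g * k⁻¹ * g⁻¹ = k * (g * k⁻¹ * g⁻¹) := by group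
    rw [this]
    exact K.mul_mem hk (hK.conj_mem _ (K.inv_mem hk) g)
  have h2 : a * ⁅k, g⁆ * a⁻¹ ∈ K := hK.conj_mem _ h1 a
  have h3 : ⁅a, g⁆ ∈ ⁅A, (⊤ : Subgroup G)⁆ := Subgroup.commutator_mem_commutator ha (mem_top g)
  exact (⁅A, ⊤⁆ ⊔ K).mul_mem (mem_sup_right h2) (mem_sup_left h3)

/-- in a nilpotent group, `Y ≤ ⁅Y, G⁆ K` forces `Y ≤ K` (for `K` normal) -/
theorem le_of_le_commutator_top_sup [hG : Group.IsNilpotent G] (Y K : Subgroup G) [K.Normal]
    (h : Y ≤ ⁅Y, (⊤ : Subgroup G)⁆ ⊔ K) : Y ≤ K := by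
  have hj : ∀ j : ℕ, Y ≤ (⊤ : Subgroup G).lowerCentralSeries j ⊔ K := by
    intro j
    induction j with
    | zero => rw [Subgroup.lowerCentralSeries_zero]; exact le_top.trans le_sup_left
    | succ j ih =>
      refine h.trans (sup_le ?_ le_sup_right)
      calc ⁅Y, (⊤ : Subgroup G)⁆ ≤ ⁅(⊤ : Subgroup G).lowerCentralSeries j ⊔ K, ⊤⁆ :=
            Subgroup.commutator_mono ih le_rfl
        _ ≤ ⁅(⊤ : Subgroup G).lowerCentralSeries j, ⊤⁆ ⊔ K := commutator_sup_top_le _ _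
        _ = (⊤ : Subgroup G).lowerCentralSeries (j + 1) ⊔ K := by rw [Subgroup.lowerCentralSeries_succ]
  obtain ⟨c, hc⟩ := Subgroup.nilpotent_iff_lowerCentralSeries.1 hG
  have := hj c
  rwa [hc, bot_sup_eq] at this

end Cfsg.Agent.Lib.Helper63
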