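import Mathlib

set_option autoImplicit false

/-!
A nonabelian group of order `p ^ 4` has an abelian subgroup of index `p`.
-/

namespace Cfsg.Agent.Lib.Helper63

/-- exponent bookkeeping: a subgroup of a group of order `p ^ n` has order `p ^ k`, `k ≤ n`. -/
theorem card_subgroup_eq_pow {S : Type*} [Group S] {p n : ℕ} (hp : p.Prime)
    (hcard : Nat.card S = p ^ n) (H : Subgroup S) : ∃ k, k ≤ n ∧ Nat.card H = p ^ k := by
  have hd : Nat.card H ∣ p ^ n := hcard ▸ Subgroup.card_subgroup_dvd_card H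
  exact (Nat.dvd_prime_pow hp).1 hd

theorem exists_abelian_index_p_of_card_p4 {S : Type*} [Group S] [Finite S] {p : ℕ}
    [hp : Fact p.Prime] (hcard : Nat.card S = p ^ 4) (hna : Subgroup.center S ≠ ⊤) :
    ∃ A : Subgroup S, IsMulCommutative ↥A ∧ A.index = p := by
  have hp1 : 1 < p := hp.out.one_lt
  have hS : IsPGroup p S := IsPGroup.of_card hcard
  have hnt : Nontrivial S := by
    rw [← Finite.one_lt_card_iff_nontrivial, hcard]
    exact Nat.one_lt_pow (by norm_num) hp1
  have hZnt : Nontrivial (Subgroup.center S) := hS.center_nontrivial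
  -- the quotient by the centre is a nontrivial p-group
  have hQp : IsPGroup p (S ⧸ Subgroup.center S) := hS.to_quotient _
  have hQnt : Nontrivial (S ⧸ Subgroup.center S) := by
    rw [← Finite.one_lt_card_iff_nontrivial, ← Subgroup.index_eq_card]
    have h0 : (Subgroup.center S).index ≠ 0 := Subgroup.index_ne_zero_of_finite
    have h1 : (Subgroup.center S).index ≠ 1 := fun h => hna (Subgroup.index_eq_one.1 h)
    omega
  have hZQnt : Nontrivial (Subgroup.center (S ⧸ Subgroup.center S)) := hQp.center_nontrivial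
  obtain ⟨⟨zb, hzb⟩, hzb1⟩ := exists_ne (1 : Subgroup.center (S ⧸ Subgroup.center S))
  have hzb1' : zb ≠ 1 := fun h => hzb1 (Subtype.ext h)
  obtain ⟨n₀, rfl⟩ := QuotientGroup.mk_surjective zb
  have hn₀Z : n₀ ∉ Subgroup.center S := fun h => hzb1' ((QuotientGroup.eq_one_iff n₀).2 h)
  have hcomm : ∀ g : S, g * n₀ * g⁻¹ * n₀⁻¹ ∈ Subgroup.center S := by
    intro g
    rw [← QuotientGroup.eq_one_iff]
    have h1 := (Subgroup.mem_center_iff.1 hzb) (g : S ⧸ Subgroup.center S)
    -- h1 : ↑g * ↑n₀ = ↑n₀ * ↑g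
    have : ((g * n₀ * g⁻¹ * n₀⁻¹ : S) : S ⧸ Subgroup.center S) =
        (g : S ⧸ Subgroup.center S) * (n₀ : S ⧸ Subgroup.center S) *
          (g : S ⧸ Subgroup.center S)⁻¹ * (n₀ : S ⧸ Subgroup.center S)⁻¹ := by
      simp
    rw [this, h1]
    group
  -- the commutator homomorphism into the centre
  let φ : S →* Subgroup.center S := MonoidHom.mk' (fun g => ⟨g * n₀ * g⁻¹ * n₀⁻¹, hcomm g⟩) (by
    intro a b
    apply Subtype.ext
    change a * b * n₀ * (a * b)⁻¹ * n₀⁻¹ = (a * n₀ * a⁻¹ * n₀⁻¹) * (b * n₀ * b⁻¹ * n₀⁻¹)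
    have hb := Subgroup.mem_center_iff.1 (hcomm b)
    calc a * b * n₀ * (a * b)⁻¹ * n₀⁻¹
        = a * (b * n₀ * b⁻¹ * n₀⁻¹) * (n₀ * a⁻¹ * n₀⁻¹) := by group
      _ = (b * n₀ * b⁻¹ * n₀⁻¹) * a * (n₀ * a⁻¹ * n₀⁻¹) := by rw [hb a]
      _ = (b * n₀ * b⁻¹ * n₀⁻¹) * (a * n₀ * a⁻¹ * n₀⁻¹) := by group
      _ = (a * n₀ * a⁻¹ * n₀⁻¹) * (b * n₀ * b⁻¹ * n₀⁻¹) := (hb _).symm)
  have hφ : ∀ g, ((φ g : Subgroup.center S) : S) = g * n₀ * g⁻¹ * n₀⁻¹ := fun g => rfl
  set C : Subgroup S := Subgroup.centralizer ({n₀} : Set S) with hC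
  have hmemC : ∀ g, g ∈ C ↔ n₀ * g = g * n₀ := by
    intro g
    rw [hC, Subgroup.mem_centralizer_iff]
    constructor
    · intro h; exact h n₀ rfl
    · intro h x hx; rw [Set.mem_singleton_iff] at hx; subst hx; exact h
  have hker : φ.ker = C := by
    ext g
    rw [MonoidHom.mem_ker, hmemC, Subtype.ext_iff, hφ]
    change g * n₀ * g⁻¹ * n₀⁻¹ = 1 ↔ _
    constructor
    · intro h
      calc n₀ * g = (g * n₀ * g⁻¹ * n₀⁻¹)⁻¹ * (g * n₀) := by group
        _ = g * n₀ := by rw [h]; group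
    · intro h
      calc g * n₀ * g⁻¹ * n₀⁻¹ = (g * n₀) * g⁻¹ * n₀⁻¹ := by group
        _ = (n₀ * g) * g⁻¹ * n₀⁻¹ := by rw [h]
        _ = 1 := by group
  have hCtop : C ≠ ⊤ := by
    intro h
    apply hn₀Z
    rw [Subgroup.mem_center_iff]
    intro g
    have : g ∈ C := h ▸ Subgroup.mem_top g
    exact ((hmemC g).1 this).symm
  set N : Subgroup S := Subgroup.center S ⊔ Subgroup.zpowers n₀ with hN
  have hZC : Subgroup.center S ≤ C := by
    intro z hz
    rw [hmemC]
    exact (Subgroup.mem_center_iff.1 hz n₀)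
  have hn₀C : n₀ ∈ C := (hmemC n₀).2 rfl
  have hNC : N ≤ C := sup_le hZC ((Subgroup.zpowers_le).2 hn₀C)
  have hZN : Subgroup.center S < N := by
    refine lt_of_le_of_ne le_sup_left ?_
    intro h
    apply hn₀Z
    rw [h]
    exact (le_sup_right : Subgroup.zpowers n₀ ≤ N) (Subgroup.mem_zpowers n₀)
  have hNcent : N ≤ Subgroup.centralizer (C : Set S) := by
    refine sup_le ?_ ?_
    · exact Subgroup.center_le_centralizer _
    · rw [Subgroup.zpowers_le, Subgroup.mem_centralizer_iff]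
      intro c hc
      exact ((hmemC c).1 hc).symm
  -- cardinalities
  obtain ⟨i, hi4, hi⟩ := card_subgroup_eq_pow hp.out hcard (Subgroup.center S)
  obtain ⟨j, hj4, hj⟩ := card_subgroup_eq_pow hp.out hcard N
  obtain ⟨k, hk4, hk⟩ := card_subgroup_eq_pow hp.out hcard C
  have hij : i < j := by
    have h1 : Nat.card (Subgroup.center S) < Nat.card N := by
      have hle : Nat.card (Subgroup.center S) ≤ Nat.card N :=
        Nat.le_of_dvd Nat.card_pos (Subgroup.card_dvd_of_le hZN.le)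
      refine lt_of_le_of_ne hle ?_
      intro h
      have h2 : (Subgroup.center S).subgroupOf N = ⊤ := by
        rw [← Subgroup.card_eq_iff_eq_top]
        rw [← h]
        exact Nat.card_congr (Subgroup.subgroupOfEquivOfLe hZN.le).toEquiv
      rw [Subgroup.subgroupOf_eq_top] at h2
      exact hZN.not_ge h2
    rw [hi, hj] at h1
    exact (Nat.pow_lt_pow_iff_right hp1).1 h1
  have hjk : j ≤ k := by
    have h1 : Nat.card N ≤ Nat.card C := Nat.le_of_dvd Nat.card_pos (Subgroup.card_dvd_of_le hNC)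
    rw [hj, hk] at h1
    exact (Nat.pow_le_pow_iff_right hp1).1 h1
  have hk3 : k ≤ 3 := by
    by_contra hcon
    have hk4' : k = 4 := by omega
    apply hCtop
    rw [← Subgroup.card_eq_iff_eq_top, hk, hk4', hcard]
  have hi1 : 1 ≤ i := by
    by_contra hcon
    have hi0 : i = 0 := by omega
    rw [hi0, pow_zero] at hi
    have := (Finite.one_lt_card_iff_nontrivial).2 hZnt
    omega
  have hki : 4 ≤ k + i := by
    have h1 : C.index ∣ Nat.card (Subgroup.center S) := by
      rw [← hker, Subgroup.index_ker]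
      exact Subgroup.card_dvd_of_le le_top |>.trans (by
        rw [Subgroup.card_top])
    have h2 : Nat.card C * C.index = p ^ 4 := by rw [Subgroup.card_mul_index, hcard]
    rw [hk] at h2
    rw [hi] at h1
    have h3 : p ^ 4 ∣ p ^ k * p ^ i := by
      rw [← h2]; exact Nat.mul_dvd_mul_left _ h1
    rw [← pow_add] at h3
    exact (Nat.pow_dvd_pow_iff_le_right hp1).1 h3
  have hk3' : k = 3 := by omega
  have hj2 : 2 ≤ j := by omega
  -- the centre of C is big
  have hcenterC : Nat.card N ≤ Nat.card (Subgroup.center ↥C) := by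
    refine Nat.card_le_card_of_injective
      (fun n : N => (⟨⟨n.1, hNC n.2⟩, ?_⟩ : Subgroup.center ↥C)) ?_
    · rw [Subgroup.mem_center_iff]
      intro c
      apply Subtype.ext
      have := (Subgroup.mem_centralizer_iff.1 (hNcent n.2)) c.1 c.2
      exact this
    · intro a b hab
      apply Subtype.ext
      have := congrArg (fun x : Subgroup.center ↥C => ((x : ↥C) : S)) hab
      exact this
  have hquot : Nat.card (↥C ⧸ Subgroup.center ↥C) * Nat.card (Subgroup.center ↥C) = p ^ 3 := by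
    rw [← Subgroup.card_eq_card_quotient_mul_card_subgroup, hk, hk3']
  have hCpg : Nat.card ↥C = p ^ 3 := by rw [hk, hk3']
  obtain ⟨m, hm3, hm⟩ := card_subgroup_eq_pow hp.out hCpg (Subgroup.center ↥C)
  have hm2 : 2 ≤ m := by
    have h1 : p ^ j ≤ p ^ m := by rw [← hj, ← hm]; exact hcenterC
    have := (Nat.pow_le_pow_iff_right hp1).1 h1
    omega
  have hq : Nat.card (↥C ⧸ Subgroup.center ↥C) = p ^ (3 - m) := by
    rw [hm] at hquot
    have h3 : p ^ 3 = p ^ (3 - m) * p ^ m := by rw [← pow_add]; congr 1; omega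
    rw [h3] at hquot
    exact Nat.eq_of_mul_eq_mul_right (Nat.pos_of_ne_zero (pow_ne_zero _ hp.out.ne_zero)) hquot
  have hcyc : IsCyclic (↥C ⧸ Subgroup.center ↥C) := by
    have hm' : m = 2 ∨ m = 3 := by omega
    rcases hm' with h | h
    · rw [h] at hq
      have : Nat.card (↥C ⧸ Subgroup.center ↥C) = p := by rw [hq]; simp
      exact isCyclic_of_prime_card this
    · rw [h] at hq
      have h1 : Nat.card (↥C ⧸ Subgroup.center ↥C) = 1 := by rw [hq]; simp
      have : Subsingleton (↥C ⧸ Subgroup.center ↥C) := (Nat.card_eq_one_iff_unique.1 h1).1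
      exact isCyclic_of_subsingleton
  have hCcomm : IsMulCommutative ↥C :=
    MonoidHom.isMulCommutative_of_isCyclic_of_ker_le_center
      (QuotientGroup.mk' (Subgroup.center ↥C)) (by rw [QuotientGroup.ker_mk'])
  refine ⟨C, hCcomm, ?_⟩
  have h2 : Nat.card C * C.index = p ^ 4 := by rw [Subgroup.card_mul_index, hcard]
  rw [hk, hk3'] at h2
  have h3 : p ^ 4 = p ^ 3 * p := by ring
  rw [h3] at h2
  exact Nat.eq_of_mul_eq_mul_left (Nat.pos_of_ne_zero (pow_ne_zero _ hp.out.ne_zero)) h2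

end Cfsg.Agent.Lib.Helper63
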