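import Mathlib
import Cfsg.Agent.Lib.Helper63.PLength

set_option autoImplicit false

namespace Cfsg.Agent.Lib.Helper63

open Cfsg

variable {G : Type*} [Group G]

/-- A `p`-series from `A` to `B` with `G`-normal terms having `k` factors of `p`-type. -/
def RelPLen (p k : ℕ) (A B : Subgroup G) : Prop :=
  ∃ N : ℕ → Subgroup G, N 0 = A ∧ Monotone N ∧ (∀ i, (N i).Normal) ∧
    (∀ i, Even i → PPrimeFac p (N i) (N (i+1))) ∧ (∀ i, ¬ Even i → PFac p (N i) (N (i+1))) ∧
    N (2 * k + 1) = B

theorem relPLen_bot_top_iff [Finite G] {p k : ℕ} [Fact p.Prime] :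
    RelPLen p k (⊥ : Subgroup G) ⊤ ↔ PLengthLE p k G := by
  constructor
  · rintro ⟨N, h0, _, hn, he, ho, htop⟩
    exact pLengthLE_iff.2 ⟨N, ⟨h0, hn, he, ho⟩, htop⟩
  · intro h
    have hs := isPSeries_ups (G := G) p
    exact ⟨_, hs.1, ups_mono p, hs.2.1, hs.2.2.1, hs.2.2.2, h⟩

theorem pPrimeFac_self (p : ℕ) (B : Subgroup G) : PPrimeFac p B B :=
  fun x hx => ⟨1, Nat.coprime_one_left p, by simpa using hx⟩

theorem pFac_self (p : ℕ) (B : Subgroup G) : PFac p B B :=
  fun x hx => ⟨0, by simpa using hx⟩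

theorem PPrimeFac.trans {p : ℕ} {A B C : Subgroup G} (h1 : PPrimeFac p A B) (h2 : PPrimeFac p B C) :
    PPrimeFac p A C := by
  intro x hx
  obtain ⟨n, hn, hxn⟩ := h2 x hx
  obtain ⟨n', hn', hxn'⟩ := h1 _ hxn
  exact ⟨n * n', Nat.Coprime.mul_left hn hn', by rw [pow_mul]; exact hxn'⟩

theorem PPrimeFac.mono {p : ℕ} {A B C D : Subgroup G} (h : PPrimeFac p A B) (hAC : A ≤ C)
    (hDB : D ≤ B) : PPrimeFac p C D := by
  intro x hx
  obtain ⟨n, hn, hxn⟩ := h x (hDB hx)
  exact ⟨n, hn, hAC hxn⟩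

theorem PFac.toPPrime {t p : ℕ} (ht : t.Prime) (hp : p.Prime) (hne : t ≠ p) {A B : Subgroup G}
    (h : PFac t A B) : PPrimeFac p A B := by
  intro x hx
  obtain ⟨m, hm⟩ := h x hx
  exact ⟨t ^ m, Nat.Coprime.pow_left _ ((Nat.coprime_primes ht hp).2 hne), hm⟩

theorem relPLen_of_pPrimeFac {p : ℕ} {A B : Subgroup G} (hA : A.Normal) (hB : B.Normal) (hAB : A ≤ B)
    (h : PPrimeFac p A B) : RelPLen p 0 A B := by
  refine ⟨fun i => if i = 0 then A else B, by simp, ?_, ?_, ?_, ?_, by simp⟩
  · apply monotone_nat_of_le_succ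
    intro n
    by_cases hn : n = 0
    · subst hn; simpa using hAB
    · simp [hn]
  · intro i; by_cases hi : i = 0 <;> simp [hi, hA, hB]
  · intro i _
    by_cases hi : i = 0
    · subst hi; simpa using h
    · simp only [hi, if_false, Nat.succ_ne_zero]; exact pPrimeFac_self p B
  · intro i _
    by_cases hi : i = 0
    · subst hi; simp at *
    · simp only [hi, if_false, Nat.succ_ne_zero]; exact pFac_self p B

theorem relPLen_of_pFac {p : ℕ} {A B : Subgroup G} (hA : A.Normal) (hB : B.Normal) (hAB : A ≤ B)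
    (h : PFac p A B) : RelPLen p 1 A B := by
  refine ⟨fun i => if i ≤ 1 then A else B, by simp, ?_, ?_, ?_, ?_, by simp⟩
  · apply monotone_nat_of_le_succ
    intro n
    by_cases hn : n + 1 ≤ 1
    · have : n ≤ 1 := by omega
      simp [hn, this]
    · by_cases hn' : n ≤ 1
      · simp [hn, hn', hAB]
      · simp [hn, hn']
  · intro i; by_cases hi : i ≤ 1 <;> simp [hi, hA, hB]
  · intro i he
    by_cases hi : i + 1 ≤ 1
    · have : i ≤ 1 := by omega
      simp only [hi, this, if_true]; exact pPrimeFac_self p A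
    · have : ¬ i ≤ 1 := by
        intro h1
        have : i = 1 := by omega
        subst this
        exact absurd he (by decide)
      simp only [hi, this, if_false]; exact pPrimeFac_self p B
  · intro i ho
    by_cases hi : i + 1 ≤ 1
    · have : i = 0 := by omega
      subst this
      exact absurd (by decide : Even 0) ho
    · by_cases hi' : i ≤ 1
      · simp only [hi, hi', if_true, if_false]; exact h
      · simp only [hi, hi', if_false]; exact pFac_self p B

theorem RelPLen.trans {p a b : ℕ} {A B C : Subgroup G} (h1 : RelPLen p a A B)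
    (h2 : RelPLen p b B C) : RelPLen p (a + b) A C := by
  obtain ⟨N, hN0, hNm, hNn, hNe, hNo, hNB⟩ := h1
  obtain ⟨N', hN'0, hN'm, hN'n, hN'e, hN'o, hN'C⟩ := h2
  refine ⟨fun i => if i ≤ 2 * a then N i else N' (i - 2 * a), ?_, ?_, ?_, ?_, ?_, ?_⟩
  · simp [hN0]
  · apply monotone_nat_of_le_succ
    intro n
    by_cases h : n + 1 ≤ 2 * a
    · have : n ≤ 2 * a := by omega
      simp only [h, this, if_true]
      exact hNm (Nat.le_succ n)
    · by_cases h' : n ≤ 2 * a
      · have hn : n = 2 * a := by omega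
        simp only [h, h', if_true, if_false]
        subst hn
        have e1 : 2 * a + 1 - 2 * a = 1 := by omega
        rw [e1]
        calc N (2 * a) ≤ N (2 * a + 1) := hNm (Nat.le_succ _)
          _ = N' 0 := by rw [hNB, hN'0]
          _ ≤ N' 1 := hN'm (Nat.le_succ 0)
      · simp only [h, h', if_false]
        exact hN'm (by omega)
  · intro i
    by_cases h : i ≤ 2 * a <;> simp only [h, if_true, if_false]
    · exact hNn i
    · exact hN'n _
  · intro i he
    by_cases h : i + 1 ≤ 2 * a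
    · have : i ≤ 2 * a := by omega
      simp only [h, this, if_true]
      exact hNe i he
    · by_cases h' : i ≤ 2 * a
      · have hn : i = 2 * a := by omega
        simp only [h, h', if_true, if_false]
        subst hn
        have e1 : 2 * a + 1 - 2 * a = 1 := by omega
        rw [e1]
        have f1 : PPrimeFac p (N (2 * a)) (N (2 * a + 1)) := hNe _ he
        have f2 : PPrimeFac p (N' 0) (N' 1) := hN'e 0 (by decide)
        rw [hN'0, ← hNB] at f2
        exact f1.trans f2
      · simp only [h, h', if_false]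
        have e1 : i + 1 - 2 * a = (i - 2 * a) + 1 := by omega
        rw [e1]
        apply hN'e
        have : i = (i - 2 * a) + 2 * a := by omega
        rw [this] at he
        rcases he with ⟨r, hr⟩
        exact ⟨r - a, by omega⟩
  · intro i ho
    by_cases h : i + 1 ≤ 2 * a
    · have : i ≤ 2 * a := by omega
      simp only [h, this, if_true]
      exact hNo i ho
    · by_cases h' : i ≤ 2 * a
      · exfalso
        have hn : i = 2 * a := by omega
        exact ho ⟨a, by omega⟩
      · simp only [h, h', if_false]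
        have e1 : i + 1 - 2 * a = (i - 2 * a) + 1 := by omega
        rw [e1]
        apply hN'o
        intro he
        apply ho
        rcases he with ⟨r, hr⟩
        exact ⟨r + a, by omega⟩
  · have h : ¬ (2 * (a + b) + 1 ≤ 2 * a) := by omega
    simp only [h, if_false]
    have e1 : 2 * (a + b) + 1 - 2 * a = 2 * b + 1 := by omega
    rw [e1]; exact hN'C

theorem pow_mul_mem_of_normal {C : Subgroup G} [hC : C.Normal] (y c : G) (hc : c ∈ C) (n : ℕ) :
    (y ^ n)⁻¹ * (y * c) ^ n ∈ C := by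
  have h1 : ((y * c : G) : G ⧸ C) = (y : G ⧸ C) := by
    rw [QuotientGroup.eq]
    have : (y * c)⁻¹ * y = c⁻¹ * (y⁻¹ * y) := by group
    rw [this]; simpa using hc
  have h2 : (((y * c) ^ n : G) : G ⧸ C) = ((y ^ n : G) : G ⧸ C) := by
    rw [QuotientGroup.mk_pow, QuotientGroup.mk_pow, h1]
  exact QuotientGroup.eq.1 h2.symm

theorem RelPLen.restrict {p k : ℕ} {A B C D : Subgroup G} (h : RelPLen p k A B)
    (hC : C.Normal) (hD : D.Normal) (hAC : A ≤ C) (hCD : C ≤ D) (hDB : D ≤ B) :
    RelPLen p k C D := by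
  obtain ⟨N, hN0, hNm, hNn, hNe, hNo, hNB⟩ := h
  haveI := hC
  haveI := hD
  refine ⟨fun i => (N i ⊓ D) ⊔ C, ?_, ?_, ?_, ?_, ?_, ?_⟩
  · simp only [hN0]
    exact sup_eq_right.2 (inf_le_left.trans hAC)
  · intro i j hij
    exact sup_le_sup_right (inf_le_inf_right _ (hNm hij)) _
  · intro i
    haveI := hNn i
    infer_instance
  · intro i he x hx
    simp only at hx ⊢
    rw [← SetLike.mem_coe, Subgroup.mul_normal] at hx
    obtain ⟨y, hy, c, hc, rfl⟩ := hx
    obtain ⟨n, hn, hyn⟩ := hNe i he y hy.1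
    refine ⟨n, hn, ?_⟩
    have h1 : (y * c) ^ n = y ^ n * ((y ^ n)⁻¹ * (y * c) ^ n) := by group
    rw [h1]
    exact Subgroup.mul_mem_sup ⟨hyn, D.pow_mem hy.2 n⟩ (pow_mul_mem_of_normal y c hc n)
  · intro i ho x hx
    simp only at hx ⊢
    rw [← SetLike.mem_coe, Subgroup.mul_normal] at hx
    obtain ⟨y, hy, c, hc, rfl⟩ := hx
    obtain ⟨m, hym⟩ := hNo i ho y hy.1
    refine ⟨m, ?_⟩
    have h1 : (y * c) ^ (p ^ m) = y ^ (p ^ m) * ((y ^ (p ^ m))⁻¹ * (y * c) ^ (p ^ m)) := by group
    rw [h1]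
    exact Subgroup.mul_mem_sup ⟨hym, D.pow_mem hy.2 _⟩ (pow_mul_mem_of_normal y c hc _)
  · simp only [hNB]
    rw [inf_eq_right.2 hDB]
    exact sup_eq_left.2 hCD

/-- if `B/A` is an `s'`-group for every prime `s ≠ p`, then it is a `p`-group (elementwise) -/
theorem pFac_of_forall_pPrimeFac [Finite G] {p : ℕ} (hp : p.Prime) {A B : Subgroup G} (hA : A.Normal)
    (h : ∀ s : ℕ, s.Prime → s ≠ p → PPrimeFac s A B) : PFac p A B := by
  haveI := hA
  intro x hx
  set o := orderOf ((x : G) : G ⧸ A) with ho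
  have hopos : 0 < o := orderOf_pos _
  have huniq : ∀ s : ℕ, s.Prime → s ∣ o → s = p := by
    intro s hs hso
    by_contra hne
    obtain ⟨n, hn, hxn⟩ := h s hs hne x hx
    have h1 : ((x : G) : G ⧸ A) ^ n = 1 := by
      rw [← QuotientGroup.mk_pow]
      exact (QuotientGroup.eq_one_iff _).2 hxn
    have h2 : o ∣ n := orderOf_dvd_of_pow_eq_one h1
    have h3 : s ∣ Nat.gcd n s := Nat.dvd_gcd (hso.trans h2) dvd_rfl
    rw [hn] at h3
    exact hs.one_lt.ne' (Nat.dvd_one.1 h3)
  have hpow : o = p ^ o.primeFactorsList.length :=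
    Nat.eq_prime_pow_of_unique_prime_dvd hopos.ne' (fun hd hdvd => huniq _ hd hdvd)
  refine ⟨o.primeFactorsList.length, ?_⟩
  rw [← hpow]
  have : ((x : G) : G ⧸ A) ^ o = 1 := pow_orderOf_eq_one _
  rw [← QuotientGroup.mk_pow] at this
  exact (QuotientGroup.eq_one_iff _).1 this

end Cfsg.Agent.Lib.Helper63
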