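import Mathlib
import Cfsg.Agent.Lib.Helper63.PGroup

set_option autoImplicit false

/-!
`p`-subgroups of the symmetric group of degree `n < p ^ 2` are abelian.
-/

namespace Cfsg.Agent.Lib.Helper63

open scoped commutatorElement

theorem perm_pSubgroup_comm {p : ℕ} [hp : Fact p.Prime] {n : ℕ} (hn : n < p ^ 2)
    (H : Subgroup (Equiv.Perm (Fin n))) (hH : IsPGroup p H) (x y : Equiv.Perm (Fin n))
    (hx : x ∈ H) (hy : y ∈ H) : x * y = y * x := by
  apply Equiv.ext
  intro a
  set S : Subgroup ↥H := MulAction.stabilizer ↥H a with hS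
  have hidx_lt : S.index < p ^ 2 := by
    rw [hS, MulAction.index_stabilizer]
    calc (MulAction.orbit ↥H a).ncard ≤ Nat.card (Fin n) := Set.ncard_le_card _
      _ = n := by simp
      _ < p ^ 2 := hn
  obtain ⟨k, hk⟩ := (IsPGroup.iff_card).1 hH
  have hdvd : S.index ∣ p ^ k := hk ▸ Subgroup.index_dvd_card S
  obtain ⟨j, _, hj⟩ := (Nat.dvd_prime_pow hp.out).1 hdvd
  have hj1 : j ≤ 1 := by
    rw [hj] at hidx_lt
    have := (Nat.pow_lt_pow_iff_right hp.out.one_lt).1 hidx_lt
    omega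
  have hcomm : commutator ↥H ≤ S := by
    rcases Nat.eq_zero_or_pos j with h0 | hpos
    · rw [h0, pow_zero, Subgroup.index_eq_one] at hj
      rw [hj]; exact le_top
    · have hj' : j = 1 := by omega
      rw [hj', pow_one] at hj
      have hSn : S.Normal := normal_of_index_eq_prime hH S hj
      have hcard : Nat.card (↥H ⧸ S) = p := by rw [← Subgroup.index_eq_card, hj]
      have hcyc : IsCyclic (↥H ⧸ S) := isCyclic_of_prime_card hcard
      exact Subgroup.Normal.quotient_commutative_iff_commutator_le.mp IsCyclic.isMulCommutative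
  have hc : ⁅(⟨x, hx⟩ : ↥H)⁻¹, (⟨y, hy⟩ : ↥H)⁻¹⁆ ∈ S := by
    apply hcomm
    rw [commutator_def]
    exact Subgroup.commutator_mem_commutator (Subgroup.mem_top _) (Subgroup.mem_top _)
  rw [hS, MulAction.mem_stabilizer_iff] at hc
  have hc' : (x⁻¹ * y⁻¹ * x * y) a = a := by
    have e : ⁅(⟨x, hx⟩ : ↥H)⁻¹, (⟨y, hy⟩ : ↥H)⁻¹⁆ • a = (x⁻¹ * y⁻¹ * x * y) a := by
      rw [commutatorElement_def, inv_inv, inv_inv]
      rfl
    rw [← e]; exact hc
  calc (x * y) a = (y * x) ((x⁻¹ * y⁻¹ * x * y) a) := by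
        simp only [Equiv.Perm.mul_apply, Equiv.Perm.inv_def, Equiv.apply_symm_apply]
    _ = (y * x) a := by rw [hc']

end Cfsg.Agent.Lib.Helper63
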