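import Mathlib
import Cfsg.Prelude.Def_Blocks

/-!
# Pm hive (S4427): definitions

`A = MonoidAlgebra ℂ G`.  For an element `ε` of `A`:
* `pmAug ε = ∑ g, ε.coeff g` (augmentation),
* `pmPhi ε g = ∑ x, ε.coeff (x⁻¹ * g⁻¹ * x)` (the character of the left ideal `A ε` when `ε` is idempotent),
* `pmAvg H` the averaging idempotent of a subgroup `H`,
* `pmIdeal ε = A ε` (range of right multiplication by `ε`), `pmRho ε` the left regular action on it,
* `pmProj a b : v ↦ a v b`.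
-/

set_option autoImplicit false

namespace Cfsg.Agent.Lib.Helper63.Pm

open Classical

variable {G : Type*} [Group G] [Fintype G]

/-- Augmentation of an element of the group algebra. -/
noncomputable def pmAug (ε : MonoidAlgebra ℂ G) : ℂ := ∑ g : G, ε.coeff g

/-- The class function `g ↦ ∑ x, ε (x⁻¹ g⁻¹ x)`. -/
noncomputable def pmPhi (ε : MonoidAlgebra ℂ G) (g : G) : ℂ := ∑ x : G, ε.coeff (x⁻¹ * g⁻¹ * x)

/-- The averaging idempotent `|H|⁻¹ ∑_{h ∈ H} h`. -/
noncomputable def pmAvg (H : Subgroup G) : MonoidAlgebra ℂ G :=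
  ((Nat.card H : ℂ)⁻¹) • ∑ h ∈ Finset.univ.filter (fun g : G => g ∈ H), MonoidAlgebra.of ℂ G h

/-- The left ideal `A ε`. -/
noncomputable def pmIdeal (ε : MonoidAlgebra ℂ G) : Submodule ℂ (MonoidAlgebra ℂ G) :=
  LinearMap.range (LinearMap.mulRight ℂ ε)

omit [Fintype G] in
theorem pmIdeal_mul_mem (ε : MonoidAlgebra ℂ G) (a : MonoidAlgebra ℂ G)
    {v : MonoidAlgebra ℂ G} (hv : v ∈ pmIdeal ε) : a * v ∈ pmIdeal ε := by
  obtain ⟨w, rfl⟩ := hv
  exact ⟨a * w, by simp [mul_assoc]⟩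

/-- The left regular action of `G` on the left ideal `A ε`. -/
noncomputable def pmRho (ε : MonoidAlgebra ℂ G) : Representation ℂ G (pmIdeal ε) where
  toFun g := (LinearMap.mulLeft ℂ (MonoidAlgebra.of ℂ G g)).restrict
    (p := pmIdeal ε) (q := pmIdeal ε) (fun _ hv => pmIdeal_mul_mem ε _ hv)
  map_one' := by
    ext v
    simp
  map_mul' g h := by
    ext v
    simp [mul_assoc]

omit [Fintype G] in
@[simp] theorem pmRho_apply (ε : MonoidAlgebra ℂ G) (g : G) (v : pmIdeal ε) :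
    ((pmRho ε g v : pmIdeal ε) : MonoidAlgebra ℂ G) = MonoidAlgebra.of ℂ G g * (v : MonoidAlgebra ℂ G) := rfl

/-- `v ↦ a v b`. -/
noncomputable def pmProj (a b : MonoidAlgebra ℂ G) : MonoidAlgebra ℂ G →ₗ[ℂ] MonoidAlgebra ℂ G :=
  LinearMap.mulLeft ℂ a ∘ₗ LinearMap.mulRight ℂ b

omit [Fintype G] in
@[simp] theorem pmProj_apply (a b v : MonoidAlgebra ℂ G) : pmProj a b v = a * (v * b) := rfl

end Cfsg.Agent.Lib.Helper63.Pm
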