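import Mathlib
import Cfsg.Agent.Lib.Helper63.ProdCard

/-!
# Soft subgroups: basic relative `p`-group lemmas

Everything here is phrased for subgroups of a fixed finite `p`-group `G`, with cardinalities
`Nat.card ↥H` in place of indices.
-/

set_option autoImplicit false

namespace Cfsg.Agent.Lib.Helper63.Soft

open scoped Pointwise commutatorElement

variable {G : Type*} [Group G]

/-- The conjugate subgroup `g H g⁻¹`. -/
def cj (g : G) (H : Subgroup G) : Subgroup G := H.map (MulAut.conj g).toMonoidHom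

theorem mem_cj {g x : G} {H : Subgroup G} : x ∈ cj g H ↔ g⁻¹ * x * g ∈ H := by
  unfold cj
  constructor
  · rintro ⟨h, hh, rfl⟩
    have : g⁻¹ * ((MulAut.conj g).toMonoidHom h) * g = h := by
      simp [MulAut.conj_apply, mul_assoc]
    rw [this]; exact hh
  · intro h
    exact ⟨g⁻¹ * x * g, h, by simp [MulAut.conj_apply, mul_assoc]⟩

theorem conj_mem_cj {g x : G} {H : Subgroup G} (hx : x ∈ H) : g * x * g⁻¹ ∈ cj g H := by
  rw [mem_cj]
  have : g⁻¹ * (g * x * g⁻¹) * g = x := by group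
  rw [this]; exact hx

theorem card_cj [Finite G] (g : G) (H : Subgroup G) : Nat.card ↥(cj g H) = Nat.card ↥H := by
  unfold cj
  exact Subgroup.card_map_of_injective (MulAut.conj g).injective

theorem cj_mono {g : G} {H K : Subgroup G} (h : H ≤ K) : cj g H ≤ cj g K := by
  intro x hx
  rw [mem_cj] at hx ⊢
  exact h hx

theorem cj_cj (g h : G) (H : Subgroup G) : cj g (cj h H) = cj (g * h) H := by
  ext x
  simp only [mem_cj]
  have : h⁻¹ * (g⁻¹ * x * g) * h = (g * h)⁻¹ * x * (g * h) := by group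
  rw [this]

theorem cj_one (H : Subgroup G) : cj 1 H = H := by
  ext x
  simp [mem_cj]

/-- In a finite group, `g H g⁻¹ ≤ H` forces `g ∈ N(H)`. -/
theorem mem_normalizer_of_conj_le [Finite G] {g : G} {H : Subgroup G}
    (h : ∀ x ∈ H, g * x * g⁻¹ ∈ H) : g ∈ Subgroup.normalizer (H : Set G) := by
  have hle : cj g H ≤ H := by
    intro x hx
    rw [mem_cj] at hx
    have := h _ hx
    have e : g * (g⁻¹ * x * g) * g⁻¹ = x := by group
    rwa [e] at this
  have heq : cj g H = H :=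
    Subgroup.eq_of_le_of_card_ge hle (le_of_eq (card_cj g H).symm)
  rw [Subgroup.mem_normalizer_iff]
  intro x
  constructor
  · exact h x
  · intro hx
    have : g * x * g⁻¹ ∈ cj g H := by rw [heq]; exact hx
    rw [mem_cj] at this
    have e : g⁻¹ * (g * x * g⁻¹) * g = x := by group
    rwa [e] at this

theorem cj_eq_of_mem_normalizer {g : G} {H : Subgroup G}
    (hg : g ∈ Subgroup.normalizer (H : Set G)) : cj g H = H := by
  ext x
  rw [mem_cj]
  have := (Subgroup.mem_normalizer_iff''.1 hg x)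
  exact this.symm

theorem mem_normalizer_of_cj_eq {g : G} {H : Subgroup G} (h : cj g H = H) :
    g ∈ Subgroup.normalizer (H : Set G) := by
  rw [Subgroup.mem_normalizer_iff'']
  intro x
  rw [← mem_cj, h]

/-- `g N(H) g⁻¹ ≤ N(g H g⁻¹)`. -/
theorem conj_mem_normalizer_cj {g a : G} {H : Subgroup G}
    (ha : a ∈ Subgroup.normalizer (H : Set G)) :
    g * a * g⁻¹ ∈ Subgroup.normalizer (cj g H : Set G) := by
  apply mem_normalizer_of_cj_eq
  rw [cj_cj]
  have : g * a * g⁻¹ * g = g * a := by group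
  rw [this, ← cj_cj, cj_eq_of_mem_normalizer ha]

section pgroup

variable [Finite G] {p : ℕ} [hp : Fact p.Prime]

/-- Cardinalities of subgroups of a `p`-group are powers of `p`. -/
theorem exists_card_eq (hG : IsPGroup p G) (H : Subgroup G) : ∃ n : ℕ, Nat.card ↥H = p ^ n :=
  IsPGroup.iff_card.1 (hG.to_subgroup H)

theorem card_mul_le_of_lt (hG : IsPGroup p G) {H K : Subgroup G} (h : H < K) :
    p * Nat.card ↥H ≤ Nat.card ↥K := by
  obtain ⟨a, ha⟩ := exists_card_eq hG H
  obtain ⟨b, hb⟩ := exists_card_eq hG K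
  have hlt : Nat.card ↥H < Nat.card ↥K := by
    by_contra hge
    rw [not_lt] at hge
    exact (ne_of_lt h) (Subgroup.eq_of_le_of_card_ge h.le hge)
  rw [ha, hb] at hlt ⊢
  have hab : a < b := (Nat.pow_lt_pow_iff_right hp.out.one_lt).1 hlt
  calc p * p ^ a = p ^ (a + 1) := by ring
    _ ≤ p ^ b := Nat.pow_le_pow_right hp.out.pos hab

theorem card_pos' (H : Subgroup G) : 0 < Nat.card ↥H := Nat.card_pos

/-- `H ≤ K` and `|K| ≤ |H|` give `H = K`. -/
theorem eq_of_le_card {H K : Subgroup G} (h : H ≤ K) (hc : Nat.card ↥K ≤ Nat.card ↥H) : H = K :=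
  Subgroup.eq_of_le_of_card_ge h hc

/-- Between `H` and a subgroup of order `p |H|` there is nothing. -/
theorem eq_of_lt_of_card (hG : IsPGroup p G) {H M K : Subgroup G} (hHM : H < M) (hMK : M ≤ K)
    (hK : Nat.card ↥K = p * Nat.card ↥H) : M = K :=
  eq_of_le_card hMK (hK ▸ card_mul_le_of_lt hG hHM)

/-- Normalizers grow. -/
theorem normalizer_growth (hG : IsPGroup p G) {H K : Subgroup G} (h : H < K) :
    H < K ⊓ Subgroup.normalizer (H : Set G) := by
  have hKn : Group.IsNilpotent ↥K := (hG.to_subgroup K).isNilpotent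
  have hnc := @Group.normalizerCondition_of_isNilpotent ↥K _ hKn
  have hlt : H.subgroupOf K < ⊤ := by
    rw [lt_top_iff_ne_top]
    intro htop
    rw [Subgroup.subgroupOf_eq_top] at htop
    exact (not_le_of_gt h) htop
  have h2 := hnc _ hlt
  obtain ⟨x, hxN, hxH⟩ := SetLike.exists_of_lt h2
  refine lt_of_le_of_ne (le_inf h.le Subgroup.le_normalizer) ?_
  intro heq
  apply hxH
  rw [Subgroup.mem_subgroupOf]
  have hxNG : (x : G) ∈ Subgroup.normalizer (H : Set G) := by
    rw [Subgroup.mem_normalizer_iff] at hxN ⊢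
    intro y
    constructor
    · intro hy
      have := (hxN ⟨y, h.le hy⟩).1 (by rw [Subgroup.mem_subgroupOf]; exact hy)
      rw [Subgroup.mem_subgroupOf] at this
      simpa using this
    · intro hy
      have hyK : y ∈ K := by
        have h3 : x.1⁻¹ * (x.1 * y * x.1⁻¹) * x.1 ∈ K :=
          K.mul_mem (K.mul_mem (K.inv_mem x.2) (h.le hy)) x.2
        have e : x.1⁻¹ * (x.1 * y * x.1⁻¹) * x.1 = y := by group
        rwa [e] at h3
      have := (hxN ⟨y, hyK⟩).2 (by rw [Subgroup.mem_subgroupOf]; simpa using hy)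
      rw [Subgroup.mem_subgroupOf] at this
      simpa using this
  have hmem : (x : G) ∈ K ⊓ Subgroup.normalizer (H : Set G) := ⟨x.2, hxNG⟩
  rw [← heq] at hmem
  exact hmem

theorem exists_normalizing (hG : IsPGroup p G) {H K : Subgroup G} (h : H < K) :
    ∃ x ∈ K, x ∈ Subgroup.normalizer (H : Set G) ∧ x ∉ H := by
  obtain ⟨x, hx, hxH⟩ := SetLike.exists_of_lt (normalizer_growth hG h)
  exact ⟨x, hx.1, hx.2, hxH⟩

/-- Index-`p` extension: `H < X` gives `H ≤ H₁ ≤ X` with `|H₁| = p |H|`. -/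
theorem exists_ext (hG : IsPGroup p G) {H X : Subgroup G} (h : H < X) :
    ∃ H₁ : Subgroup G, H ≤ H₁ ∧ H₁ ≤ X ∧ Nat.card ↥H₁ = p * Nat.card ↥H := by
  obtain ⟨n, hn⟩ := exists_card_eq hG H
  obtain ⟨m, hm⟩ := exists_card_eq hG X
  have hle := card_mul_le_of_lt hG h
  have hnm : n + 1 ≤ m := by
    rw [hn, hm] at hle
    have : p ^ (n + 1) ≤ p ^ m := by rw [pow_succ']; exact hle
    exact (Nat.pow_le_pow_iff_right hp.out.one_lt).1 this
  have hdvd : p ^ (n + 1) ∣ Nat.card ↥X := by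
    rw [hm]; exact pow_dvd_pow p hnm
  have hH' : Nat.card ↥(H.subgroupOf X) = p ^ n := by
    rw [← hn]
    exact Nat.card_congr (Subgroup.subgroupOfEquivOfLe h.le).toEquiv
  obtain ⟨K', hK', hHK'⟩ := Sylow.exists_subgroup_card_pow_succ hdvd hH'
  refine ⟨K'.map X.subtype, ?_, Subgroup.map_subtype_le K', ?_⟩
  · intro x hx
    refine ⟨⟨x, h.le hx⟩, hHK' ?_, rfl⟩
    rw [Subgroup.mem_subgroupOf]; exact hx
  · rw [Subgroup.card_map_of_injective X.subtype_injective, hK', hn, pow_succ']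

/-- Index-`p` co-extension: `H < X` gives `H ≤ H₁ ≤ X` with `|X| = p |H₁|`. -/
theorem exists_coext (hG : IsPGroup p G) {X : Subgroup G} :
    ∀ (k : ℕ) (H : Subgroup G), Nat.card ↥X - Nat.card ↥H = k → H < X →
      ∃ H₁ : Subgroup G, H ≤ H₁ ∧ H₁ ≤ X ∧ Nat.card ↥X = p * Nat.card ↥H₁ := by
  intro k
  induction k using Nat.strong_induction_on with
  | _ k ih =>
    intro H hk h
    obtain ⟨H', hHH', hH'X, hc⟩ := exists_ext hG h
    by_cases hX : H' = X
    · exact ⟨H, le_rfl, h.le, by rw [← hc, hX]⟩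
    · have hlt : H' < X := lt_of_le_of_ne hH'X hX
      have hcard : Nat.card ↥H < Nat.card ↥H' := by
        rw [hc]
        have := card_pos' H
        have h2 := hp.out.two_le
        nlinarith
      have hcard2 : Nat.card ↥H' ≤ Nat.card ↥X := Subgroup.card_le_of_le hH'X
      obtain ⟨H₁, h1, h2, h3⟩ := ih (Nat.card ↥X - Nat.card ↥H') (by omega) H' rfl hlt
      exact ⟨H₁, hHH'.trans h1, h2, h3⟩

theorem exists_coext' (hG : IsPGroup p G) {H X : Subgroup G} (h : H < X) :
    ∃ H₁ : Subgroup G, H ≤ H₁ ∧ H₁ ≤ X ∧ Nat.card ↥X = p * Nat.card ↥H₁ :=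
  exists_coext hG _ H rfl h

/-- A subgroup of relative index `p` is normalized. -/
theorem le_normalizer_of_card (hG : IsPGroup p G) {X K : Subgroup G} (hXK : X ≤ K)
    (hc : Nat.card ↥K = p * Nat.card ↥X) : K ≤ Subgroup.normalizer (X : Set G) := by
  have hlt : X < K := by
    refine lt_of_le_of_ne hXK ?_
    intro h
    rw [h] at hc
    have := card_pos' K
    have h2 := hp.out.two_le
    nlinarith
  have h1 := normalizer_growth hG hlt
  have h2 : K ⊓ Subgroup.normalizer (X : Set G) = K := eq_of_lt_of_card hG h1 inf_le_left hc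
  rw [← h2]
  exact inf_le_right

/-- Adjoining an outside element to a subgroup of relative index `p` gives everything. -/
theorem sup_zpowers_eq (hG : IsPGroup p G) {X K : Subgroup G} (hXK : X ≤ K)
    (hc : Nat.card ↥K = p * Nat.card ↥X) {y : G} (hyK : y ∈ K) (hyX : y ∉ X) :
    X ⊔ Subgroup.zpowers y = K := by
  apply eq_of_lt_of_card hG _ _ hc
  · refine lt_of_le_of_ne le_sup_left ?_
    intro h
    apply hyX
    rw [h]
    exact (le_sup_right : Subgroup.zpowers y ≤ _) (Subgroup.mem_zpowers y)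
  · exact sup_le hXK (by rw [Subgroup.zpowers_le]; exact hyK)

/-- Commutators of `K` lie in any subgroup of relative index `p`. -/
theorem comm_mem_of_card (hG : IsPGroup p G) {X K : Subgroup G} (hXK : X ≤ K)
    (hc : Nat.card ↥K = p * Nat.card ↥X) {a b : G} (ha : a ∈ K) (hb : b ∈ K) :
    a * b * a⁻¹ * b⁻¹ ∈ X := by
  have hn : K ≤ Subgroup.normalizer (X : Set G) := le_normalizer_of_card hG hXK hc
  have hnorm : (X.subgroupOf K).Normal := (Subgroup.normal_subgroupOf_iff_le_normalizer hXK).2 hn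
  have hcard : Nat.card ↥(X.subgroupOf K) = Nat.card ↥X :=
    Nat.card_congr (Subgroup.subgroupOfEquivOfLe hXK).toEquiv
  have hidx : (X.subgroupOf K).index = p := by
    have h1 := Subgroup.card_mul_index (X.subgroupOf K)
    rw [hcard, hc] at h1
    have hpos := card_pos' X
    have : Nat.card ↥X * (X.subgroupOf K).index = Nat.card ↥X * p := by rw [h1]; ring
    exact Nat.eq_of_mul_eq_mul_left hpos this
  have hq : Nat.card (↥K ⧸ X.subgroupOf K) = p := by
    rw [← Subgroup.index_eq_card]; exact hidx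
  have hcyc : IsCyclic (↥K ⧸ X.subgroupOf K) := isCyclic_of_prime_card hq
  let a' : ↥K := ⟨a, ha⟩
  let b' : ↥K := ⟨b, hb⟩
  have hcomm : (QuotientGroup.mk a' : ↥K ⧸ X.subgroupOf K) * QuotientGroup.mk b' =
      QuotientGroup.mk b' * QuotientGroup.mk a' := by
    obtain ⟨g, hg⟩ := hcyc.exists_generator
    obtain ⟨m, hm⟩ := Subgroup.mem_zpowers_iff.1 (hg (QuotientGroup.mk a'))
    obtain ⟨n, hn⟩ := Subgroup.mem_zpowers_iff.1 (hg (QuotientGroup.mk b'))
    rw [← hm, ← hn, ← zpow_add, ← zpow_add, add_comm]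
  have h1 : (QuotientGroup.mk (a' * b' * a'⁻¹ * b'⁻¹) : ↥K ⧸ X.subgroupOf K) = 1 := by
    rw [QuotientGroup.mk_mul, QuotientGroup.mk_mul, QuotientGroup.mk_mul, hcomm,
      QuotientGroup.mk_inv, QuotientGroup.mk_inv]
    group
  rw [QuotientGroup.eq_one_iff, Subgroup.mem_subgroupOf] at h1
  exact h1

/-- Two distinct subgroups of relative index `p` meet in relative index `p` of each. -/
theorem card_inf_of_ne (hG : IsPGroup p G) {X₁ X₂ K : Subgroup G} (h1 : X₁ ≤ K) (h2 : X₂ ≤ K)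
    (hc1 : Nat.card ↥K = p * Nat.card ↥X₁) (hc2 : Nat.card ↥K = p * Nat.card ↥X₂)
    (hne : X₁ ≠ X₂) : Nat.card ↥X₂ = p * Nat.card ↥(X₁ ⊓ X₂) := by
  have hlt : X₁ ⊓ X₂ < X₂ := by
    refine lt_of_le_of_ne inf_le_right ?_
    intro h
    have hle : X₂ ≤ X₁ := by rw [← h]; exact inf_le_left
    have hcard : Nat.card ↥X₁ = Nat.card ↥X₂ := by
      have := hc1.symm.trans hc2
      exact Nat.eq_of_mul_eq_mul_left hp.out.pos this
    exact hne (eq_of_le_card hle (le_of_eq hcard)).symm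
  have hge := card_mul_le_of_lt hG hlt
  have hprod := Cfsg.Agent.Lib.Helper63.card_prodSet_mul_card_inf X₁ X₂
  have hsub : ((X₁ : Set G) * (X₂ : Set G) : Set G) ⊆ (K : Set G) := by
    rintro x ⟨a, ha, b, hb, rfl⟩
    exact K.mul_mem (h1 ha) (h2 hb)
  have hle : Nat.card ((X₁ : Set G) * (X₂ : Set G) : Set G) ≤ Nat.card ↥K := by
    have := Set.ncard_le_ncard hsub (Set.toFinite _)
    rw [Set.ncard_def, Set.ncard_def] at this
    exact this
  have hX1 := card_pos' X₁
  have hX2 := card_pos' X₂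
  -- |X₁||X₂| = |X₁X₂| |I| ≤ |K| |I| = p |X₁| |I|
  have h3 : Nat.card ↥X₁ * Nat.card ↥X₂ ≤ p * Nat.card ↥X₁ * Nat.card ↥(X₁ ⊓ X₂) := by
    rw [← hprod, ← hc1]
    exact Nat.mul_le_mul_right _ hle
  have h4 : Nat.card ↥X₂ ≤ p * Nat.card ↥(X₁ ⊓ X₂) := by
    have : Nat.card ↥X₁ * Nat.card ↥X₂ ≤ Nat.card ↥X₁ * (p * Nat.card ↥(X₁ ⊓ X₂)) := by
      calc Nat.card ↥X₁ * Nat.card ↥X₂ ≤ p * Nat.card ↥X₁ * Nat.card ↥(X₁ ⊓ X₂) := h3
        _ = Nat.card ↥X₁ * (p * Nat.card ↥(X₁ ⊓ X₂)) := by ring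
    exact Nat.le_of_mul_le_mul_left this hX1
  exact le_antisymm h4 hge

end pgroup

/-- The centre of `K`, as a subgroup of `G`. -/
def Zc (K : Subgroup G) : Subgroup G := K ⊓ Subgroup.centralizer (K : Set G)

theorem mem_Zc {K : Subgroup G} {x : G} : x ∈ Zc K ↔ x ∈ K ∧ ∀ k ∈ K, k * x = x * k := by
  unfold Zc
  rw [Subgroup.mem_inf, Subgroup.mem_centralizer_iff]
  rfl

theorem Zc_le (K : Subgroup G) : Zc K ≤ K := inf_le_left

/-- The image in `G` of the `j`-th term of the upper central series of `K`. -/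
def uz (K : Subgroup G) (j : ℕ) : Subgroup G :=
  (Subgroup.upperCentralSeries ↥K j).map K.subtype

theorem uz_le (K : Subgroup G) (j : ℕ) : uz K j ≤ K := Subgroup.map_subtype_le _

theorem uz_zero (K : Subgroup G) : uz K 0 = ⊥ := by
  unfold uz
  rw [Subgroup.upperCentralSeries_zero, Subgroup.map_bot]

theorem mem_uz_succ {K : Subgroup G} {j : ℕ} {x : G} :
    x ∈ uz K (j + 1) ↔ x ∈ K ∧ ∀ k ∈ K, x * k * x⁻¹ * k⁻¹ ∈ uz K j := by
  unfold uz
  constructor
  · rintro ⟨y, hy, rfl⟩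
    refine ⟨y.2, ?_⟩
    intro k hk
    have := (Subgroup.mem_upperCentralSeries_succ_iff.1 hy) ⟨k, hk⟩
    exact ⟨_, this, by simp [commutatorElement_def]⟩
  · rintro ⟨hx, h⟩
    refine ⟨⟨x, hx⟩, ?_, rfl⟩
    show (⟨x, hx⟩ : ↥K) ∈ Subgroup.upperCentralSeries ↥K (j + 1)
    rw [Subgroup.mem_upperCentralSeries_succ_iff]
    intro k
    obtain ⟨z, hz, hzeq⟩ := h k.1 k.2
    have : z = ⁅(⟨x, hx⟩ : ↥K), k⁆ := by
      apply Subtype.ext
      rw [commutatorElement_def]
      simpa using hzeq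
    rw [← this]; exact hz

theorem uz_one (K : Subgroup G) : uz K 1 = Zc K := by
  ext x
  rw [mem_uz_succ, mem_Zc, uz_zero]
  constructor
  · rintro ⟨hx, h⟩
    refine ⟨hx, fun k hk => ?_⟩
    have := h k hk
    rw [Subgroup.mem_bot] at this
    have e : x * k = k * x := by
      have h2 : x * k * x⁻¹ * k⁻¹ * (k * x) = k * x := by rw [this, one_mul]
      rw [← h2]; group
    exact e.symm
  · rintro ⟨hx, h⟩
    refine ⟨hx, fun k hk => ?_⟩
    rw [Subgroup.mem_bot, ← h k hk]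
    group

theorem uz_mono (K : Subgroup G) {i j : ℕ} (h : i ≤ j) : uz K i ≤ uz K j :=
  Subgroup.map_mono (Subgroup.upperCentralSeries_mono ↥K h)

/-- `uz K j` is invariant under everything normalizing `K`. -/
theorem conj_mem_uz {K : Subgroup G} {g : G} (hg : g ∈ Subgroup.normalizer (K : Set G)) :
    ∀ (j : ℕ) {x : G}, x ∈ uz K j → g * x * g⁻¹ ∈ uz K j := by
  intro j
  induction j with
  | zero =>
    intro x hx
    rw [uz_zero, Subgroup.mem_bot] at hx ⊢
    rw [hx]; group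
  | succ j ih =>
    intro x hx
    rw [mem_uz_succ] at hx ⊢
    refine ⟨(Subgroup.mem_normalizer_iff.1 hg x).1 hx.1, ?_⟩
    intro k hk
    have hk' : g⁻¹ * k * g ∈ K := (Subgroup.mem_normalizer_iff''.1 hg k).1 hk
    have := ih (hx.2 _ hk')
    have e : g * (x * (g⁻¹ * k * g) * x⁻¹ * (g⁻¹ * k * g)⁻¹) * g⁻¹ =
        g * x * g⁻¹ * k * (g * x * g⁻¹)⁻¹ * k⁻¹ := by group
    rwa [e] at this

theorem cj_uz {K : Subgroup G} {g : G} (hg : g ∈ Subgroup.normalizer (K : Set G)) (j : ℕ) :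
    cj g (uz K j) = uz K j := by
  have hg' : g⁻¹ ∈ Subgroup.normalizer (K : Set G) := Subgroup.inv_mem _ hg
  ext x
  rw [mem_cj]
  constructor
  · intro h
    have := conj_mem_uz hg j h
    have e : g * (g⁻¹ * x * g) * g⁻¹ = x := by group
    rwa [e] at this
  · intro h
    have := conj_mem_uz hg' j h
    simpa using this

theorem conj_mem_Zc {K : Subgroup G} {g : G} (hg : g ∈ Subgroup.normalizer (K : Set G))
    {x : G} (hx : x ∈ Zc K) : g * x * g⁻¹ ∈ Zc K := by
  rw [← uz_one] at hx ⊢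
  exact conj_mem_uz hg 1 hx

end Cfsg.Agent.Lib.Helper63.Soft
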