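import Mathlib
import Cfsg.Agent.Lib.Helper63.SoftBasic

/-!
# Soft subgroups (Héthelyi): definition relative to an ambient subgroup and first consequences
-/

set_option autoImplicit false

namespace Cfsg.Agent.Lib.Helper63.Soft

open scoped Pointwise commutatorElement

variable {G : Type*} [Group G]

/-- The relative normalizer `N_L(E)`. -/
def nz (L E : Subgroup G) : Subgroup G := L ⊓ Subgroup.normalizer (E : Set G)

theorem nz_le_left (L E : Subgroup G) : nz L E ≤ L := inf_le_left

theorem le_nz {L E : Subgroup G} (h : E ≤ L) : E ≤ nz L E := le_inf h Subgroup.le_normalizer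

theorem mem_nz {L E : Subgroup G} {x : G} :
    x ∈ nz L E ↔ x ∈ L ∧ x ∈ Subgroup.normalizer (E : Set G) := Subgroup.mem_inf

/-- `E` is soft in `L`: abelian, self-centralizing in `L`, of index `p` in `N_L(E)`. -/
structure SoftIn (p : ℕ) (L E : Subgroup G) : Prop where
  le : E ≤ L
  comm : ∀ a ∈ E, ∀ b ∈ E, a * b = b * a
  cent : ∀ x ∈ L, (∀ e ∈ E, x * e = e * x) → x ∈ E
  norm : Nat.card ↥(nz L E) = p * Nat.card ↥E

variable [Finite G] {p : ℕ} [hp : Fact p.Prime]

namespace SoftIn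

variable {L E : Subgroup G}

/-- Every overgroup of `E` other than `E` contains `N_L(E)`. -/
theorem nz_le (h : SoftIn p L E) (hG : IsPGroup p G) {K : Subgroup G} (hEK : E ≤ K)
    (hKL : K ≤ L) (hne : K ≠ E) : nz L E ≤ K := by
  have hlt : E < K := lt_of_le_of_ne hEK (Ne.symm hne)
  have h1 := normalizer_growth hG hlt
  have h2 : K ⊓ Subgroup.normalizer (E : Set G) ≤ nz L E := inf_le_inf_right _ hKL
  have h3 : K ⊓ Subgroup.normalizer (E : Set G) = nz L E := eq_of_lt_of_card hG h1 h2 h.norm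
  rw [← h3]
  exact inf_le_left

theorem mono (h : SoftIn p L E) (hG : IsPGroup p G) {L₂ : Subgroup G} (hE : E ≤ L₂)
    (hL : L₂ ≤ L) (hne : L₂ ≠ E) : SoftIn p L₂ E where
  le := hE
  comm := h.comm
  cent := fun x hx hc => h.cent x (hL hx) hc
  norm := by
    have h1 : nz L₂ E = nz L E := by
      apply le_antisymm (inf_le_inf_right _ hL)
      exact le_inf (h.nz_le hG hE hL hne) inf_le_right
    rw [h1, h.norm]

omit hp in
theorem conj (h : SoftIn p L E) {u : G} (hu : u ∈ L) : SoftIn p L (cj u E) where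
  le := by
    intro x hx
    rw [mem_cj] at hx
    have h1 : u * (u⁻¹ * x * u) * u⁻¹ ∈ L := L.mul_mem (L.mul_mem hu (h.le hx)) (L.inv_mem hu)
    have e : u * (u⁻¹ * x * u) * u⁻¹ = x := by group
    rwa [e] at h1
  comm := by
    intro a ha b hb
    rw [mem_cj] at ha hb
    have := h.comm _ ha _ hb
    have e1 : a * b = u * ((u⁻¹ * a * u) * (u⁻¹ * b * u)) * u⁻¹ := by group
    have e2 : b * a = u * ((u⁻¹ * b * u) * (u⁻¹ * a * u)) * u⁻¹ := by group
    rw [e1, e2, this]
  cent := by
    intro x hx hc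
    rw [mem_cj]
    apply h.cent _ (L.mul_mem (L.mul_mem (L.inv_mem hu) hx) hu)
    intro e he
    have := hc _ (conj_mem_cj (g := u) he)
    have e1 : u⁻¹ * x * u * e = u⁻¹ * (x * (u * e * u⁻¹)) * u := by group
    have e2 : e * (u⁻¹ * x * u) = u⁻¹ * ((u * e * u⁻¹) * x) * u := by group
    rw [e1, e2, this]
  norm := by
    have h1 : nz L (cj u E) = cj u (nz L E) := by
      ext x
      rw [mem_cj, mem_nz, mem_nz]
      constructor
      · rintro ⟨hxL, hxN⟩
        refine ⟨L.mul_mem (L.mul_mem (L.inv_mem hu) hxL) hu, ?_⟩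
        have := conj_mem_normalizer_cj (g := u⁻¹) hxN
        rw [cj_cj, inv_mul_cancel, cj_one] at this
        simpa using this
      · rintro ⟨hxL, hxN⟩
        constructor
        · have h1 : u * (u⁻¹ * x * u) * u⁻¹ ∈ L := L.mul_mem (L.mul_mem hu hxL) (L.inv_mem hu)
          have e : u * (u⁻¹ * x * u) * u⁻¹ = x := by group
          rwa [e] at h1
        · have := conj_mem_normalizer_cj (g := u) hxN
          have e : u * (u⁻¹ * x * u) * u⁻¹ = x := by group
          rwa [e] at this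
    rw [h1, card_cj, card_cj, h.norm]

/-- `E` is a proper subgroup of `N_L(E)`. -/
theorem lt_nz (h : SoftIn p L E) : E < nz L E := by
  refine lt_of_le_of_ne (le_nz h.le) ?_
  intro heq
  have := h.norm
  rw [← heq] at this
  have hpos := card_pos' E
  have h2 := hp.out.two_le
  nlinarith

/-- Structure of `N₁ = N_L(E)` when `N₁ ≠ L`: its centre lies in `E` with index `p`,
and contains all commutators of `N₁`. -/
theorem zc_nz (h : SoftIn p L E) (hG : IsPGroup p G) (hne : nz L E ≠ L) :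
    Zc (nz L E) ≤ E ∧ Nat.card ↥E = p * Nat.card ↥(Zc (nz L E)) ∧
      ∀ a ∈ nz L E, ∀ b ∈ nz L E, a * b * a⁻¹ * b⁻¹ ∈ Zc (nz L E) := by
  have hlt : nz L E < L := lt_of_le_of_ne (nz_le_left L E) hne
  obtain ⟨g, hgL, hgN, hgn⟩ := exists_normalizing hG hlt
  set N₁ := nz L E with hN₁
  set F := cj g E with hF
  have hFs : SoftIn p L F := h.conj hgL
  have hEN : E ≤ N₁ := le_nz h.le
  have hFN : F ≤ N₁ := by
    intro x hx
    rw [hF, mem_cj] at hx
    have h1 := (Subgroup.mem_normalizer_iff.1 hgN _).1 (hEN hx)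
    have e : g * (g⁻¹ * x * g) * g⁻¹ = x := by group
    rwa [e] at h1
  have hFE : E ≠ F := by
    intro heq
    apply hgn
    rw [hN₁, mem_nz]
    exact ⟨hgL, mem_normalizer_of_cj_eq heq.symm⟩
  have hcF : Nat.card ↥F = Nat.card ↥E := card_cj g E
  have hc1 : Nat.card ↥N₁ = p * Nat.card ↥E := h.norm
  have hc2 : Nat.card ↥N₁ = p * Nat.card ↥F := by rw [hcF]; exact hc1
  have hI : Nat.card ↥F = p * Nat.card ↥(E ⊓ F) := card_inf_of_ne hG hEN hFN hc1 hc2 hFE
  -- E ⊔ F = N₁
  have hsup : E ⊔ F = N₁ := by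
    apply eq_of_lt_of_card hG _ (sup_le hEN hFN) hc1
    refine lt_of_le_of_ne le_sup_left ?_
    intro heq
    have hle : F ≤ E := by rw [heq]; exact le_sup_right
    exact hFE (eq_of_le_card hle (le_of_eq hcF.symm)).symm
  -- E ⊓ F ≤ Z(N₁)
  have hIZ : E ⊓ F ≤ Zc N₁ := by
    intro x hx
    rw [mem_Zc]
    refine ⟨hEN hx.1, ?_⟩
    have hcen : E ⊔ F ≤ Subgroup.centralizer ({x} : Set G) := by
      apply sup_le
      · intro e he
        rw [Subgroup.mem_centralizer_singleton_iff]
        exact h.comm _ he _ hx.1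
      · intro f hf
        rw [Subgroup.mem_centralizer_singleton_iff]
        exact hFs.comm _ hf _ hx.2
    intro k hk
    rw [← hsup] at hk
    have := hcen hk
    rw [Subgroup.mem_centralizer_singleton_iff] at this
    exact this
  have hZE : Zc N₁ ≤ E := by
    intro x hx
    rw [mem_Zc] at hx
    exact h.cent x (nz_le_left L E hx.1) (fun e he => (hx.2 e (hEN he)).symm)
  have hZF : Zc N₁ ≤ F := by
    intro x hx
    rw [mem_Zc] at hx
    exact hFs.cent x (nz_le_left L E hx.1) (fun e he => (hx.2 e (hFN he)).symm)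
  have hZI : Zc N₁ = E ⊓ F := le_antisymm (le_inf hZE hZF) hIZ
  refine ⟨hZE, ?_, ?_⟩
  · rw [hZI, ← hI, hcF]
  · intro a ha b hb
    rw [hZI]
    exact ⟨comm_mem_of_card hG hEN hc1 ha hb, comm_mem_of_card hG hFN hc2 ha hb⟩

end SoftIn

end Cfsg.Agent.Lib.Helper63.Soft
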