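import Mathlib
import Cfsg.Agent.Lib.Helper63.SoftStruct

/-!
# Soft subgroups: the normalizer tower (index `p` steps) and the chain property
-/

set_option autoImplicit false

namespace Cfsg.Agent.Lib.Helper63.Soft

open scoped Pointwise commutatorElement

variable {G : Type*} [Group G]

/-- Every proper overgroup of `E` in `L` has index `p` in its normalizer in `L`. -/
def PropA (p : ℕ) (L E : Subgroup G) : Prop :=
  ∀ K : Subgroup G, E ≤ K → K ≤ L → K ≠ L → Nat.card ↥(nz L K) = p * Nat.card ↥K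

/-- The `i`-th proper overgroup `K` of `E` in `L` has `|K : Z_i(K)| = p²`, and `Z_i(K)` lies in
every maximal subgroup of `K` containing `E`. -/
def PropC (p : ℕ) (L E : Subgroup G) : Prop :=
  ∀ (i : ℕ) (K : Subgroup G), 1 ≤ i → E ≤ K → K ≤ L → K ≠ L →
    Nat.card ↥K = p ^ i * Nat.card ↥E →
    Nat.card ↥K = p ^ 2 * Nat.card ↥(uz K i) ∧
      ∀ K₁ : Subgroup G, E ≤ K₁ → K₁ ≤ K → Nat.card ↥K = p * Nat.card ↥K₁ → uz K i ≤ K₁

variable [Finite G] {p : ℕ} [hp : Fact p.Prime]

/-- Counting: at most `p + 1` subgroups of index `p` in `K` contain a subgroup `Y` of index `p²`. -/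
theorem card_le_of_between (hG : IsPGroup p G) {Y K : Subgroup G}
    (hKY : Nat.card ↥K = p ^ 2 * Nat.card ↥Y) (S : Finset (Subgroup G))
    (hS : ∀ X ∈ S, Y ≤ X ∧ X ≤ K ∧ Nat.card ↥K = p * Nat.card ↥X) : S.card ≤ p + 1 := by
  classical
  have : Fintype G := Fintype.ofFinite G
  have hp2 := hp.out.two_le
  have hppos := hp.out.pos
  let t : Subgroup G → Finset G := fun X => Finset.univ.filter (fun g => g ∈ X ∧ g ∉ Y)
  have hcardsub : ∀ X : Subgroup G, Nat.card ↥X = (Finset.univ.filter (fun g => g ∈ X)).card := by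
    intro X
    rw [Nat.card_eq_fintype_card, Fintype.card_subtype]
  have ht : ∀ X : Subgroup G, Y ≤ X → (t X).card + Nat.card ↥Y = Nat.card ↥X := by
    intro X hYX
    rw [hcardsub X, hcardsub Y]
    have h1 := Finset.card_filter_add_card_filter_not (s := Finset.univ.filter (fun g => g ∈ X))
      (fun g => g ∈ Y)
    rw [← h1, add_comm]
    congr 1
    · congr 1
      ext g
      simp only [Finset.mem_filter, Finset.mem_univ, true_and]
      constructor
      · intro hg; exact ⟨hYX hg, hg⟩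
      · intro hg; exact hg.2
    · congr 1
      ext g
      simp only [t, Finset.mem_filter, Finset.mem_univ, true_and]
  have hXY : ∀ X ∈ S, Nat.card ↥X = p * Nat.card ↥Y := by
    intro X hX
    have h1 := (hS X hX).2.2
    rw [hKY] at h1
    have : p * (p * Nat.card ↥Y) = p * Nat.card ↥X := by rw [← h1]; ring
    exact (Nat.eq_of_mul_eq_mul_left hppos this).symm
  have hdisj : (S : Set (Subgroup G)).PairwiseDisjoint t := by
    intro X hX X' hX' hne
    rw [Function.onFun, Finset.disjoint_left]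
    intro g hg hg'
    simp only [t, Finset.mem_filter, Finset.mem_univ, true_and] at hg hg'
    have hlt : Y < X ⊓ X' := by
      refine lt_of_le_of_ne (le_inf (hS X hX).1 (hS X' hX').1) ?_
      intro heq
      apply hg.2
      rw [heq]
      exact ⟨hg.1, hg'.1⟩
    have h1 : X ⊓ X' = X := eq_of_lt_of_card hG hlt inf_le_left (hXY X hX)
    have h2 : X ⊓ X' = X' := eq_of_lt_of_card hG hlt inf_le_right (hXY X' hX')
    exact hne (h1.symm.trans h2)
  have hsum : (S.biUnion t).card = ∑ X ∈ S, (t X).card := Finset.card_biUnion hdisj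
  have hsub : S.biUnion t ⊆ t K := by
    intro g hg
    rw [Finset.mem_biUnion] at hg
    obtain ⟨X, hX, hgX⟩ := hg
    simp only [t, Finset.mem_filter, Finset.mem_univ, true_and] at hgX ⊢
    exact ⟨(hS X hX).2.1 hgX.1, hgX.2⟩
  have hle : ∑ X ∈ S, (t X).card ≤ (t K).card := by
    rw [← hsum]; exact Finset.card_le_card hsub
  rcases S.eq_empty_or_nonempty with hS0 | ⟨X₀, hX₀⟩
  · rw [hS0]; simp
  have hYK : Y ≤ K := (hS X₀ hX₀).1.trans (hS X₀ hX₀).2.1
  have hK := ht K hYK
  have hsumeq : ∑ X ∈ S, (t X).card + S.card * Nat.card ↥Y = S.card * (p * Nat.card ↥Y) := by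
    have h1 : ∑ X ∈ S, ((t X).card + Nat.card ↥Y) = ∑ X ∈ S, p * Nat.card ↥Y := by
      apply Finset.sum_congr rfl
      intro X hX
      rw [ht X (hS X hX).1, hXY X hX]
    rw [Finset.sum_add_distrib, Finset.sum_const, Finset.sum_const, smul_eq_mul, smul_eq_mul] at h1
    exact h1
  have hy := card_pos' Y
  -- s p y + y ≤ s y + p² y
  have hmain : S.card * (p * Nat.card ↥Y) + Nat.card ↥Y ≤
      S.card * Nat.card ↥Y + p ^ 2 * Nat.card ↥Y := by
    rw [← hsumeq, ← hKY, ← hK]
    omega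
  have hmain2 : S.card * p + 1 ≤ S.card + p ^ 2 := by
    have : (S.card * p + 1) * Nat.card ↥Y ≤ (S.card + p ^ 2) * Nat.card ↥Y := by
      calc (S.card * p + 1) * Nat.card ↥Y
          = S.card * (p * Nat.card ↥Y) + Nat.card ↥Y := by ring
        _ ≤ S.card * Nat.card ↥Y + p ^ 2 * Nat.card ↥Y := hmain
        _ = (S.card + p ^ 2) * Nat.card ↥Y := by ring
    exact Nat.le_of_mul_le_mul_right this hy
  by_contra hcon
  rw [not_le] at hcon
  have h3 : p + 2 ≤ S.card := hcon
  nlinarith [Nat.mul_le_mul_right (p - 1) h3, Nat.sub_add_cancel hppos]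

omit hp in
/-- Orbit counting: if `N_L(K₁) ≤ K` then `K₁` has at least `|L| / |K|` conjugates under `L`. -/
theorem exists_conj_family (K₁ K L : Subgroup G) (hN : nz L K₁ ≤ K) :
    ∃ S : Finset (Subgroup G), (∀ X ∈ S, ∃ g ∈ L, X = cj g K₁) ∧
      Nat.card ↥L ≤ Nat.card ↥K * S.card := by
  classical
  have : Fintype G := Fintype.ofFinite G
  have hcardsub : ∀ X : Subgroup G, Nat.card ↥X = (Finset.univ.filter (fun g => g ∈ X)).card := by
    intro X
    rw [Nat.card_eq_fintype_card, Fintype.card_subtype]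
  let s : Finset G := Finset.univ.filter (fun g => g ∈ L)
  let f : G → Subgroup G := fun g => cj g K₁
  refine ⟨s.image f, ?_, ?_⟩
  · intro X hX
    rw [Finset.mem_image] at hX
    obtain ⟨g, hg, rfl⟩ := hX
    simp only [s, Finset.mem_filter, Finset.mem_univ, true_and] at hg
    exact ⟨g, hg, rfl⟩
  · rw [hcardsub L, hcardsub K]
    apply Finset.card_le_mul_card_image
    intro X hX
    rw [Finset.mem_image] at hX
    obtain ⟨g₀, hg₀, rfl⟩ := hX
    simp only [Finset.mem_filter, Finset.mem_univ, true_and] at hg₀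
    apply Finset.card_le_card_of_injOn (fun g => g₀⁻¹ * g)
    · intro g hg
      simp only [f, Finset.coe_filter, Finset.mem_filter, Finset.mem_univ, true_and,
        Set.mem_ofPred_eq] at hg ⊢
      apply hN
      rw [mem_nz]
      refine ⟨L.mul_mem (L.inv_mem hg₀) hg.1, ?_⟩
      apply mem_normalizer_of_cj_eq
      rw [← cj_cj, hg.2, cj_cj, inv_mul_cancel, cj_one]
    · intro a _ b _ hab
      exact mul_left_cancel hab

theorem ar1 {p n : ℕ} (hp : 2 ≤ p) (hn : 0 < n) : n < p * n := by nlinarith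

/-- The impossible configuration: `K ⊴ L` of index `p²` with a maximal subgroup `K₁` of `K`
such that `N_L(K₁) = K` and `Y ≤ K₁` for an `L`-invariant `Y` of index `p²` in `K`. -/
theorem propA_bad (hG : IsPGroup p G) {L K K₁ Y : Subgroup G}
    (hLn : L ≤ Subgroup.normalizer (K : Set G))
    (hLcard : Nat.card ↥L = p * (p * Nat.card ↥K))
    (hK₁K : K₁ ≤ K) (hK₁c : Nat.card ↥K = p * Nat.card ↥K₁)
    (hnz : nz L K₁ ≤ K) (hY : Nat.card ↥K = p ^ 2 * Nat.card ↥Y) (hYK₁ : Y ≤ K₁)
    (hYn : ∀ g ∈ L, cj g Y = Y) : False := by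
  have hp2 := hp.out.two_le
  have hKpos := card_pos' K
  obtain ⟨S, hS, hScard⟩ := exists_conj_family K₁ K L hnz
  have hSle : S.card ≤ p + 1 := by
    apply card_le_of_between hG hY S
    intro X hX
    obtain ⟨g, hg, rfl⟩ := hS X hX
    have hgn : g ∈ Subgroup.normalizer (K : Set G) := hLn hg
    refine ⟨?_, ?_, ?_⟩
    · rw [← hYn g hg]
      exact cj_mono hYK₁
    · rw [← cj_eq_of_mem_normalizer hgn]
      exact cj_mono hK₁K
    · rw [card_cj]; exact hK₁c
  have h1 : Nat.card ↥K * S.card ≤ Nat.card ↥K * (p + 1) := Nat.mul_le_mul_left _ hSle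
  have h2 : p + 2 ≤ p * p := by nlinarith
  have h3 : Nat.card ↥K * (p + 2) ≤ Nat.card ↥K * (p * p) := Nat.mul_le_mul_left _ h2
  have h4 : p * (p * Nat.card ↥K) = Nat.card ↥K * (p * p) := by ring
  have h5 : Nat.card ↥K * (p + 2) = Nat.card ↥K * (p + 1) + Nat.card ↥K := by ring
  omega

/-- One step of the induction for `PropA`. -/
theorem propA_step (hG : IsPGroup p G) {L E : Subgroup G} (h : SoftIn p L E)
    (ihA : ∀ L₂ : Subgroup G, Nat.card ↥L₂ < Nat.card ↥L → SoftIn p L₂ E →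
      p ^ 2 * Nat.card ↥E ≤ Nat.card ↥L₂ → PropA p L₂ E)
    (ihC : ∀ L₂ : Subgroup G, Nat.card ↥L₂ < Nat.card ↥L → SoftIn p L₂ E →
      p ^ 2 * Nat.card ↥E ≤ Nat.card ↥L₂ → PropC p L₂ E) :
    PropA p L E := by
  have hp2 := hp.out.two_le
  have hppos := hp.out.pos
  have key : ∀ (m : ℕ) (K : Subgroup G), Nat.card ↥K = m → E ≤ K → K ≤ L → K ≠ L →
      Nat.card ↥(nz L K) = p * Nat.card ↥K := by
    intro m
    induction m using Nat.strong_induction_on with
    | _ m ihm =>
    intro K hKm hEK hKL hKne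
    by_contra hcon
    have hKpos := card_pos' K
    have hKlt : K < L := lt_of_le_of_ne hKL hKne
    have hgrow : K < nz L K := normalizer_growth hG hKlt
    obtain ⟨H₁, hKH₁, hH₁N, hH₁c⟩ := exists_ext hG hgrow
    have hH₁ne : H₁ ≠ nz L K := by
      intro heq
      apply hcon
      rw [← heq]; exact hH₁c
    obtain ⟨L₂, hH₁L₂, hL₂N, hL₂c⟩ := exists_ext hG (lt_of_le_of_ne hH₁N hH₁ne)
    have hKE : K ≠ E := by
      intro heq
      apply hcon
      rw [heq]; exact h.norm
    have hElt : E < K := lt_of_le_of_ne hEK (Ne.symm hKE)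
    have hEK_card : p * Nat.card ↥E ≤ Nat.card ↥K := card_mul_le_of_lt hG hElt
    have hEK_card' : Nat.card ↥E ≤ Nat.card ↥K := Subgroup.card_le_of_le hEK
    have hEpos := card_pos' E
    have hL₂L : L₂ ≤ L := hL₂N.trans (nz_le_left L K)
    have hKL₂ : K ≤ L₂ := hKH₁.trans hH₁L₂
    have hL₂card : Nat.card ↥L₂ = p * (p * Nat.card ↥K) := by rw [hL₂c, hH₁c]
    have hL₂nK : L₂ ≤ Subgroup.normalizer (K : Set G) := hL₂N.trans inf_le_right
    have hpK := ar1 hp2 hKpos
    have hppK := ar1 hp2 (Nat.mul_pos hppos hKpos)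
    by_cases hL₂ : L₂ = L
    · -- `K` is normal of index `p²` in `L`
      have hLn : L ≤ Subgroup.normalizer (K : Set G) := hL₂ ▸ hL₂nK
      have hLcard : Nat.card ↥L = p * (p * Nat.card ↥K) := hL₂ ▸ hL₂card
      obtain ⟨K₁, hEK₁, hK₁K, hK₁c⟩ := exists_coext' hG hElt
      have hK₁pos := card_pos' K₁
      have hK₁lt : Nat.card ↥K₁ < m := by rw [← hKm, hK₁c]; exact ar1 hp2 hK₁pos
      have hK₁ne : K₁ ≠ L := by
        intro heq
        rw [heq] at hK₁c
        have := Subgroup.card_le_of_le hKL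
        have := ar1 hp2 (card_pos' L)
        omega
      have hnzK₁ := ihm _ hK₁lt K₁ rfl hEK₁ (hK₁K.trans hKL) hK₁ne
      have hKnz : K ≤ nz L K₁ := le_inf hKL (le_normalizer_of_card hG hK₁K hK₁c)
      have hnzeq : K = nz L K₁ := eq_of_le_card hKnz (by rw [hnzK₁, hK₁c])
      obtain ⟨M₀, hKM₀, hM₀L, hM₀c⟩ := exists_ext hG hKlt
      have hM₀lt : Nat.card ↥M₀ < Nat.card ↥L := by rw [hM₀c, hLcard]; exact hppK
      have hM₀ne : M₀ ≠ E := by
        intro heq
        rw [heq] at hM₀c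
        omega
      have hM₀s : SoftIn p M₀ E := h.mono hG (hEK.trans hKM₀) hM₀L hM₀ne
      have hM₀size : p ^ 2 * Nat.card ↥E ≤ Nat.card ↥M₀ := by
        rw [hM₀c]
        calc p ^ 2 * Nat.card ↥E = p * (p * Nat.card ↥E) := by ring
          _ ≤ p * Nat.card ↥K := Nat.mul_le_mul_left _ hEK_card
      obtain ⟨a, ha⟩ := exists_card_eq hG K
      obtain ⟨b, hb⟩ := exists_card_eq hG E
      have hba : b < a := by
        have : p ^ b < p ^ a := by
          rw [← ha, ← hb]
          have := ar1 hp2 hEpos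
          omega
        exact (Nat.pow_lt_pow_iff_right hp.out.one_lt).1 this
      have hcardi : Nat.card ↥K = p ^ (a - b) * Nat.card ↥E := by
        rw [ha, hb, ← pow_add]; congr 1; omega
      have hKM₀ne : K ≠ M₀ := by
        intro heq
        rw [← heq] at hM₀c
        omega
      obtain ⟨hY, hYle⟩ := ihC M₀ hM₀lt hM₀s hM₀size (a - b) K (by omega) hEK hKM₀ hKM₀ne hcardi
      have hYK₁ := hYle K₁ hEK₁ hK₁K hK₁c
      exact propA_bad hG hLn hLcard hK₁K hK₁c (le_of_eq hnzeq.symm) hY hYK₁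
        (fun g hg => cj_uz (hLn hg) (a - b))
    · -- `L₂ < L`: contradiction with `PropA` for `L₂`
      have hL₂lt : Nat.card ↥L₂ < Nat.card ↥L := by
        have := card_mul_le_of_lt hG (lt_of_le_of_ne hL₂L hL₂)
        have := ar1 hp2 (card_pos' L₂)
        omega
      have hL₂ne : L₂ ≠ E := by
        intro heq
        rw [heq] at hL₂card
        omega
      have hL₂s : SoftIn p L₂ E := h.mono hG (hEK.trans hKL₂) hL₂L hL₂ne
      have hL₂size : p ^ 2 * Nat.card ↥E ≤ Nat.card ↥L₂ := by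
        rw [hL₂card]
        calc p ^ 2 * Nat.card ↥E = p * (p * Nat.card ↥E) := by ring
          _ ≤ p * (p * Nat.card ↥K) :=
            Nat.mul_le_mul_left _ (Nat.mul_le_mul_left _ hEK_card')
      have hKL₂ne : K ≠ L₂ := by
        intro heq
        rw [← heq] at hL₂card
        omega
      have h1 := ihA L₂ hL₂lt hL₂s hL₂size K hEK hKL₂ hKL₂ne
      have h2 : nz L₂ K = L₂ := by
        apply le_antisymm (nz_le_left _ _)
        exact le_inf le_rfl hL₂nK
      rw [h2, hL₂card] at h1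
      omega
  intro K hEK hKL hKne
  exact key _ K rfl hEK hKL hKne

/-- `PropA` gives the chain property. -/
theorem chain_of_propA (hG : IsPGroup p G) {L E : Subgroup G} (hA : PropA p L E)
    {K K' : Subgroup G} (hEK : E ≤ K) (hKL : K ≤ L) (hEK' : E ≤ K') (hK'L : K' ≤ L) :
    K ≤ K' ∨ K' ≤ K := by
  by_contra hcon
  rw [not_or] at hcon
  obtain ⟨h1, h2⟩ := hcon
  have hI1 : K ⊓ K' < K := lt_of_le_of_ne inf_le_left (fun heq => h1 (heq ▸ inf_le_right))
  have hI2 : K ⊓ K' < K' := lt_of_le_of_ne inf_le_right (fun heq => h2 (heq ▸ inf_le_left))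
  have hIL : K ⊓ K' ≤ L := inf_le_left.trans hKL
  have hIne : K ⊓ K' ≠ L := by
    intro heq
    rw [heq] at hI1
    exact (not_le_of_gt hI1) hKL
  have hcard := hA (K ⊓ K') (le_inf hEK hEK') hIL hIne
  have e1 : K ⊓ Subgroup.normalizer ((K ⊓ K' : Subgroup G) : Set G) = nz L (K ⊓ K') :=
    eq_of_lt_of_card hG (normalizer_growth hG hI1) (inf_le_inf_right _ hKL) hcard
  have e2 : K' ⊓ Subgroup.normalizer ((K ⊓ K' : Subgroup G) : Set G) = nz L (K ⊓ K') :=
    eq_of_lt_of_card hG (normalizer_growth hG hI2) (inf_le_inf_right _ hK'L) hcard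
  have hle : nz L (K ⊓ K') ≤ K ⊓ K' :=
    le_inf (e1 ▸ inf_le_left) (e2 ▸ inf_le_left)
  have hlt : K ⊓ K' < nz L (K ⊓ K') := normalizer_growth hG (lt_of_le_of_ne hIL hIne)
  exact (not_le_of_gt hlt) hle

end Cfsg.Agent.Lib.Helper63.Soft
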