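import Mathlib
import Cfsg.Agent.Lib.Helper63.SoftTower

/-!
# Soft subgroups: the commutators of `N_L(E)` are central in every proper overgroup
-/

set_option autoImplicit false

namespace Cfsg.Agent.Lib.Helper63.Soft

open scoped Pointwise commutatorElement

variable {G : Type*} [Group G]

/-- Elements normalizing `Z` whose commutators with all of `S` lie in `Z`. -/
def commSub (Z : Subgroup G) (S : Set G) : Subgroup G where
  carrier := {a | a ∈ Subgroup.normalizer (Z : Set G) ∧ ∀ s ∈ S, a * s * a⁻¹ * s⁻¹ ∈ Z}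
  one_mem' := by
    refine ⟨one_mem _, fun s _ => ?_⟩
    have e : (1 : G) * s * 1⁻¹ * s⁻¹ = 1 := by group
    rw [e]; exact one_mem _
  mul_mem' := by
    rintro a b ⟨ha, ha'⟩ ⟨hb, hb'⟩
    refine ⟨mul_mem ha hb, fun s hs => ?_⟩
    have h1 : a * (b * s * b⁻¹ * s⁻¹) * a⁻¹ ∈ Z :=
      (Subgroup.mem_normalizer_iff.1 ha _).1 (hb' s hs)
    have h2 := Z.mul_mem h1 (ha' s hs)
    have e : a * b * s * (a * b)⁻¹ * s⁻¹ =
        a * (b * s * b⁻¹ * s⁻¹) * a⁻¹ * (a * s * a⁻¹ * s⁻¹) := by group
    rw [e]; exact h2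
  inv_mem' := by
    rintro a ⟨ha, ha'⟩
    refine ⟨inv_mem ha, fun s hs => ?_⟩
    have h1 : a⁻¹ * (a * s * a⁻¹ * s⁻¹)⁻¹ * a⁻¹⁻¹ ∈ Z :=
      (Subgroup.mem_normalizer_iff.1 (inv_mem ha) _).1 (Z.inv_mem (ha' s hs))
    have e : a⁻¹ * s * a⁻¹⁻¹ * s⁻¹ = a⁻¹ * (a * s * a⁻¹ * s⁻¹)⁻¹ * a⁻¹⁻¹ := by group
    rw [e]; exact h1

theorem mem_commSub {Z : Subgroup G} {S : Set G} {a : G} :
    a ∈ commSub Z S ↔
      a ∈ Subgroup.normalizer (Z : Set G) ∧ ∀ s ∈ S, a * s * a⁻¹ * s⁻¹ ∈ Z := Iff.rfl

variable [Finite G] {p : ℕ} [hp : Fact p.Prime]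

/-- **(†)** commutators of `N_L(E)` are central in every overgroup `E < K < L`. -/
theorem dagger (hG : IsPGroup p G) {L E : Subgroup G} (h : SoftIn p L E) (hA : PropA p L E) :
    ∀ K : Subgroup G, E ≤ K → K ≤ L → K ≠ L → K ≠ E →
      ∀ a ∈ nz L E, ∀ b ∈ nz L E, a * b * a⁻¹ * b⁻¹ ∈ Zc K := by
  have hp2 := hp.out.two_le
  have key : ∀ (m : ℕ) (K : Subgroup G), Nat.card ↥K = m → E ≤ K → K ≤ L → K ≠ L → K ≠ E →
      ∀ a ∈ nz L E, ∀ b ∈ nz L E, a * b * a⁻¹ * b⁻¹ ∈ Zc K := by
    intro m
    induction m using Nat.strong_induction_on with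
    | _ m ihm =>
    intro K hKm hEK hKL hKne hKE a ha b hb
    have hN₁K : nz L E ≤ K := h.nz_le hG hEK hKL hKE
    have hElt : E < K := lt_of_le_of_ne hEK (Ne.symm hKE)
    obtain ⟨Km, hEKm, hKmK, hKmc⟩ := exists_coext' hG hElt
    by_cases hKmE : Km = E
    · have hKN : nz L E = K :=
        eq_of_le_card hN₁K (by rw [hKmc, hKmE]; exact le_of_eq h.norm.symm)
      have hN₁ne : nz L E ≠ L := hKN ▸ hKne
      rw [← hKN]
      exact (h.zc_nz hG hN₁ne).2.2 a ha b hb
    · have hKmL : Km ≤ L := hKmK.trans hKL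
      have hKmne : Km ≠ L := fun heq => hKne (le_antisymm hKL (heq ▸ hKmK))
      have hKmlt : Nat.card ↥Km < m := by rw [← hKm, hKmc]; exact ar1 hp2 (card_pos' Km)
      have ihK := ihm _ hKmlt Km rfl hEKm hKmL hKmne hKmE
      have hnzc := hA Km hEKm hKmL hKmne
      have hKnKm : K ≤ Subgroup.normalizer (Km : Set G) := le_normalizer_of_card hG hKmK hKmc
      have hnzKm : K = nz L Km := eq_of_le_card (le_inf hKL hKnKm) (by rw [hnzc, hKmc])
      obtain ⟨u, huL, huN, huK⟩ := exists_normalizing hG (lt_of_le_of_ne hKL hKne)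
      have hFs : SoftIn p L (cj u E) := h.conj huL
      have hFK : cj u E ≤ K := by
        rw [← cj_eq_of_mem_normalizer huN]; exact cj_mono hEK
      have hFKm : ¬ cj u E ≤ Km := by
        intro hle
        have h1 : E ≤ cj u⁻¹ Km := by
          have := cj_mono (g := u⁻¹) hle
          rw [cj_cj, inv_mul_cancel, cj_one] at this
          exact this
        have hu' : u⁻¹ ∈ Subgroup.normalizer (K : Set G) := inv_mem huN
        have h2 : cj u⁻¹ Km ≤ K := by
          rw [← cj_eq_of_mem_normalizer hu']; exact cj_mono hKmK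
        have h3 := chain_of_propA hG hA hEKm hKmL h1 (h2.trans hKL)
        have h4 : cj u⁻¹ Km = Km := by
          rcases h3 with h3 | h3
          · exact (eq_of_le_card h3 (by rw [card_cj])).symm
          · exact eq_of_le_card h3 (by rw [card_cj])
        have h5 : u⁻¹ ∈ nz L Km := ⟨L.inv_mem huL, mem_normalizer_of_cj_eq h4⟩
        rw [← hnzKm] at h5
        exact huK (by simpa using K.inv_mem h5)
      obtain ⟨y, hyF, hyKm⟩ := SetLike.not_le_iff_exists.1 hFKm
      have hyK : y ∈ K := hFK hyF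
      have hsup : Km ⊔ Subgroup.zpowers y = K := sup_zpowers_eq hG hKmK hKmc hyK hyKm
      have hcrit : ∀ x ∈ Zc Km, x * y = y * x → x ∈ Zc K := by
        intro x hx hxy
        rw [mem_Zc] at hx ⊢
        refine ⟨hKmK hx.1, ?_⟩
        have hcen : Km ⊔ Subgroup.zpowers y ≤ Subgroup.centralizer ({x} : Set G) := by
          apply sup_le
          · intro k hk
            rw [Subgroup.mem_centralizer_singleton_iff]
            exact hx.2 k hk
          · rw [Subgroup.zpowers_le, Subgroup.mem_centralizer_singleton_iff]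
            exact hxy.symm
        intro k hk
        rw [← hsup] at hk
        have := hcen hk
        rwa [Subgroup.mem_centralizer_singleton_iff] at this
      have hcZ : a * b * a⁻¹ * b⁻¹ ∈ Zc Km := ihK a ha b hb
      by_contra hcon
      have hcy : a * b * a⁻¹ * b⁻¹ * y ≠ y * (a * b * a⁻¹ * b⁻¹) :=
        fun e => hcon (hcrit _ hcZ e)
      have hAconj : ∀ k ∈ K, ∀ x ∈ Zc Km, k * x * k⁻¹ ∈ Zc Km :=
        fun k hk x hx => conj_mem_Zc (hKnKm hk) hx
      let φ : G → G := fun x => x * y * x⁻¹ * y⁻¹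
      have hφA : ∀ x ∈ Zc Km, φ x ∈ Zc Km := by
        intro x hx
        have h1 := hAconj y hyK x⁻¹ (inv_mem hx)
        have h2 := mul_mem hx h1
        have e : φ x = x * (y * x⁻¹ * y⁻¹) := by simp only [φ]; group
        rw [e]; exact h2
      have hiter : ∀ k : ℕ, ∀ x ∈ Zc Km, φ^[k] x = 1 →
          x * y = y * x ∨ ∃ v ∈ Zc Km, φ v ≠ 1 ∧ φ (φ v) = 1 := by
        intro k
        induction k with
        | zero =>
          intro x _ h1
          left
          simp only [Function.iterate_zero, id_eq] at h1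
          rw [h1]; simp
        | succ k ih =>
          intro x hx h1
          rw [Function.iterate_succ_apply] at h1
          rcases ih (φ x) (hφA x hx) h1 with h2 | h2
          · by_cases h3 : φ x = 1
            · left
              have e : x * y = (x * y * x⁻¹ * y⁻¹) * (y * x) := by group
              have h3' : x * y * x⁻¹ * y⁻¹ = 1 := h3
              rw [e, h3', one_mul]
            · right
              refine ⟨x, hx, h3, ?_⟩
              show φ x * y * (φ x)⁻¹ * y⁻¹ = 1
              rw [h2]; group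
          · right; exact h2
      have hlcs : ∀ k : ℕ, φ^[k] (a * b * a⁻¹ * b⁻¹) ∈ (⊤ : Subgroup G).lowerCentralSeries k := by
        intro k
        induction k with
        | zero => simp
        | succ k ih =>
          rw [Function.iterate_succ_apply', Subgroup.lowerCentralSeries_succ]
          have := Subgroup.commutator_mem_commutator ih (Subgroup.mem_top y)
          rw [commutatorElement_def] at this
          exact this
      have hnil : Group.IsNilpotent G := hG.isNilpotent
      obtain ⟨n, hn⟩ := Subgroup.nilpotent_iff_lowerCentralSeries.1 hnil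
      have hφn : φ^[n] (a * b * a⁻¹ * b⁻¹) = 1 := by
        have := hlcs n
        rw [hn, Subgroup.mem_bot] at this
        exact this
      rcases hiter n _ hcZ hφn with h1 | ⟨v, hvA, hw1, hw2⟩
      · exact hcy h1
      have hwA : φ v ∈ Zc Km := hφA v hvA
      have hwy : φ v * y = y * φ v := by
        have e : φ v * y = (φ v * y * (φ v)⁻¹ * y⁻¹) * (y * φ v) := by group
        have hw2' : φ v * y * (φ v)⁻¹ * y⁻¹ = 1 := hw2
        rw [e, hw2', one_mul]
      have hwZ : φ v ∈ Zc K := hcrit _ hwA hwy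
      have hZF : Zc K ≤ cj u E := fun x hx =>
        hFs.cent x (hKL (Zc_le K hx)) (fun f hf => ((mem_Zc.1 hx).2 f (hFK hf)).symm)
      have hvK : v ∈ K := hKmK (Zc_le Km hvA)
      have hyv : y * v * y⁻¹ = (φ v)⁻¹ * v := by simp only [φ]; group
      have hr : ∀ f ∈ cj u E, v * f * v⁻¹ * f⁻¹ ∈ Zc K := by
        intro f hf
        have hfK := hFK hf
        have hrA : v * f * v⁻¹ * f⁻¹ ∈ Zc Km := by
          have h1 := hAconj f hfK v⁻¹ (inv_mem hvA)
          have h2 := mul_mem hvA h1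
          have e : v * f * v⁻¹ * f⁻¹ = v * (f * v⁻¹ * f⁻¹) := by group
          rw [e]; exact h2
        apply hcrit _ hrA
        have hfy : f * y = y * f := hFs.comm f hf y hyF
        have hq : (v * f * v⁻¹) * φ v = φ v * (v * f * v⁻¹) :=
          (mem_Zc.1 hwZ).2 _ (K.mul_mem (K.mul_mem hvK hfK) (K.inv_mem hvK))
        have e1 : y * (v * f * v⁻¹ * f⁻¹) * y⁻¹ =
            (y * v * y⁻¹) * (y * f * y⁻¹) * (y * v * y⁻¹)⁻¹ * (y * f * y⁻¹)⁻¹ := by group
        have e2 : y * f * y⁻¹ = f := by rw [← hfy]; group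
        have e3 : ((φ v)⁻¹ * v) * f * ((φ v)⁻¹ * v)⁻¹ * f⁻¹ =
            (φ v)⁻¹ * ((v * f * v⁻¹) * φ v) * f⁻¹ := by group
        have e4 : y * (v * f * v⁻¹ * f⁻¹) * y⁻¹ = v * f * v⁻¹ * f⁻¹ := by
          rw [e1, hyv, e2, e3, hq]; group
        calc v * f * v⁻¹ * f⁻¹ * y = (y * (v * f * v⁻¹ * f⁻¹) * y⁻¹) * y := by rw [e4]
          _ = y * (v * f * v⁻¹ * f⁻¹) := by group
      have hvnF : ∀ f ∈ cj u E, v * f * v⁻¹ ∈ cj u E := by
        intro f hf
        have := (cj u E).mul_mem (hZF (hr f hf)) hf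
        have e : v * f * v⁻¹ * f⁻¹ * f = v * f * v⁻¹ := by group
        rwa [e] at this
      have hvN : v ∈ Subgroup.normalizer (cj u E : Set G) := mem_normalizer_of_conj_le hvnF
      have hvL : v ∈ L := hKL hvK
      have hvF : v ∉ cj u E := by
        intro hvF
        apply hw1
        have := hFs.comm v hvF y hyF
        show v * y * v⁻¹ * y⁻¹ = 1
        rw [this]; group
      have hRc : Nat.card ↥(nz L (cj u E)) = p * Nat.card ↥(cj u E) := hFs.norm
      have hFR : cj u E ≤ nz L (cj u E) := le_nz hFs.le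
      have hvR : v ∈ nz L (cj u E) := ⟨hvL, hvN⟩
      have hRsup : cj u E ⊔ Subgroup.zpowers v = nz L (cj u E) :=
        sup_zpowers_eq hG hFR hRc hvR hvF
      have hKnZ : K ≤ Subgroup.normalizer (Zc K : Set G) := fun k hk =>
        mem_normalizer_of_conj_le (fun z hz => conj_mem_Zc (Subgroup.le_normalizer hk) hz)
      have hS1 : nz L (cj u E) ≤ commSub (Zc K) (cj u E : Set G) := by
        rw [← hRsup]
        apply sup_le
        · intro f hf
          refine ⟨hKnZ (hFK hf), fun s hs => ?_⟩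
          have := hFs.comm f hf s hs
          have e : f * s * f⁻¹ * s⁻¹ = 1 := by rw [this]; group
          rw [e]; exact one_mem _
        · rw [Subgroup.zpowers_le]
          exact ⟨hKnZ hvK, fun s hs => hr s hs⟩
      have hS2 : nz L (cj u E) ≤ commSub (Zc K) ({v} : Set G) := by
        rw [← hRsup]
        apply sup_le
        · intro f hf
          refine ⟨hKnZ (hFK hf), fun s hs => ?_⟩
          rw [Set.mem_singleton_iff] at hs
          rw [hs]
          have := (Zc K).inv_mem (hr f hf)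
          have e : f * v * f⁻¹ * v⁻¹ = (v * f * v⁻¹ * f⁻¹)⁻¹ := by group
          rw [e]; exact this
        · rw [Subgroup.zpowers_le]
          refine ⟨hKnZ hvK, fun s hs => ?_⟩
          rw [Set.mem_singleton_iff] at hs
          rw [hs]
          have e : v * v * v⁻¹ * v⁻¹ = 1 := by group
          rw [e]; exact one_mem _
      have hS3 : ∀ a' ∈ nz L (cj u E), ∀ b' ∈ nz L (cj u E),
          b' * a' * b'⁻¹ * a'⁻¹ ∈ Zc K := by
        intro a' ha' b' hb'
        have hle : nz L (cj u E) ≤ commSub (Zc K) ({a'} : Set G) := by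
          rw [← hRsup]
          apply sup_le
          · intro f hf
            refine ⟨hKnZ (hFK hf), fun s hs => ?_⟩
            rw [Set.mem_singleton_iff] at hs
            rw [hs]
            have := (Zc K).inv_mem ((hS1 ha').2 f hf)
            have e : f * a' * f⁻¹ * a'⁻¹ = (a' * f * a'⁻¹ * f⁻¹)⁻¹ := by group
            rw [e]; exact this
          · rw [Subgroup.zpowers_le]
            refine ⟨hKnZ hvK, fun s hs => ?_⟩
            rw [Set.mem_singleton_iff] at hs
            rw [hs]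
            have := (Zc K).inv_mem ((hS2 ha').2 v rfl)
            have e : v * a' * v⁻¹ * a'⁻¹ = (a' * v * a'⁻¹ * v⁻¹)⁻¹ := by group
            rw [e]; exact this
        exact (hle hb').2 a' rfl
      have haR : u * a * u⁻¹ ∈ nz L (cj u E) :=
        ⟨L.mul_mem (L.mul_mem huL (nz_le_left _ _ ha)) (L.inv_mem huL),
          conj_mem_normalizer_cj (mem_nz.1 ha).2⟩
      have hbR : u * b * u⁻¹ ∈ nz L (cj u E) :=
        ⟨L.mul_mem (L.mul_mem huL (nz_le_left _ _ hb)) (L.inv_mem huL),
          conj_mem_normalizer_cj (mem_nz.1 hb).2⟩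
      have h1 := hS3 _ hbR _ haR
      have h2 : u * (a * b * a⁻¹ * b⁻¹) * u⁻¹ ∈ Zc K := by
        have e : u * (a * b * a⁻¹ * b⁻¹) * u⁻¹ =
            u * a * u⁻¹ * (u * b * u⁻¹) * (u * a * u⁻¹)⁻¹ * (u * b * u⁻¹)⁻¹ := by group
        rw [e]; exact h1
      have h3 := conj_mem_Zc (inv_mem huN) h2
      have e : u⁻¹ * (u * (a * b * a⁻¹ * b⁻¹) * u⁻¹) * u⁻¹⁻¹ = a * b * a⁻¹ * b⁻¹ := by group
      rw [e] at h3
      exact hcon h3
  intro K hEK hKL hKne hKE
  exact key _ K rfl hEK hKL hKne hKE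

end Cfsg.Agent.Lib.Helper63.Soft
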