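import Mathlib
import Cfsg.Agent.Lib.Helper63.SoftDagger

/-!
# Soft subgroups: passage to `N_G(Z)/Z` and the upper central series (`PropC`)
-/

set_option autoImplicit false

namespace Cfsg.Agent.Lib.Helper63.Soft

open scoped Pointwise commutatorElement

universe u

variable {G : Type u} [Group G]

/-- The quotient `N_G(Z)/Z`. -/
abbrev QZ (Z : Subgroup G) : Type u :=
  ↥(Subgroup.normalizer (Z : Set G)) ⧸ Z.subgroupOf (Subgroup.normalizer (Z : Set G))

/-- The image of `X ∩ N_G(Z)` in `N_G(Z)/Z`. -/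
def bar (Z X : Subgroup G) : Subgroup (QZ Z) :=
  (X.subgroupOf (Subgroup.normalizer (Z : Set G))).map
    (QuotientGroup.mk' (Z.subgroupOf (Subgroup.normalizer (Z : Set G))))

theorem mem_bar_iff {Z X : Subgroup G} {q : QZ Z} :
    q ∈ bar Z X ↔ ∃ x : ↥(Subgroup.normalizer (Z : Set G)), (x : G) ∈ X ∧
      (QuotientGroup.mk x : QZ Z) = q := by
  unfold bar
  rw [Subgroup.mem_map]
  constructor
  · rintro ⟨x, hx, rfl⟩
    exact ⟨x, Subgroup.mem_subgroupOf.1 hx, rfl⟩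
  · rintro ⟨x, hx, rfl⟩
    exact ⟨x, Subgroup.mem_subgroupOf.2 hx, rfl⟩

theorem mk_mem_bar {Z X : Subgroup G} (hZX : Z ≤ X) (x : ↥(Subgroup.normalizer (Z : Set G))) :
    (QuotientGroup.mk x : QZ Z) ∈ bar Z X ↔ (x : G) ∈ X := by
  rw [mem_bar_iff]
  constructor
  · rintro ⟨y, hy, hxy⟩
    rw [QuotientGroup.eq, Subgroup.mem_subgroupOf] at hxy
    have h1 : (y : G) * ((y⁻¹ * x : ↥(Subgroup.normalizer (Z : Set G))) : G) ∈ X :=
      X.mul_mem hy (hZX hxy)
    have e : (y : G) * ((y⁻¹ * x : ↥(Subgroup.normalizer (Z : Set G))) : G) = x := by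
      simp
    rwa [e] at h1
  · intro hx
    exact ⟨x, hx, rfl⟩

theorem bar_mono {Z X Y : Subgroup G} (h : X ≤ Y) : bar Z X ≤ bar Z Y := by
  intro q hq
  rw [mem_bar_iff] at hq ⊢
  obtain ⟨x, hx, rfl⟩ := hq
  exact ⟨x, h hx, rfl⟩

theorem le_of_bar_le {Z X Y : Subgroup G} (hZY : Z ≤ Y)
    (hXN : X ≤ Subgroup.normalizer (Z : Set G)) (h : bar Z X ≤ bar Z Y) : X ≤ Y := by
  intro x hx
  have h1 : (QuotientGroup.mk (⟨x, hXN hx⟩ : ↥(Subgroup.normalizer (Z : Set G))) : QZ Z) ∈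
      bar Z X := mem_bar_iff.2 ⟨⟨x, hXN hx⟩, hx, rfl⟩
  exact (mk_mem_bar hZY _).1 (h h1)

theorem card_bar [Finite G] {Z X : Subgroup G} (hZX : Z ≤ X)
    (hXN : X ≤ Subgroup.normalizer (Z : Set G)) :
    Nat.card ↥(bar Z X) * Nat.card ↥Z = Nat.card ↥X := by
  have hZ'X' : Z.subgroupOf (Subgroup.normalizer (Z : Set G)) ≤
      X.subgroupOf (Subgroup.normalizer (Z : Set G)) := by
    intro x hx
    rw [Subgroup.mem_subgroupOf] at hx ⊢
    exact hZX hx
  have h1 : (Z.subgroupOf (Subgroup.normalizer (Z : Set G))).relIndex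
      (X.subgroupOf (Subgroup.normalizer (Z : Set G))) = Nat.card ↥(bar Z X) := by
    have := Subgroup.relIndex_comap (⊥ : Subgroup (QZ Z))
      (QuotientGroup.mk' (Z.subgroupOf (Subgroup.normalizer (Z : Set G))))
      (X.subgroupOf (Subgroup.normalizer (Z : Set G)))
    rw [Subgroup.relIndex_bot_left, MonoidHom.comap_bot, QuotientGroup.ker_mk'] at this
    exact this
  have h2 := Subgroup.relIndex_mul_relIndex ⊥ _ _ bot_le hZ'X'
  rw [Subgroup.relIndex_bot_left, Subgroup.relIndex_bot_left] at h2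
  have hcZ : Nat.card ↥(Z.subgroupOf (Subgroup.normalizer (Z : Set G))) = Nat.card ↥Z :=
    Nat.card_congr (Subgroup.subgroupOfEquivOfLe Subgroup.le_normalizer).toEquiv
  have hcX : Nat.card ↥(X.subgroupOf (Subgroup.normalizer (Z : Set G))) = Nat.card ↥X :=
    Nat.card_congr (Subgroup.subgroupOfEquivOfLe hXN).toEquiv
  rw [← h1, ← hcZ, ← hcX, ← h2, mul_comm]

/-- The upper central series of `K/Z(K)` inside `N_G(Z(K))/Z(K)`. -/
theorem uz_bar {K : Subgroup G} (hKN : K ≤ Subgroup.normalizer (Zc K : Set G)) :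
    ∀ j : ℕ, uz (bar (Zc K) K) j = bar (Zc K) (uz K (j + 1)) := by
  intro j
  induction j with
  | zero =>
    ext q
    obtain ⟨x, rfl⟩ := QuotientGroup.mk_surjective q
    rw [uz_zero, Subgroup.mem_bot, mk_mem_bar (by rw [uz_one]), uz_one,
      QuotientGroup.eq_one_iff, Subgroup.mem_subgroupOf]
  | succ j ih =>
    ext q
    obtain ⟨x, rfl⟩ := QuotientGroup.mk_surjective q
    have hZle : Zc K ≤ uz K (j + 1) := by
      rw [← uz_one]; exact uz_mono K (by omega)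
    have hZle2 : Zc K ≤ uz K (j + 1 + 1) := by
      rw [← uz_one]; exact uz_mono K (by omega)
    rw [mem_uz_succ, ih, mk_mem_bar hZle2, mem_uz_succ, mk_mem_bar (Zc_le K)]
    constructor
    · rintro ⟨hx, hall⟩
      refine ⟨hx, fun k hk => ?_⟩
      have hkq : (QuotientGroup.mk (⟨k, hKN hk⟩ : ↥(Subgroup.normalizer (Zc K : Set G))) :
          QZ (Zc K)) ∈ bar (Zc K) K := mem_bar_iff.2 ⟨⟨k, hKN hk⟩, hk, rfl⟩
      have := hall _ hkq
      have h2 : (QuotientGroup.mk (x * ⟨k, hKN hk⟩ * x⁻¹ * ⟨k, hKN hk⟩⁻¹ :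
          ↥(Subgroup.normalizer (Zc K : Set G))) : QZ (Zc K)) ∈ bar (Zc K) (uz K (j + 1)) := this
      rw [mk_mem_bar hZle] at h2
      simpa using h2
    · rintro ⟨hx, hall⟩
      refine ⟨hx, fun kq hkq => ?_⟩
      obtain ⟨k, hk, rfl⟩ := mem_bar_iff.1 hkq
      have h2 : (QuotientGroup.mk (x * k * x⁻¹ * k⁻¹ :
          ↥(Subgroup.normalizer (Zc K : Set G))) : QZ (Zc K)) ∈ bar (Zc K) (uz K (j + 1)) := by
        rw [mk_mem_bar hZle]
        simpa using hall k hk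
      exact h2

end Cfsg.Agent.Lib.Helper63.Soft
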