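import Mathlib
import Cfsg.Agent.Lib.Helper63.SoftQuot

/-!
# Soft subgroups: the main induction
-/

set_option autoImplicit false

namespace Cfsg.Agent.Lib.Helper63.Soft

open scoped Pointwise commutatorElement

universe u

variable {G : Type u} [Group G] [Finite G] {p : ℕ} [hp : Fact p.Prime]

/-- `N₁/Z(K)` is soft in `N_L(K)/Z(K)`. -/
theorem softIn_bar (hG : IsPGroup p G) {L E K : Subgroup G} (h : SoftIn p L E)
    (hA : PropA p L E) (hEK : E ≤ K) (hKL : K ≤ L) (hKne : K ≠ L)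
    (hcard : p ^ 2 * Nat.card ↥E ≤ Nat.card ↥K) :
    SoftIn p (bar (Zc K) (nz L K)) (bar (Zc K) (nz L E)) := by
  have hp2 := hp.out.two_le
  have hppos := hp.out.pos
  have hEpos := card_pos' E
  have hKE : K ≠ E := by
    intro heq
    rw [heq] at hcard
    have h4 : 2 * 2 ≤ p * p := Nat.mul_le_mul hp2 hp2
    have h5 : 2 * 2 * Nat.card ↥E ≤ p ^ 2 * Nat.card ↥E := by
      rw [pow_two]; exact Nat.mul_le_mul_right _ h4
    omega
  have hN₁K : nz L E ≤ K := h.nz_le hG hEK hKL hKE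
  have hKL' : K ≤ nz L K := le_nz hKL
  have hZE : Zc K ≤ E := fun x hx =>
    h.cent x (hKL (Zc_le K hx)) (fun e he => ((mem_Zc.1 hx).2 e (hEK he)).symm)
  have hEN₁ : E ≤ nz L E := le_nz h.le
  have hL'N : nz L K ≤ Subgroup.normalizer (Zc K : Set G) := fun x hx =>
    mem_normalizer_of_conj_le (fun z hz => conj_mem_Zc (mem_nz.1 hx).2 hz)
  have hKN : K ≤ Subgroup.normalizer (Zc K : Set G) := hKL'.trans hL'N
  have hdag := dagger hG h hA K hEK hKL hKne hKE
  have hN₁ne : nz L E ≠ L := fun heq => hKne (le_antisymm hKL (heq ▸ hN₁K))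
  -- `K₂ = N_L(N₁)`
  have hK₂c : Nat.card ↥(nz L (nz L E)) = p * Nat.card ↥(nz L E) :=
    hA (nz L E) hEN₁ (nz_le_left L E) hN₁ne
  have hN₁K₂ : nz L E ≤ nz L (nz L E) := le_nz (nz_le_left L E)
  have hK₂K : nz L (nz L E) ≤ K := by
    rcases chain_of_propA hG hA (hEN₁.trans hN₁K₂) (nz_le_left L _) hEK hKL with h1 | h1
    · exact h1
    · have : K = nz L (nz L E) := eq_of_le_card h1 (by
        rw [hK₂c, h.norm]
        calc p * (p * Nat.card ↥E) = p ^ 2 * Nat.card ↥E := by ring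
          _ ≤ Nat.card ↥K := hcard)
      exact le_of_eq this.symm
  refine ⟨bar_mono (hN₁K.trans hKL'), ?_, ?_, ?_⟩
  · -- commutativity
    intro aq haq bq hbq
    obtain ⟨a, ha, rfl⟩ := mem_bar_iff.1 haq
    obtain ⟨b, hb, rfl⟩ := mem_bar_iff.1 hbq
    have h1 : (QuotientGroup.mk (a * b) : QZ (Zc K)) = QuotientGroup.mk (b * a) := by
      rw [QuotientGroup.eq, Subgroup.mem_subgroupOf]
      have := hdag _ (inv_mem hb) _ (inv_mem ha)
      simpa [mul_assoc] using this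
    exact h1
  · -- self-centralizing
    intro xq hxq hcen
    obtain ⟨x, hx, rfl⟩ := mem_bar_iff.1 hxq
    rw [mk_mem_bar (hZE.trans hEN₁)]
    have hxL : (x : G) ∈ L := nz_le_left L K hx
    have hconj : ∀ e ∈ E, (x : G)⁻¹ * e * ((x : G)⁻¹)⁻¹ ∈ E := by
      intro e he
      have heN : e ∈ Subgroup.normalizer (Zc K : Set G) := hKN (hEK he)
      have heq : (QuotientGroup.mk (⟨e, heN⟩ : ↥(Subgroup.normalizer (Zc K : Set G))) :
          QZ (Zc K)) ∈ bar (Zc K) (nz L E) := mem_bar_iff.2 ⟨⟨e, heN⟩, hEN₁ he, rfl⟩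
      have h1 := hcen _ heq
      have h2 : (QuotientGroup.mk (x * ⟨e, heN⟩) : QZ (Zc K)) =
          QuotientGroup.mk (⟨e, heN⟩ * x) := h1
      rw [QuotientGroup.eq, Subgroup.mem_subgroupOf] at h2
      have h3 : e * (((x * ⟨e, heN⟩)⁻¹ * (⟨e, heN⟩ * x) :
          ↥(Subgroup.normalizer (Zc K : Set G))) : G) ∈ E := E.mul_mem he (hZE h2)
      have e1 : e * (((x * ⟨e, heN⟩)⁻¹ * (⟨e, heN⟩ * x) :
          ↥(Subgroup.normalizer (Zc K : Set G))) : G) = (x : G)⁻¹ * e * ((x : G)⁻¹)⁻¹ := by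
        simp [mul_assoc]
      rwa [e1] at h3
    have hxinv : (x : G)⁻¹ ∈ Subgroup.normalizer (E : Set G) := mem_normalizer_of_conj_le hconj
    have hxN : (x : G) ∈ Subgroup.normalizer (E : Set G) := by
      have := inv_mem hxinv
      simpa using this
    exact ⟨hxL, hxN⟩
  · -- normalizer
    have hZK₂ : Zc K ≤ nz L (nz L E) := (hZE.trans hEN₁).trans hN₁K₂
    have hnzeq : nz (bar (Zc K) (nz L K)) (bar (Zc K) (nz L E)) =
        bar (Zc K) (nz L (nz L E)) := by
      ext q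
      obtain ⟨x, rfl⟩ := QuotientGroup.mk_surjective q
      rw [mem_nz, mk_mem_bar hZK₂, mk_mem_bar ((Zc_le K).trans hKL')]
      constructor
      · rintro ⟨hxL', hxn⟩
        refine ⟨nz_le_left L K hxL', ?_⟩
        apply mem_normalizer_of_conj_le
        intro n hn
        have hnN : n ∈ Subgroup.normalizer (Zc K : Set G) := hKN (hN₁K hn)
        have hnq : (QuotientGroup.mk (⟨n, hnN⟩ : ↥(Subgroup.normalizer (Zc K : Set G))) :
            QZ (Zc K)) ∈ bar (Zc K) (nz L E) := mem_bar_iff.2 ⟨⟨n, hnN⟩, hn, rfl⟩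
        have h1 := (Subgroup.mem_normalizer_iff.1 hxn _).1 hnq
        have h2 : (QuotientGroup.mk (x * ⟨n, hnN⟩ * x⁻¹) : QZ (Zc K)) ∈
            bar (Zc K) (nz L E) := h1
        rw [mk_mem_bar (hZE.trans hEN₁)] at h2
        simpa using h2
      · intro hxK₂
        refine ⟨hKL' (hK₂K hxK₂), ?_⟩
        apply mem_normalizer_of_conj_le
        intro nq hnq
        obtain ⟨n, hn, rfl⟩ := mem_bar_iff.1 hnq
        have h2 : (QuotientGroup.mk (x * n * x⁻¹) : QZ (Zc K)) ∈ bar (Zc K) (nz L E) := by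
          rw [mk_mem_bar (hZE.trans hEN₁)]
          have := (Subgroup.mem_normalizer_iff.1 (mem_nz.1 hxK₂).2 n).1 hn
          simpa using this
        exact h2
    rw [hnzeq]
    have hc1 := card_bar hZK₂ ((hK₂K.trans hKL').trans hL'N)
    have hc2 := card_bar (hZE.trans hEN₁) ((hN₁K.trans hKL').trans hL'N)
    have hZpos := card_pos' (Zc K)
    have : Nat.card ↥(bar (Zc K) (nz L (nz L E))) * Nat.card ↥(Zc K) =
        p * Nat.card ↥(bar (Zc K) (nz L E)) * Nat.card ↥(Zc K) := by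
      rw [hc1, hK₂c, ← hc2]; ring
    exact Nat.eq_of_mul_eq_mul_right hZpos this

/-- One step of the induction for `PropC`. -/
theorem propC_step (hG : IsPGroup p G) {L E : Subgroup G} (h : SoftIn p L E)
    (hA : PropA p L E)
    (ihC : ∀ (Q : Type u) [Group Q] [Finite Q], IsPGroup p Q → ∀ L' E' : Subgroup Q,
      Nat.card ↥L' < Nat.card ↥L → SoftIn p L' E' →
      p ^ 2 * Nat.card ↥E' ≤ Nat.card ↥L' → PropC p L' E') :
    PropC p L E := by
  have hp2 := hp.out.two_le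
  have hppos := hp.out.pos
  intro i K hi hEK hKL hKne hcard
  have hEpos := card_pos' E
  have hKE : K ≠ E := by
    intro heq
    rw [heq] at hcard
    have h1 : p ^ 1 ≤ p ^ i := Nat.pow_le_pow_right hppos hi
    have h2 : p ^ 1 * Nat.card ↥E ≤ p ^ i * Nat.card ↥E := Nat.mul_le_mul_right _ h1
    have h3 := ar1 hp2 hEpos
    rw [pow_one] at h2
    omega
  have hN₁K : nz L E ≤ K := h.nz_le hG hEK hKL hKE
  have hEN₁ : E ≤ nz L E := le_nz h.le
  have hN₁ne : nz L E ≠ L := fun heq => hKne (le_antisymm hKL (heq ▸ hN₁K))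
  obtain ⟨hZ₁E, hZ₁c, _⟩ := h.zc_nz hG hN₁ne
  rcases Nat.eq_or_lt_of_le hi with hi1 | hi2
  · -- `i = 1`, `K = N₁`
    subst hi1
    rw [pow_one] at hcard
    have hKN : nz L E = K := eq_of_le_card hN₁K (by rw [hcard, h.norm])
    rw [uz_one, ← hKN]
    refine ⟨?_, ?_⟩
    · rw [h.norm, hZ₁c]; ring
    · intro K₁ hEK₁ _ hK₁c
      rw [h.norm] at hK₁c
      have : Nat.card ↥K₁ = Nat.card ↥E := (Nat.eq_of_mul_eq_mul_left hppos hK₁c).symm
      have hEK₁' : E = K₁ := eq_of_le_card hEK₁ (le_of_eq this)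
      rw [← hEK₁']; exact hZ₁E
  · -- `i ≥ 2`
    obtain ⟨i', rfl⟩ : ∃ i', i = i' + 1 := ⟨i - 1, by omega⟩
    have hi' : 1 ≤ i' := by omega
    have hpi : p ≤ p ^ i' := by
      calc p = p ^ 1 := (pow_one p).symm
        _ ≤ p ^ i' := Nat.pow_le_pow_right hppos hi'
    have hcardN : Nat.card ↥K = p ^ i' * Nat.card ↥(nz L E) := by
      rw [hcard, h.norm]; ring
    have hsz : p ^ 2 * Nat.card ↥E ≤ Nat.card ↥K := by
      rw [hcardN, h.norm]
      calc p ^ 2 * Nat.card ↥E = p * (p * Nat.card ↥E) := by ring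
        _ ≤ p ^ i' * (p * Nat.card ↥E) := Nat.mul_le_mul_right _ hpi
    have hsoft := softIn_bar hG h hA hEK hKL hKne hsz
    have hKL' : K ≤ nz L K := le_nz hKL
    have hZE : Zc K ≤ E := fun x hx =>
      h.cent x (hKL (Zc_le K hx)) (fun e he => ((mem_Zc.1 hx).2 e (hEK he)).symm)
    have hL'N : nz L K ≤ Subgroup.normalizer (Zc K : Set G) := fun x hx =>
      mem_normalizer_of_conj_le (fun z hz => conj_mem_Zc (mem_nz.1 hx).2 hz)
    have hKN : K ≤ Subgroup.normalizer (Zc K : Set G) := hKL'.trans hL'N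
    have hdag := dagger hG h hA K hEK hKL hKne hKE
    -- `Z(K) ≠ 1`
    have hZ1 : 1 < Nat.card ↥(Zc K) := by
      rw [Subgroup.one_lt_card_iff_ne_bot]
      intro hbot
      obtain ⟨t, htN, htE⟩ := SetLike.exists_of_lt h.lt_nz
      apply htE
      apply h.cent t (nz_le_left L E htN)
      intro e he
      have := hdag t htN e (hEN₁ he)
      rw [hbot, Subgroup.mem_bot] at this
      have e1 : t * e = (t * e * t⁻¹ * e⁻¹) * (e * t) := by group
      rw [e1, this, one_mul]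
    have hZpos := card_pos' (Zc K)
    have hcL' : Nat.card ↥(nz L K) = p * Nat.card ↥K := hA K hEK hKL hKne
    have hbL' := card_bar ((Zc_le K).trans hKL') hL'N
    have hbK := card_bar (Zc_le K) hKN
    have hbN := card_bar (hZE.trans hEN₁) (hN₁K.trans hKN)
    have hlt : Nat.card ↥(bar (Zc K) (nz L K)) < Nat.card ↥L := by
      have h1 : Nat.card ↥(nz L K) ≤ Nat.card ↥L := Subgroup.card_le_of_le (nz_le_left L K)
      have h2 : 0 < Nat.card ↥(bar (Zc K) (nz L K)) := Nat.card_pos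
      have h3 : Nat.card ↥(bar (Zc K) (nz L K)) * 2 ≤
          Nat.card ↥(bar (Zc K) (nz L K)) * Nat.card ↥(Zc K) := Nat.mul_le_mul_left _ hZ1
      omega
    have hsize' : p ^ 2 * Nat.card ↥(bar (Zc K) (nz L E)) ≤
        Nat.card ↥(bar (Zc K) (nz L K)) := by
      have : p ^ 2 * Nat.card ↥(bar (Zc K) (nz L E)) * Nat.card ↥(Zc K) ≤
          Nat.card ↥(bar (Zc K) (nz L K)) * Nat.card ↥(Zc K) := by
        rw [hbL', hcL', mul_assoc, hbN, hcardN]
        calc p ^ 2 * Nat.card ↥(nz L E) = p * (p * Nat.card ↥(nz L E)) := by ring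
          _ ≤ p * (p ^ i' * Nat.card ↥(nz L E)) :=
            Nat.mul_le_mul_left _ (Nat.mul_le_mul_right _ hpi)
      exact Nat.le_of_mul_le_mul_right this hZpos
    have hQ : IsPGroup p (QZ (Zc K)) :=
      (hG.to_subgroup (Subgroup.normalizer (Zc K : Set G))).to_quotient _
    have hC := ihC (QZ (Zc K)) hQ _ _ hlt hsoft hsize'
    have hKbne : bar (Zc K) K ≠ bar (Zc K) (nz L K) := by
      intro heq
      have h1 : Nat.card ↥K = Nat.card ↥(nz L K) := by rw [← hbK, ← hbL', heq]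
      have h2 := ar1 hp2 (card_pos' K)
      omega
    have hKbcard : Nat.card ↥(bar (Zc K) K) = p ^ i' * Nat.card ↥(bar (Zc K) (nz L E)) := by
      have : Nat.card ↥(bar (Zc K) K) * Nat.card ↥(Zc K) =
          p ^ i' * Nat.card ↥(bar (Zc K) (nz L E)) * Nat.card ↥(Zc K) := by
        rw [hbK, mul_assoc, hbN, hcardN]
      exact Nat.eq_of_mul_eq_mul_right hZpos this
    obtain ⟨hC1, hC2⟩ := hC i' (bar (Zc K) K) hi' (bar_mono hN₁K) (bar_mono hKL') hKbne hKbcard
    rw [uz_bar hKN] at hC1 hC2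
    have hZuz : Zc K ≤ uz K (i' + 1) := by
      rw [← uz_one]; exact uz_mono K (by omega)
    have hbuz := card_bar hZuz ((uz_le K (i' + 1)).trans hKN)
    refine ⟨?_, ?_⟩
    · rw [← hbK, hC1, ← hbuz]; ring
    · intro K₁ hEK₁ hK₁K hK₁c
      have hK₁E : K₁ ≠ E := by
        intro heq
        rw [heq, hcardN, h.norm] at hK₁c
        have h1 : p * Nat.card ↥E ≤ p ^ i' * Nat.card ↥E := Nat.mul_le_mul_right _ hpi
        have h2 : p * (p * Nat.card ↥E) ≤ p ^ i' * (p * Nat.card ↥E) :=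
          Nat.mul_le_mul_right _ hpi
        have h3 := ar1 hp2 (Nat.mul_pos hppos hEpos)
        omega
      have hN₁K₁ : nz L E ≤ K₁ := h.nz_le hG hEK₁ (hK₁K.trans hKL) hK₁E
      have hZK₁ : Zc K ≤ K₁ := (hZE.trans hEN₁).trans hN₁K₁
      have hbK₁ := card_bar hZK₁ (hK₁K.trans hKN)
      have hK₁bc : Nat.card ↥(bar (Zc K) K) = p * Nat.card ↥(bar (Zc K) K₁) := by
        have : Nat.card ↥(bar (Zc K) K) * Nat.card ↥(Zc K) =
            p * Nat.card ↥(bar (Zc K) K₁) * Nat.card ↥(Zc K) := by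
          rw [hbK, mul_assoc, hbK₁, hK₁c]
        exact Nat.eq_of_mul_eq_mul_right hZpos this
      have := hC2 (bar (Zc K) K₁) (bar_mono hN₁K₁) (bar_mono hK₁K) hK₁bc
      exact le_of_bar_le hZK₁ ((uz_le K (i' + 1)).trans hKN) this

/-- The main theorem on soft subgroups, by induction on `|L|` over all finite `p`-groups. -/
theorem main_aux (p : ℕ) [hp : Fact p.Prime] : ∀ (n : ℕ) (G : Type u) [Group G] [Finite G],
    IsPGroup p G → ∀ L E : Subgroup G, Nat.card ↥L = n → SoftIn p L E →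
      p ^ 2 * Nat.card ↥E ≤ Nat.card ↥L → PropA p L E ∧ PropC p L E := by
  intro n
  induction n using Nat.strong_induction_on with
  | _ n ih =>
  intro G _ _ hG L E hn h hsize
  have hA : PropA p L E := propA_step hG h
    (fun L₂ hlt hs hsz => (ih _ (hn ▸ hlt) G hG L₂ E rfl hs hsz).1)
    (fun L₂ hlt hs hsz => (ih _ (hn ▸ hlt) G hG L₂ E rfl hs hsz).2)
  exact ⟨hA, propC_step hG h hA
    (fun Q _ _ hQ L' E' hlt hs hsz => (ih _ (hn ▸ hlt) Q hQ L' E' rfl hs hsz).2)⟩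

theorem soft_main (hG : IsPGroup p G) {L E : Subgroup G} (h : SoftIn p L E)
    (hsize : p ^ 2 * Nat.card ↥E ≤ Nat.card ↥L) : PropA p L E ∧ PropC p L E :=
  main_aux p _ G hG L E rfl h hsize

end Cfsg.Agent.Lib.Helper63.Soft
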