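import Cfsg.Agent.Lib.Helper63.SpUCARDcore
import Cfsg.Agent.Lib.Helper13.SpUTRI
import Cfsg.Agent.Lib.Helper27.SpUNORM
import Cfsg.Agent.Lib.Helper97.SpUUT

/-! # S2316 hive (helper70), leaf SPU-CARD: `|U| = q^(m²)`. -/

set_option autoImplicit false

namespace Cfsg.Agent.Lib.Helper70.SpU

open Matrix Cfsg Cfsg.Agent.Lib.Helper13 Cfsg.Agent.Lib.Helper41.SpBN

universe u

variable {F : Type u} [Field F] {m : ℕ}

/-- SPU-CARD. `|U| = q^(m²)`. -/
theorem card_Usp [Fintype F] : Nat.card (Usp F m) = Fintype.card F ^ (m ^ 2) :=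
  card_core_h63 Bsp_eq_Pl (Pl_le_normalizer _) Usp_sup_T Usp_inf_T

end Cfsg.Agent.Lib.Helper70.SpU
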