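import Cfsg.Agent.Lib.Helper70.SpUDefs
import Cfsg.Agent.Lib.Helper55.SpBN_CARDT
import Cfsg.Agent.Lib.Helper10.Card
import Cfsg.Agent.S0774

/-! # S2316 hive (helper70), leaf SPU-CARD, core: `|U| = q^(m²)` with TRI / NORM / UT as hypotheses. -/

set_option autoImplicit false

namespace Cfsg.Agent.Lib.Helper70.SpU

open Matrix Cfsg Cfsg.Agent.Lib.Helper13 Cfsg.Agent.Lib.Helper41.SpBN

universe u

variable {F : Type u} [Field F] {m : ℕ}

/-- SPU-CARD core: `Bsp_eq_Pl`, `Pl_le_normalizer pos`, `Usp_sup_T`, `Usp_inf_T` as hypotheses. -/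
theorem card_core_h63 [Fintype F]
    (hTRI : Bsp F m = Pl F (pos : Idx m → ℕ))
    (hNORM : Pl F (pos : Idx m → ℕ) ≤ Subgroup.normalizer (Vl F (pos : Idx m → ℕ) : Set (SpG F m)))
    (hsup : Usp F m ⊔ (Bsp F m ⊓ Nsp F m) = Bsp F m)
    (hinf : Usp F m ⊓ (Bsp F m ⊓ Nsp F m) = ⊥) :
    Nat.card (Usp F m) = Fintype.card F ^ (m ^ 2) := by
  have hB : Nat.card (Bsp F m) = Fintype.card F ^ (m ^ 2) * (Fintype.card F - 1) ^ m :=
    Cfsg.Agent.S0774.result rfl m
  have hT : Nat.card (Bsp F m ⊓ Nsp F m : Subgroup (SpG F m)) = (Fintype.card F - 1) ^ m := card_T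
  have hn : (Bsp F m ⊓ Nsp F m : Subgroup (SpG F m)) ≤
      Subgroup.normalizer (Usp F m : Set (SpG F m)) := by
    refine le_trans inf_le_left ?_
    rw [hTRI]
    exact hNORM
  have h1 := Cfsg.Agent.Lib.Helper10.card_sup_mul_card_inf hn
  rw [sup_comm, hsup, inf_comm, hinf, Subgroup.card_bot, mul_one, hB, hT, mul_comm] at h1
  have hq : 1 < Fintype.card F := Fintype.one_lt_card
  have hpos : 0 < (Fintype.card F - 1) ^ m := pow_pos (by omega) m
  exact (Nat.eq_of_mul_eq_mul_left hpos h1).symm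

end Cfsg.Agent.Lib.Helper70.SpU
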