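import Cfsg.Agent.Lib.Helper63.SpUJPcore
import Cfsg.Agent.Lib.Helper74.SpULEV3

/-! # S2316 hive (helper70), leaf SPU-JP: `⟨J⟩ ≤ Pl (lev J)`. -/

set_option autoImplicit false

namespace Cfsg.Agent.Lib.Helper70.SpU

open Matrix Cfsg Cfsg.Agent.Lib.Helper13 Cfsg.Agent.Lib.Helper41.SpBN

universe u

variable {F : Type u} [Field F] {m : ℕ}

/-- SPU-JP. `⟨J⟩ ≤ Pl (lev J)`. -/
theorem closure_le_Pl [Finite F] (J : Set (SpG F m)) (hJ : J ⊆ Ssp F m) :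
    Subgroup.closure J ≤ Pl F (lev J) :=
  jp_closure_le_Pl J hJ (fun _ hσ a => lev_perm J hσ a)

end Cfsg.Agent.Lib.Helper70.SpU
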