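import Cfsg.Agent.Lib.Helper70.SpUDefs

/-! # S2316 hive (helper70), leaf SPU-JP, core: `⟨J⟩ ≤ Pl (lev J)` with `lev_perm` as a hypothesis. -/

set_option autoImplicit false

namespace Cfsg.Agent.Lib.Helper70.SpU

open Matrix Cfsg Cfsg.Agent.Lib.Helper13 Cfsg.Agent.Lib.Helper41.SpBN

universe u

variable {F : Type u} [Field F] {m : ℕ}

/-- SPU-JP core: `lev_perm` as a hypothesis. -/
theorem jp_closure_le_Pl [Finite F] (J : Set (SpG F m)) (hJ : J ⊆ Ssp F m)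
    (hperm : ∀ σ : Equiv.Perm (Idx m), σ ∈ permsOf J → ∀ a : Idx m, lev J (σ a) = lev J a) :
    Subgroup.closure J ≤ Pl F (lev J) := by
  rw [Subgroup.closure_le]
  intro s hs
  obtain ⟨σ, hσ, hsσ⟩ := hJ hs
  show s ∈ Pl F (lev J)
  rw [mem_Pl]
  intro a b hab
  rw [hsσ, monoMat_isMono σ (1 : Fin m → Fˣ) a b, if_neg]
  rintro rfl
  have h1 := hperm σ ⟨hσ, s, hs, hsσ⟩ b
  omega

end Cfsg.Agent.Lib.Helper70.SpU
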